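import Cfsg.Agent.Lib.PushAmalgam.Basic
import Cfsg.Agent.Lib.PushUpTwo.SLFacts
import Cfsg.Agent.Lib.Coprime.Core

/-!
# Pushing up in rank one: the members

A member at `T` is a finite subgroup `H ≥ T` in the pushing-up situation which does not centralize
`Z(T)`. We collect what the offender theorem says about `Q = O_p(H)` and `V = Z(Q)`.
-/

set_option autoImplicit false
set_option linter.style.haveILetI false
set_option linter.unusedSectionVars false

open Subgroup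
open scoped commutatorElement Pointwise
open CfsgLib.PushUp (MA cj mem_cj conj_mem_cj cj_mono card_cj ctr Fr Sit)

namespace CfsgLib.PushAmalgam

universe u

section Group

variable {G : Type u} [Group G] [Finite G] {p : ℕ} [Fact p.Prime] {S : Subgroup G}

theorem Sit.not_le_pCore (sit : Sit p S) : ¬ S ≤ Cfsg.pCore p G := by
  classical
  intro hle
  haveI hSn : S.Normal := by
    rw [le_antisymm hle sit.pCore_le]; exact CfsgLib.PushUp.pCore_normal p G
  obtain ⟨P, hP⟩ := sit.sylow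
  obtain ⟨K, hK, F, _, _, n, hF, ⟨ψ⟩⟩ := sit.psl
  haveI := hK
  haveI : CharP F p := (CfsgLib.PushUp.charP_of_card hF).1
  obtain ⟨π, hπdef⟩ : ∃ π, π = ψ.toMonoidHom.comp (QuotientGroup.mk' K) := ⟨_, rfl⟩
  have hπ : Function.Surjective π := by
    rw [hπdef]; exact ψ.surjective.comp (QuotientGroup.mk'_surjective K)
  obtain ⟨P', hP'⟩ : ∃ P', P' = P.mapSurjective hπ := ⟨_, rfl⟩
  have hPn : (P' : Subgroup (Matrix.ProjectiveSpecialLinearGroup (Fin 2) F)).Normal := by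
    rw [hP', Sylow.coe_mapSurjective, hP]; exact Subgroup.Normal.map hSn π hπ
  have hall : ∀ X : Subgroup (Matrix.ProjectiveSpecialLinearGroup (Fin 2) F), IsPGroup p X →
      X ≤ P' := by
    intro X hX
    haveI := hPn
    have h1 := IsPGroup.to_sup_of_normal_right hX P'.2
    exact le_sup_left.trans (P'.3 h1 le_sup_right).le
  have hzp : ∀ x : Matrix.SpecialLinearGroup (Fin 2) F, x ^ p = 1 →
      CfsgLib.PushUpTwo.toPSL x ∈ P' := by
    intro x hx
    refine hall (zpowers (CfsgLib.PushUpTwo.toPSL x)) (fun ⟨z, hz⟩ => ?_) (mem_zpowers _)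
    obtain ⟨i, rfl⟩ := hz
    refine ⟨1, Subtype.ext ?_⟩
    show (CfsgLib.PushUpTwo.toPSL x ^ i) ^ p ^ 1 = 1
    rw [pow_one, ← zpow_natCast, ← _root_.zpow_mul, mul_comm, _root_.zpow_mul, zpow_natCast,
      ← map_pow, hx, map_one, one_zpow]
  have hpow : ∀ x : Matrix.SpecialLinearGroup (Fin 2) F, (x.1 - 1) * (x.1 - 1) = 0 → x ^ p = 1 := by
    intro x hx
    haveI : CharP (Matrix (Fin 2) (Fin 2) F) p := charP_of_injective_algebraMap
      (algebraMap F (Matrix (Fin 2) (Fin 2) F)).injective p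
    refine CfsgLib.PushUp.sl_pow_p (k := 1) (Subtype.ext ?_)
    rw [pow_one, CfsgLib.ModBound.val_pow, CfsgLib.ModBound.val_one]
    have h2 : (x.1 - 1) ^ p = 0 := by
      rw [show p = 2 + (p - 2) by have := (Fact.out : p.Prime).two_le; omega, pow_add, pow_two, hx,
        zero_mul]
    rwa [sub_pow_char_of_commute p (Commute.one_right x.1), one_pow, sub_eq_zero] at h2
  have htop : (P' : Subgroup (Matrix.ProjectiveSpecialLinearGroup (Fin 2) F)).comap
      (CfsgLib.PushUpTwo.toPSL (F := F)) = ⊤ := by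
    refine CfsgLib.PushUpTwo.eq_top_of_upGroup_le (fun x hx => hzp x (hpow x ?_))
      (x := CfsgLib.PushUpTwo.lo 1) (hzp _ (hpow _ ?_)) CfsgLib.PushUpTwo.lo_not_normalizes
    · rw [CfsgLib.PushUpTwo.eq_up_of_mem hx, CfsgLib.PushUpTwo.up_val]
      ext i j; fin_cases i <;> fin_cases j <;> simp [Matrix.mul_apply, Fin.sum_univ_two]
    · rw [CfsgLib.PushUpTwo.lo_val]
      ext i j; fin_cases i <;> fin_cases j <;> simp [Matrix.mul_apply, Fin.sum_univ_two]
  refine CfsgLib.PushUp.psl_not_pgroup hF fun g => ?_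
  obtain ⟨x, rfl⟩ := QuotientGroup.mk_surjective g
  obtain ⟨k, hk⟩ := P'.2 ⟨_, (htop ▸ mem_top x : x ∈ _)⟩
  exact ⟨k, congrArg Subtype.val hk⟩

theorem Sit.not_normal (sit : Sit p S) : ¬ S.Normal := fun h =>
  Sit.not_le_pCore sit (CfsgLib.PGroup.le_pCore h sit.isPGroup)

theorem Sit.mem_of_cj_le (sit : Sit p S) {M : Subgroup G} (hM : IsCoatom M) (hSM : S ≤ M) {x : G}
    (hx : cj x S ≤ M) : x ∈ M := by
  obtain ⟨M', ⟨hM', hSM'⟩, huniq⟩ := sit.uniq
  have hN : normalizer (S : Set G) ≤ M := by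
    obtain ⟨N', hN', hle⟩ := (eq_top_or_exists_le_coatom (normalizer (S : Set G))).resolve_left
      fun e => Sit.not_normal sit (normalizer_eq_top_iff.1 e)
    rw [huniq M ⟨hM, hSM⟩, ← huniq N' ⟨hN', Subgroup.le_normalizer.trans hle⟩]
    exact hle
  obtain ⟨P, rfl⟩ := sit.sylow
  have hxP : ((x • P : Sylow p G) : Subgroup G) = cj x (P : Subgroup G) := rfl
  obtain ⟨m, hm⟩ := MulAction.exists_smul_eq ↥M ((x • P).subtype (hxP ▸ hx)) (P.subtype hSM)
  have h1 : cj ((m : G) * x) (P : Subgroup G) = P := by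
    have h2 := congrArg (fun R : Sylow p ↥M => (R : Subgroup ↥M).map M.subtype) hm
    simp only [Sylow.coe_subtype, Sylow.coe_subgroup_smul, map_subgroupOf_eq_of_le hSM] at h2
    conv_rhs => rw [← h2]
    rw [cj_mul]
    ext y
    constructor
    · intro hy
      obtain ⟨z, hz, rfl⟩ := hy
      exact ⟨m * ⟨z, hx hz⟩ * m⁻¹, ⟨⟨z, hx hz⟩, hz, rfl⟩, rfl⟩
    · rintro ⟨_, ⟨z, hz, rfl⟩, rfl⟩
      exact ⟨z, hz, rfl⟩
  have h3 : (m : G) * x ∈ normalizer ((P : Subgroup G) : Set G) :=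
    CfsgLib.PushUp.mem_normalizer_of_forall (fun y hy => h1.le (conj_mem_cj hy))
      fun y hy => mem_cj.1 (h1.ge hy)
  simpa using M.mul_mem (M.inv_mem m.2) (hN h3)

theorem Sit.gen (sit : Sit p S) {y : G} (hy : y ∈ S) (hyQ : y ∉ Cfsg.pCore p G) :
    ∃ h : G, cj h S ⊔ cj y (cj h S) = ⊤ := by
  obtain ⟨M, ⟨hM, hSM⟩, huniq⟩ := sit.uniq
  by_contra hno
  push Not at hno
  refine hyQ ?_
  have hcore : y ∈ M.normalCore := by
    intro h
    obtain ⟨W, hW, hle⟩ := (eq_top_or_exists_le_coatom _).resolve_left (hno h⁻¹)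
    have e : cj h W = M := by
      refine huniq _ ⟨(OrderIso.isCoatom_iff (MulAut.conj h).mapSubgroup W).2 hW, ?_⟩
      have h1 := cj_mono (g := h) (le_sup_left.trans hle)
      rwa [← cj_mul, mul_inv_cancel, cj_one] at h1
    refine Sit.mem_of_cj_le sit hM hSM ?_
    have h1 := cj_mono (g := h) (le_sup_right.trans hle)
    rwa [← cj_mul, ← cj_mul, e] at h1
  rcases sit.sup_or M.normalCore with h | h
  · exact h ⟨hy, hcore⟩
  · exact absurd (top_le_iff.1 (h ▸ sup_le (normalCore_le M) hSM)) hM.1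

theorem Sit.gen_mem (sit : Sit p S) {X : Subgroup G} (hX : X ⊔ S = ⊤) :
    ∃ a ∈ X, S ⊔ cj a S = ⊤ := by
  obtain ⟨M, ⟨hM, hSM⟩, huniq⟩ := sit.uniq
  by_contra hno
  push Not at hno
  refine hM.1 (top_le_iff.1 (hX ▸ sup_le (fun a ha => ?_) hSM))
  obtain ⟨W, hW, hle⟩ := (eq_top_or_exists_le_coatom _).resolve_left (hno a ha)
  refine Sit.mem_of_cj_le sit hM hSM ?_
  rw [← huniq W ⟨hW, le_sup_left.trans hle⟩]
  exact le_sup_right.trans hle

theorem pCore_map_le {G' : Type u} [Group G'] [Finite G'] (e : G ≃* G') :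
    (Cfsg.pCore p G).map e.toMonoidHom ≤ Cfsg.pCore p G' :=
  CfsgLib.PGroup.le_pCore (Subgroup.Normal.map (CfsgLib.PushUp.pCore_normal p G) _ e.surjective)
    ((CfsgLib.Coprime.pCore_isPGroup p).map _)

theorem pCore_map_equiv {G' : Type u} [Group G'] [Finite G'] (e : G ≃* G') :
    (Cfsg.pCore p G).map e.toMonoidHom = Cfsg.pCore p G' := by
  refine le_antisymm (pCore_map_le e) fun x hx => ⟨e.symm x, pCore_map_le e.symm ⟨x, hx, rfl⟩, ?_⟩
  exact e.apply_symm_apply x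

theorem Sit.map_equiv {G' : Type u} [Group G'] [Finite G'] (sit : Sit p S) (e : G ≃* G') :
    Sit p (S.map e.toMonoidHom) := by
  classical
  refine ⟨?_, ?_, ?_, ?_⟩
  · obtain ⟨P, hP⟩ := sit.sylow
    have he : Function.Surjective e.toMonoidHom := e.surjective
    exact ⟨P.mapSurjective he, by rw [Sylow.coe_mapSurjective, hP]⟩
  · intro x hx
    refine (pCore_map_equiv e).le ⟨e.symm x, sit.constr ?_, e.apply_symm_apply x⟩
    refine mem_centralizer_iff.2 fun y hy => e.injective ?_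
    rw [map_mul, map_mul, e.apply_symm_apply]
    exact mem_centralizer_iff.1 hx _ ((pCore_map_equiv e).le ⟨y, hy, rfl⟩)
  · obtain ⟨M, ⟨hM, hSM⟩, huniq⟩ := sit.uniq
    refine ⟨M.map e.toMonoidHom, ⟨(OrderIso.isCoatom_iff e.mapSubgroup M).2 hM, map_mono hSM⟩, ?_⟩
    rintro N ⟨hN, hSN⟩
    obtain ⟨M', rfl⟩ := e.mapSubgroup.surjective N
    rw [huniq M' ⟨(OrderIso.isCoatom_iff e.mapSubgroup M').1 hN,
      (map_le_map_iff_of_injective e.injective).1 hSN⟩]
    rfl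
  · obtain ⟨K, hK, F, iF, iFt, n, hF, ⟨ψ⟩⟩ := sit.psl
    haveI := hK
    haveI hK' : (K.map e.toMonoidHom).Normal := Subgroup.Normal.map hK _ e.surjective
    exact ⟨K.map e.toMonoidHom, hK', F, iF, iFt, n, hF,
      ⟨(QuotientGroup.congr K (K.map e.toMonoidHom) e rfl).symm.trans ψ⟩⟩

end Group

variable {Γ : Type u} [Group Γ]

/-- `O_p(H)` in the ambient group. -/
def Qo (p : ℕ) (H : Subgroup Γ) : Subgroup Γ := Cfsg.pCoreOf p H

/-- The centre of `O_p(H)` in the ambient group. -/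
def Vo (p : ℕ) (H : Subgroup Γ) : Subgroup Γ := ctr (Qo p H)

/-- A member at `T`. -/
structure Good (p : ℕ) (T H : Subgroup Γ) : Prop where
  fin : Finite H
  le : T ≤ H
  sit : Sit p (T.subgroupOf H)
  moved : ¬ ctr T ≤ centralizer (H : Set Γ)

variable {p : ℕ} [Fact p.Prime] {T T' H : Subgroup Γ}

theorem Qo_cj (γ : Γ) (H : Subgroup Γ) [Finite H] : Qo p (cj γ H) = cj γ (Qo p H) := by
  haveI := finite_cj γ H
  obtain ⟨e, he⟩ : ∃ e : ↥H ≃* ↥(cj γ H), ∀ x : ↥H, (e x : Γ) = γ * x * γ⁻¹ :=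
    ⟨H.equivMapOfInjective (MulAut.conj γ).toMonoidHom (MulAut.conj γ).injective, fun _ => rfl⟩
  ext y
  constructor
  · rintro ⟨z, hz, rfl⟩
    obtain ⟨x, hx, rfl⟩ := (pCore_map_equiv e).ge hz
    exact ⟨x, ⟨x, hx, rfl⟩, (he x).symm⟩
  · rintro ⟨_, ⟨x, hx, rfl⟩, rfl⟩
    exact ⟨e x, (pCore_map_equiv e).le ⟨x, hx, rfl⟩, he x⟩

theorem Good.conj (h : Good p T H) (γ : Γ) : Good p (cj γ T) (cj γ H) := by
  haveI := h.fin
  haveI := finite_cj γ H
  obtain ⟨e, he⟩ : ∃ e : ↥H ≃* ↥(cj γ H), ∀ x : ↥H, (e x : Γ) = γ * x * γ⁻¹ :=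
    ⟨H.equivMapOfInjective (MulAut.conj γ).toMonoidHom (MulAut.conj γ).injective, fun _ => rfl⟩
  refine ⟨inferInstance, cj_mono h.le, ?_, fun hc => h.moved ?_⟩
  · have heq : (cj γ T).subgroupOf (cj γ H) = (T.subgroupOf H).map e.toMonoidHom := by
      refine map_injective (cj γ H).subtype_injective ?_
      rw [map_subgroupOf_eq_of_le (cj_mono h.le), map_map]
      ext y
      constructor
      · rintro ⟨x, hx, rfl⟩
        exact ⟨⟨x, h.le hx⟩, hx, he ⟨x, h.le hx⟩⟩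
      · rintro ⟨x, hx, rfl⟩
        exact ⟨x, hx, (he x).symm⟩
    rw [heq]
    exact Sit.map_equiv h.sit e
  · rwa [← cj_ctr, ← cj_centralizer, cj_le_iff] at hc

theorem Good.cjH (_h : Good p T H) {x : Γ} (hx : x ∈ H) : cj x H = H :=
  CfsgLib.PushUp.cj_eq_of_mem_normalizer (Subgroup.le_normalizer hx)

theorem Good.edge (h : Good p T H) {x : Γ} (hx : x ∈ H) : Good p (cj x T) H := by
  have := h.conj x
  rwa [h.cjH hx] at this

theorem Good.isP (h : Good p T H) : IsPGroup p T := by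
  haveI := h.fin
  have := h.sit.isPGroup.map H.subtype
  rwa [map_subgroupOf_eq_of_le h.le] at this

theorem Good.Q_le (h : Good p T H) : Qo p H ≤ T := by
  haveI := h.fin
  exact (map_mono h.sit.pCore_le).trans (map_subgroupOf_eq_of_le h.le).le

theorem Qo_le (H : Subgroup Γ) : Qo p H ≤ H := map_subtype_le _

theorem Vo_le_Qo (H : Subgroup Γ) : Vo p H ≤ Qo p H := CfsgLib.PushUp.ctr_le _

theorem Vo_cj (γ : Γ) (H : Subgroup Γ) [Finite H] : Vo p (cj γ H) = cj γ (Vo p H) := by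
  rw [Vo, Vo, Qo_cj, cj_ctr]

theorem Good.cjQ (h : Good p T H) {x : Γ} (hx : x ∈ H) : cj x (Qo p H) = Qo p H := by
  haveI := h.fin
  rw [← Qo_cj, h.cjH hx]

theorem Good.normQ (h : Good p T H) : H ≤ normalizer (Qo p H : Set Γ) := fun _ hx =>
  CfsgLib.PushUp.mem_normalizer_of_forall (fun _ hy => (h.cjQ hx).le (conj_mem_cj hy))
    fun _ hy => mem_cj.1 ((h.cjQ hx).ge hy)

theorem Good.normV (h : Good p T H) : H ≤ normalizer (Vo p H : Set Γ) :=
  h.normQ.trans (normalizer_le_ctr _)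

theorem Good.mem_Qo (_h : Good p T H) {x : Γ} (hx : x ∈ H) :
    x ∈ Qo p H ↔ (⟨x, hx⟩ : ↥H) ∈ Cfsg.pCore p ↥H :=
  ⟨fun ⟨y, hy, e⟩ => (show y = ⟨x, hx⟩ from Subtype.ext e) ▸ hy, fun hh => ⟨_, hh, rfl⟩⟩

theorem Good.self_cent (h : Good p T H) : H ⊓ centralizer (Qo p H : Set Γ) ≤ Qo p H := by
  rintro x ⟨hx, hc⟩
  exact (h.mem_Qo hx).2 (h.sit.constr (mem_centralizer_iff.2 fun y hy =>
    Subtype.ext (mem_centralizer_iff.1 hc _ ⟨y, hy, rfl⟩)))

theorem Good.not_le_Q (h : Good p T H) : ¬ T ≤ Qo p H := by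
  haveI := h.fin
  exact fun hle => Sit.not_le_pCore h.sit fun x hx => (h.mem_Qo x.2).1 (hle hx)

theorem Good.cjsub (_h : Good p T H) {T'' : Subgroup Γ} (x : ↥H) (hT : T'' ≤ H) :
    (cj x (T''.subgroupOf H)).map H.subtype = cj (x : Γ) T'' := by
  rw [cj, map_map]
  conv_rhs => rw [← map_subgroupOf_eq_of_le hT, cj, map_map]
  exact congrArg (fun f => (T''.subgroupOf H).map f) (MonoidHom.ext fun _ => rfl)

theorem Good.gen (h : Good p T H) {y : Γ} (hy : y ∈ T) (hyQ : y ∉ Qo p H) :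
    ∃ x ∈ H, cj x T ⊔ cj y (cj x T) = H := by
  haveI := h.fin
  obtain ⟨x, hx⟩ := Sit.gen h.sit (S := T.subgroupOf H) (y := ⟨y, h.le hy⟩) hy
    fun hh => hyQ ((h.mem_Qo (h.le hy)).2 hh)
  refine ⟨x, x.2, ?_⟩
  have := congrArg (Subgroup.map H.subtype) hx
  rw [Subgroup.map_sup, ← MonoidHom.range_eq_map, range_subtype, ← cj_mul, h.cjsub _ h.le,
    h.cjsub _ h.le] at this
  rwa [← cj_mul]

theorem Good.gen_mem (h : Good p T H) {X : Subgroup Γ} (hX : X ⊔ T = H) :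
    ∃ a ∈ X, T ⊔ cj a T = H := by
  haveI := h.fin
  have hXH : X ≤ H := le_sup_left.trans hX.le
  obtain ⟨a, ha, hh⟩ := Sit.gen_mem h.sit (X := X.subgroupOf H)
    (by rw [← subgroupOf_sup hXH h.le, hX, subgroupOf_self])
  refine ⟨a, ha, ?_⟩
  have := congrArg (Subgroup.map H.subtype) hh
  rwa [Subgroup.map_sup, ← MonoidHom.range_eq_map, range_subtype, h.cjsub _ h.le,
    map_subgroupOf_eq_of_le h.le] at this

theorem Good.exists_opp (h : Good p T H) : ∃ x ∈ H, T ⊔ cj x T = H := by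
  obtain ⟨a, ha, e⟩ := h.gen_mem (X := H) (sup_eq_left.2 h.le)
  exact ⟨a, ha, e⟩

theorem Good.conjugate (h : Good p T H) (h' : Good p T' H) : ∃ x ∈ H, T' = cj x T := by
  haveI := h.fin
  obtain ⟨P, hP⟩ := h.sit.sylow
  obtain ⟨P', hP'⟩ := h'.sit.sylow
  obtain ⟨x, hx⟩ := MulAction.exists_smul_eq ↥H P P'
  refine ⟨x, x.2, ?_⟩
  have := congrArg (fun R : Sylow p ↥H => (R : Subgroup ↥H).map H.subtype) hx
  simp only [Sylow.coe_subgroup_smul] at this
  rw [hP', map_subgroupOf_eq_of_le h'.le, ← h.cjsub x h.le, ← hP] at *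
  rw [← this]
  rfl

theorem Good.sup_or (h : Good p T H) {N : Subgroup Γ} (hN : N ≤ H)
    (hn : H ≤ normalizer (N : Set Γ)) : T ⊓ N ≤ Qo p H ∨ N ⊔ T = H := by
  haveI := h.fin
  haveI : (N.subgroupOf H).Normal := (normal_subgroupOf_iff_le_normalizer hN).2 hn
  rcases h.sit.sup_or (N.subgroupOf H) with h1 | h1
  · exact Or.inl fun x hx => (h.mem_Qo (hN hx.2)).2 (h1 ⟨hx.1, hx.2⟩)
  · right
    have := congrArg (Subgroup.map H.subtype) h1
    rwa [Subgroup.map_sup, ← MonoidHom.range_eq_map, range_subtype, map_subgroupOf_eq_of_le hN,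
      map_subgroupOf_eq_of_le h.le] at this

/-- An element centralized by two generating edges is centralized by the member. -/
theorem cent_of_sup {X Y : Subgroup Γ} (e : X ⊔ Y = H) {c : Γ} (hX : c ∈ centralizer (X : Set Γ))
    (hY : c ∈ centralizer (Y : Set Γ)) : c ∈ centralizer (H : Set Γ) := by
  rw [← e, CfsgLib.CDLat.centralizer_sup]
  exact ⟨hX, hY⟩

theorem Good.cent_of_conj (h : Good p T H) {c : Γ}
    (hc : ∀ x ∈ H, x * c * x⁻¹ ∈ centralizer (T : Set Γ)) : c ∈ centralizer (H : Set Γ) := by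
  obtain ⟨x, hx, e⟩ := h.exists_opp
  refine cent_of_sup e (by simpa using hc 1 (one_mem H)) ?_
  rw [← cj_centralizer, mem_cj]
  simpa using hc x⁻¹ (inv_mem hx)

end CfsgLib.PushAmalgam
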