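import Cfsg.Agent.Lib.PushUp.CentrallyLarge

/-!
# Invariance of the centrally large subgroups under isomorphisms
-/

set_option autoImplicit false
set_option linter.style.haveILetI false
set_option linter.unusedSectionVars false

open Subgroup

namespace CfsgLib.PushAmalgam

universe u v

variable {G : Type u} [Group G] {H : Type v} [Group H] (e : G ≃* H)

include e

theorem map_symm_map (X : Subgroup H) : (X.map e.symm.toMonoidHom).map e.toMonoidHom = X := by
  rw [map_map, show e.toMonoidHom.comp e.symm.toMonoidHom = MonoidHom.id H from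
    MonoidHom.ext e.apply_symm_apply, map_id]

theorem center_measure_map (X : Subgroup G) :
    Nat.card ↥(X.map e.toMonoidHom) * Nat.card ↥(center ↥(X.map e.toMonoidHom)) =
      Nat.card ↥X * Nat.card ↥(center ↥X) := by
  have f := X.equivMapOfInjective e.toMonoidHom e.injective
  rw [Nat.card_congr (centerCongr f.symm).toEquiv, Nat.card_congr f.symm.toEquiv]

theorem maxCentralProduct_congr : Cfsg.maxCentralProduct H = Cfsg.maxCentralProduct G := by
  unfold Cfsg.maxCentralProduct
  congr 1
  ext k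
  constructor
  · rintro ⟨R, rfl⟩
    exact ⟨R.map e.symm.toMonoidHom, center_measure_map e.symm R⟩
  · rintro ⟨R, rfl⟩
    exact ⟨R.map e.toMonoidHom, center_measure_map e R⟩

theorem cl_map {X : Subgroup G} (h : Cfsg.IsCentrallyLarge X) :
    Cfsg.IsCentrallyLarge (X.map e.toMonoidHom) := by
  unfold Cfsg.IsCentrallyLarge at *
  rw [center_measure_map, maxCentralProduct_congr e, h]

theorem mcl_map_equiv {X : Subgroup G} (h : Cfsg.IsMinimalCentrallyLarge X) :
    Cfsg.IsMinimalCentrallyLarge (X.map e.toMonoidHom) := by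
  refine ⟨cl_map e h.1, fun R hR hcl => ?_⟩
  have h1 := h.2 (R.map e.symm.toMonoidHom) ?_ (cl_map e.symm hcl)
  · rw [← map_symm_map e R, h1]
  · refine (map_mono hR).trans (le_of_eq ?_)
    exact map_symm_map e.symm X

theorem mclJoin_map_le :
    (Cfsg.minimalCentrallyLargeJoin G).map e.toMonoidHom ≤ Cfsg.minimalCentrallyLargeJoin H :=
  map_le_iff_le_comap.2 (sSup_le fun _ hX => map_le_iff_le_comap.1 (le_sSup (mcl_map_equiv e hX)))

theorem mclJoin_map :
    (Cfsg.minimalCentrallyLargeJoin G).map e.toMonoidHom = Cfsg.minimalCentrallyLargeJoin H :=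
  le_antisymm (mclJoin_map_le e)
    ((map_symm_map e _).ge.trans (map_mono (mclJoin_map_le e.symm)))

theorem omega_card (p : ℕ) (X : Subgroup G) :
    Nat.card ↥(Cfsg.omegaOneCenter p (X.map e.toMonoidHom)) = Nat.card ↥(Cfsg.omegaOneCenter p X) := by
  show Nat.card ↥(Cfsg.omegaOne p (CfsgLib.PushUp.ctr (X.map e.toMonoidHom))) = _
  rw [← CfsgLib.PushUp.omega_ctr_map e.injective]
  exact card_map_of_injective e.injective

theorem maxOmega_congr (p : ℕ) :
    Cfsg.maxOmegaCenterOfMinimalCL p H = Cfsg.maxOmegaCenterOfMinimalCL p G := by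
  unfold Cfsg.maxOmegaCenterOfMinimalCL
  congr 1
  ext k
  constructor
  · rintro ⟨Q, hQ, rfl⟩
    exact ⟨Q.map e.symm.toMonoidHom, mcl_map_equiv e.symm hQ, omega_card e.symm p Q⟩
  · rintro ⟨Q, hQ, rfl⟩
    exact ⟨Q.map e.toMonoidHom, mcl_map_equiv e hQ, omega_card e p Q⟩

theorem frattiniJoin_map_le (p : ℕ) :
    (Cfsg.frattiniOfMinimalCLJoin p G).map e.toMonoidHom ≤ Cfsg.frattiniOfMinimalCLJoin p H := by
  unfold Cfsg.frattiniOfMinimalCLJoin
  rw [Subgroup.map_iSup]
  refine iSup_le fun Q => le_iSup_of_le ⟨(Q : Subgroup G).map e.toMonoidHom, mcl_map_equiv e Q.2.1,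
    by rw [omega_card, maxOmega_congr e, Q.2.2]⟩ (le_of_eq ?_)
  exact (CfsgLib.PushUp.Fr_map e.injective _).symm

theorem frattiniJoin_map (p : ℕ) :
    (Cfsg.frattiniOfMinimalCLJoin p G).map e.toMonoidHom = Cfsg.frattiniOfMinimalCLJoin p H :=
  le_antisymm (frattiniJoin_map_le e p)
    ((map_symm_map e _).ge.trans (map_mono (frattiniJoin_map_le e.symm p)))

theorem maxAb_map {A : Subgroup G} (h : A ∈ Cfsg.maxAbelianSubgroups G) :
    A.map e.toMonoidHom ∈ Cfsg.maxAbelianSubgroups H := by
  haveI := h.1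
  refine ⟨inferInstance, fun B hB => ?_⟩
  haveI := hB
  rw [card_map_of_injective e.injective, ← card_map_of_injective (K := B) (f := e.symm.toMonoidHom) e.symm.injective]
  exact h.2 _ inferInstance

theorem thompsonA_map :
    (Cfsg.thompsonSubgroupA G).map e.toMonoidHom = Cfsg.thompsonSubgroupA H :=
  le_antisymm (map_le_iff_le_comap.2 (sSup_le fun _ hA => map_le_iff_le_comap.1 (le_sSup (maxAb_map e hA))))
    ((map_symm_map e _).ge.trans (map_mono (map_le_iff_le_comap.2 (sSup_le fun _ hA =>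
      map_le_iff_le_comap.1 (le_sSup (maxAb_map e.symm hA))))))

end CfsgLib.PushAmalgam
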