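import Cfsg.Agent.Lib.PushAmalgam.Embed
import Cfsg.Agent.Lib.PushAmalgam.Iso
import Cfsg.Agent.S3007
import Cfsg.Agent.S3008
import Cfsg.Agent.Lib.Coprime.Solvable

/-!
# Pushing up in rank one: reduction to the reduced situation

A nontrivial finite `p`-group has either a pair of characteristic subgroups controlling every pushing-up
situation, or belongs to the exceptional class.
-/

set_option autoImplicit false
set_option linter.style.haveILetI false
set_option linter.unusedSectionVars false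

open Subgroup
open scoped commutatorElement Pointwise
open CfsgLib.PushUp (MA ctr Fr Sit MCL)

namespace CfsgLib.PushAmalgam

universe u

/-- The characteristic subgroup measuring the deviation from the exceptional class. -/
def bigS0 (p : ℕ) (S : Type u) [Group S] : Subgroup S :=
  if p = 2 then ⁅frattini S, (⊤ : Subgroup S)⁆ ⊔ Fr (frattini S)
  else if p = 3 then ⁅⁅frattini S, (⊤ : Subgroup S)⁆, (⊤ : Subgroup S)⁆ ⊔ Fr (frattini S)
  else ⁅frattini S, (⊤ : Subgroup S)⁆ ⊔ Cfsg.powerClosure p 1 (⊤ : Subgroup S)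

/-- The centre of the Thompson subgroup. -/
def zJ (S : Type u) [Group S] : Subgroup S :=
  Cfsg.thompsonSubgroupA S ⊓ centralizer (Cfsg.thompsonSubgroupA S : Set S)

/-- A pair of characteristic subgroups one of which is normal in every pushing-up situation. -/
def HasPair (p : ℕ) (S : Type u) [Group S] : Prop :=
  ∃ S₁ S₂ : Subgroup S, S₁ ≠ ⊥ ∧ S₂ ≠ ⊥ ∧ S₁.Characteristic ∧ S₂.Characteristic ∧ S₁ ≤ center S ∧
    S₂ ≤ centralizer (zJ S : Set S) ∧ (S₂.subgroupOf (centralizer (zJ S : Set S))).Characteristic ∧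
    Cfsg.maxCentralProduct ↥S₂ = Cfsg.maxCentralProduct ↥(centralizer (zJ S : Set S)) ∧
    ∀ (G : Type u) [Group G] [Finite G] (τ : S →* G), Function.Injective τ → Sit p τ.range →
      (S₁.map τ).Normal ∨ (S₂.map τ).Normal

/-- The exceptional class. -/
structure Exceptional (p : ℕ) (S : Type u) [Group S] : Prop where
  red : Reduced p S
  mcl : ∀ Q : Subgroup S, Cfsg.IsMinimalCentrallyLarge Q ↔ Q ∈ Cfsg.maxAbelianSubgroups S
  zero : bigS0 p S = ⊥
  nonab : ¬ IsMulCommutative S

section Transfer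

variable {S : Type u} [Group S] {G : Type u} [Group G] {τ : S →* G}

theorem map_cent (hτ : Function.Injective τ) (X : Subgroup S) :
    (centralizer (X : Set S)).map τ = τ.range ⊓ centralizer (X.map τ : Set G) := by
  ext y
  constructor
  · rintro ⟨s, hs, rfl⟩
    refine mem_inf.2 ⟨⟨s, rfl⟩, mem_centralizer_iff.2 ?_⟩
    rintro _ ⟨x, hx, rfl⟩
    rw [← map_mul, ← map_mul, mem_centralizer_iff.1 hs x hx]
  · intro hy
    obtain ⟨s, rfl⟩ := (mem_inf.1 hy).1
    exact ⟨s, mem_centralizer_iff.2 fun x hx => hτ (by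
      rw [map_mul, map_mul]
      exact mem_centralizer_iff.1 (mem_inf.1 hy).2 _ ⟨x, hx, rfl⟩), rfl⟩

theorem center_map (hτ : Function.Injective τ) :
    (center S).map τ = τ.range ⊓ centralizer (τ.range : Set G) := by
  rw [← centralizer_univ, ← coe_top, map_cent hτ, ← MonoidHom.range_eq_map]

theorem map_eq_map_subtype (hτ : Function.Injective τ) (X : Subgroup S) :
    (X.map (MonoidHom.ofInjective hτ).toMonoidHom).map τ.range.subtype = X.map τ := by
  rw [map_map]
  rfl

theorem thompsonAOf_map (hτ : Function.Injective τ) :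
    Cfsg.thompsonSubgroupAOf τ.range = (Cfsg.thompsonSubgroupA S).map τ := by
  rw [Cfsg.thompsonSubgroupAOf, ← thompsonA_map (MonoidHom.ofInjective hτ), map_eq_map_subtype hτ]

theorem centerThompson_map (hτ : Function.Injective τ) :
    Cfsg.centerThompsonAOf τ.range = (zJ S).map τ := by
  rw [zJ, map_inf _ _ _ hτ, map_cent hτ, Cfsg.centerThompsonAOf, thompsonAOf_map hτ, ← inf_assoc,
    inf_eq_left.2 (map_le_range τ _)]

theorem mclJoin_image [Finite G] (hτ : Function.Injective τ) :
    (Cfsg.minimalCentrallyLargeJoin S).map τ = sSup {R | MCL τ.range R} := by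
  rw [← map_eq_map_subtype hτ, mclJoin_map, Cfsg.minimalCentrallyLargeJoin]
  refine le_antisymm (map_le_iff_le_comap.2 (sSup_le fun X hX =>
    map_le_iff_le_comap.1 (le_sSup (CfsgLib.PushUp.mcl_map.2 hX)))) (sSup_le ?_)
  intro R hR
  obtain ⟨hR1, hR2⟩ : R ≤ τ.range ∧ Cfsg.IsMinimalCentrallyLarge (R.subgroupOf τ.range) := hR
  rw [← map_subgroupOf_eq_of_le hR1]
  exact map_mono (le_sSup hR2)

theorem frattiniJoin_image (hτ : Function.Injective τ) (p : ℕ) :
    (Cfsg.frattiniOfMinimalCLJoin p S).map τ =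
      (Cfsg.frattiniOfMinimalCLJoin p ↥τ.range).map τ.range.subtype := by
  rw [← map_eq_map_subtype hτ, frattiniJoin_map]

end Transfer

section Char

variable {S : Type u} [Group S]

theorem centralizer_char {X : Subgroup S} (hX : X.Characteristic) :
    (centralizer (X : Set S)).Characteristic := by
  refine characteristic_iff_map_le.2 fun φ => ?_
  rintro _ ⟨c, hc, rfl⟩
  refine mem_centralizer_iff.2 fun x hx => φ.symm.injective ?_
  rw [map_mul, map_mul, show φ.symm (φ.toMonoidHom c) = c from φ.symm_apply_apply c]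
  exact mem_centralizer_iff.1 hc _ (characteristic_iff_map_le.1 hX φ.symm ⟨x, hx, rfl⟩)

theorem zJ_char : (zJ S).Characteristic := by
  have h : (Cfsg.thompsonSubgroupA S).Characteristic :=
    characteristic_iff_map_eq.2 fun φ => thompsonA_map φ
  haveI := centralizer_char h
  haveI := h
  exact characteristic_iff_map_eq.2 fun φ => by
    rw [zJ, map_inf _ _ _ φ.injective, characteristic_iff_map_eq.1 h φ,
      characteristic_iff_map_eq.1 (centralizer_char h) φ]

theorem inf_center_char {X : Subgroup S} (hX : X.Characteristic) :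
    (X ⊓ center S).Characteristic := by
  refine characteristic_iff_map_eq.2 fun φ => ?_
  rw [map_inf _ _ _ φ.injective, characteristic_iff_map_eq.1 hX φ,
    characteristic_iff_map_eq.1 (inferInstance : (center S).Characteristic) φ]

theorem powerClosure_map {T : Type u} [Group T] (f : S →* T) (p : ℕ) (X : Subgroup S) :
    (Cfsg.powerClosure p 1 X).map f = Cfsg.powerClosure p 1 (X.map f) := by
  rw [Cfsg.powerClosure, Cfsg.powerClosure, MonoidHom.map_closure]
  congr 1
  ext y
  constructor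
  · rintro ⟨_, ⟨x, hx, rfl⟩, rfl⟩
    exact ⟨f x, mem_map_of_mem f hx, map_pow _ _ _⟩
  · rintro ⟨_, ⟨x, hx, rfl⟩, rfl⟩
    exact ⟨_, ⟨x, hx, rfl⟩, map_pow _ _ _⟩

theorem bigS0_char (p : ℕ) : (bigS0 p S).Characteristic := by
  refine characteristic_iff_map_eq.2 fun φ => ?_
  have hΦ : (frattini S).map φ.toMonoidHom = frattini S :=
    characteristic_iff_map_eq.1 inferInstance φ
  have htop : (⊤ : Subgroup S).map φ.toMonoidHom = ⊤ := map_top_of_surjective _ φ.surjective
  have hFr : (Fr (frattini S)).map φ.toMonoidHom = Fr (frattini S) := by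
    rw [← CfsgLib.PushUp.Fr_map (f := φ.toMonoidHom) φ.injective, hΦ]
  rw [bigS0]
  split_ifs <;>
    simp only [Subgroup.map_sup, map_commutator, powerClosure_map, hΦ, htop, hFr]

theorem char_subgroupOf_self (D : Subgroup S) : (D.subgroupOf D).Characteristic := by
  rw [subgroupOf_self]
  infer_instance

theorem char_subgroupOf_top {D X : Subgroup S} (hD : D = ⊤) (hX : X.Characteristic) :
    (X.subgroupOf D).Characteristic := by
  subst hD
  refine characteristic_iff_map_le.2 fun φ => ?_
  rintro _ ⟨x, hx, rfl⟩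
  have h := characteristic_iff_map_le.1 hX ((topEquiv.symm.trans φ).trans topEquiv)
    ⟨(x : S), hx, rfl⟩
  exact mem_subgroupOf.2 h

theorem frattini_top [Finite S] : Fr (⊤ : Subgroup S) = frattini S := by
  refine le_antisymm ?_ fun x hx => ?_
  · exact CfsgLib.Coprime.map_frattini_le_of_surjective
      (f := (⊤ : Subgroup S).subtype) fun x => ⟨⟨x, mem_top x⟩, rfl⟩
  · exact ⟨topEquiv.symm x, CfsgLib.Coprime.map_frattini_le_of_surjective
      (f := (topEquiv (G := S)).symm.toMonoidHom) (topEquiv (G := S)).symm.surjective ⟨x, hx, rfl⟩, rfl⟩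

end Char

section Measure

variable {S : Type u} [Group S] [Finite S]

theorem maxCP_top {D : Subgroup S} (hD : D = ⊤) :
    Cfsg.maxCentralProduct ↥D = Cfsg.maxCentralProduct S := by
  subst hD
  exact (maxCentralProduct_congr (topEquiv (G := S))).symm

theorem maxCP_of_cl_le {X R : Subgroup S} (hR : R ≤ X) (hcl : Cfsg.IsCentrallyLarge R) :
    Cfsg.maxCentralProduct ↥X = Cfsg.maxCentralProduct S := by
  refine le_antisymm ?_ ?_
  · obtain ⟨Q, hQ⟩ := CfsgLib.CDLat.exists_cl (G := ↥X)
    rw [← hQ]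
    have f := Q.equivMapOfInjective X.subtype X.subtype_injective
    rw [Nat.card_congr (centerCongr f).toEquiv, Nat.card_congr f.toEquiv]
    exact CfsgLib.CDLat.central_measure_le_max _
  · rw [← hcl]
    have f := subgroupOfEquivOfLe hR
    rw [← Nat.card_congr (centerCongr f).toEquiv, ← Nat.card_congr f.toEquiv]
    exact CfsgLib.CDLat.central_measure_le_max _

theorem ne_bot_of_cl [Nontrivial S] {p : ℕ} [Fact p.Prime] (hS : IsPGroup p S) {Q : Subgroup S}
    (hQ : Cfsg.IsCentrallyLarge Q) : Q ≠ ⊥ := by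
  intro e
  have h1 := CfsgLib.CDLat.central_measure_le_max (⊤ : Subgroup S)
  rw [← hQ] at h1
  have h2 : 1 < Nat.card ↥(⊤ : Subgroup S) := by
    rw [card_top]; exact Finite.one_lt_card
  have h3 : 0 < Nat.card ↥(center ↥(⊤ : Subgroup S)) := Nat.card_pos
  have h4 : Nat.card ↥Q = 1 := by rw [e, card_bot]
  have h5 : Nat.card ↥(center ↥Q) ≤ Nat.card ↥Q := Nat.card_le_card_of_injective _ Subtype.val_injective
  nlinarith

end Measure

variable {p : ℕ} [Fact p.Prime] {S : Type u} [Group S] [Finite S]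

theorem inf_center_ne_bot (hS : IsPGroup p S) {X : Subgroup S} (hX : X.Characteristic)
    (hne : X ≠ ⊥) : X ⊓ center S ≠ ⊥ := by
  haveI := hX
  haveI : Group.IsNilpotent S := hS.isNilpotent
  exact CfsgLib.Coprime.nilpotent_inf_center_ne_bot X hne

/-- No pushing-up situation has an abelian Sylow subgroup. -/
theorem no_sit_of_comm (hab : IsMulCommutative S) {G : Type u} [Group G] [Finite G] (τ : S →* G)
    (sit : Sit p τ.range) : False := by
  refine Sit.not_le_pCore sit (le_trans ?_ sit.constr)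
  rintro _ ⟨s, rfl⟩
  refine mem_centralizer_iff.2 fun y hy => ?_
  obtain ⟨t, rfl⟩ := sit.pCore_le hy
  haveI := hab
  rw [← map_mul, ← map_mul, hab.is_comm.comm]

theorem center_ne_bot [Nontrivial S] (hS : IsPGroup p S) : center S ≠ ⊥ := by
  haveI := hS.center_nontrivial
  exact (nontrivial_iff_ne_bot _).1 inferInstance

theorem tilde_ne_bot [Nontrivial S] (hS : IsPGroup p S) : centralizer (zJ S : Set S) ≠ ⊥ :=
  ne_bot_of_le_ne_bot (center_ne_bot hS) (center_le_centralizer _)

/-- The pair `(℧¹`-type, `C_S(Z(J(S)))`)`. -/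
theorem hasPair_tilde [Nontrivial S] (hS : IsPGroup p S) {X : Subgroup S} (hne : X ≠ ⊥)
    (hX : X.Characteristic) (hXZ : X ≤ center S)
    (h : ∀ (G : Type u) [Group G] [Finite G] (τ : S →* G), Function.Injective τ → Sit p τ.range →
      (X.map τ).Normal ∨ ((centralizer (zJ S : Set S)).map τ).Normal) : HasPair p S :=
  ⟨X, _, hne, tilde_ne_bot hS, hX, centralizer_char zJ_char, hXZ, le_rfl, char_subgroupOf_self _,
    rfl, h⟩

/-- A pair whose second member contains a centrally large subgroup. -/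
theorem hasPair_of_top [Nontrivial S] (hS : IsPGroup p S)
    (hD : centralizer (zJ S : Set S) = ⊤) {X Y R : Subgroup S} (hne : X ≠ ⊥)
    (hX : X.Characteristic) (hXZ : X ≤ center S) (hY : Y.Characteristic) (hR : R ≤ Y)
    (hcl : Cfsg.IsCentrallyLarge R)
    (h : ∀ (G : Type u) [Group G] [Finite G] (τ : S →* G), Function.Injective τ → Sit p τ.range →
      (X.map τ).Normal ∨ (Y.map τ).Normal) : HasPair p S :=
  ⟨X, Y, hne, fun e => ne_bot_of_cl hS hcl (le_bot_iff.1 (e ▸ hR)), hX, hY, hXZ,
    hD.symm ▸ le_top, char_subgroupOf_top hD hY,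
    (maxCP_of_cl_le hR hcl).trans (maxCP_top hD).symm, h⟩

/-- The reduction to the exceptional class. -/
theorem hasPair_or_exceptional [Nontrivial S] (hS : IsPGroup p S) :
    HasPair p S ∨ Exceptional p S := by
  classical
  by_cases hab : IsMulCommutative S
  · refine Or.inl (hasPair_tilde hS (center_ne_bot hS) inferInstance le_rfl ?_)
    exact fun G _ _ τ _ sit => (no_sit_of_comm hab τ sit).elim
  by_cases hA : ⁅zJ S, (⊤ : Subgroup S)⁆ = ⊥
  swap
  · haveI := zJ_char (S := S)
    refine Or.inl (hasPair_tilde hS (inf_center_ne_bot hS inferInstance hA)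
      (inf_center_char inferInstance) inf_le_right ?_)
    intro G _ _ τ hτ sit
    rw [map_inf _ _ _ hτ, map_commutator, center_map hτ, ← centerThompson_map hτ,
      ← MonoidHom.range_eq_map, map_cent hτ, ← centerThompson_map hτ]
    exact Sit.commutator_case sit
  by_cases hB : ∀ z ∈ center S, z ^ p = 1
  swap
  · refine Or.inl (hasPair_tilde (X := Cfsg.powerClosure p 1 (center S)) hS ?_ ?_ ?_ ?_)
    · push Not at hB
      obtain ⟨z, hz, hzp⟩ := hB
      intro e
      refine hzp ((mem_bot.1 (e.le (subset_closure ⟨z, hz, ?_⟩))))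
      rw [pow_one]
    · exact characteristic_iff_map_eq.2 fun φ => by
        rw [powerClosure_map, characteristic_iff_map_eq.1 inferInstance φ]
    · rw [Cfsg.powerClosure, closure_le]
      rintro _ ⟨x, hx, rfl⟩
      exact pow_mem hx _
    · intro G _ _ τ hτ sit
      rw [powerClosure_map, center_map hτ, map_cent hτ, ← centerThompson_map hτ]
      exact Sit.power_case sit
  have hD : centralizer (zJ S : Set S) = ⊤ :=
    top_le_iff.1 (le_centralizer_iff.1 (commutator_eq_bot_iff_le_centralizer.1 hA))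
  have hJle : ∀ {G : Type u} [Group G] [Finite G] (τ : S →* G), Function.Injective τ →
      τ.range ≤ centralizer (Cfsg.centerThompsonAOf τ.range : Set G) := fun τ hτ => by
    rw [centerThompson_map hτ]
    have := congrArg (Subgroup.map τ) hD
    rw [map_cent hτ, ← MonoidHom.range_eq_map] at this
    exact inf_eq_left.1 this
  by_cases hC : ∀ Q : Subgroup S, Cfsg.IsMinimalCentrallyLarge Q → IsMulCommutative ↥Q
  swap
  · push Not at hC
    obtain ⟨Q, hQ, hQab⟩ := hC
    have hQ' : ⁅Q, Q⁆ ≠ ⊥ := fun e =>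
      hQab (le_centralizer_iff_isMulCommutative.1 (commutator_eq_bot_iff_le_centralizer.1 e))
    have hchar : (⁅Q, Q⁆).Characteristic := characteristic_iff_map_eq.2 fun φ => by
      rw [map_commutator]
      exact (Cfsg.Agent.S3007.result S hS _ _ (mcl_map_equiv φ hQ) hQ).2.1
    refine Or.inl (hasPair_of_top hS hD (inf_center_ne_bot hS hchar hQ') (inf_center_char hchar)
      inf_le_right (characteristic_iff_map_eq.2 fun φ => mclJoin_map φ)
      (le_sSup hQ : Q ≤ Cfsg.minimalCentrallyLargeJoin S) hQ.1 ?_)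
    intro G _ _ τ hτ sit
    have hQ₁ : MCL τ.range (Q.map τ) := by
      rw [← map_eq_map_subtype hτ]
      exact CfsgLib.PushUp.mcl_map.2 (mcl_map_equiv _ hQ)
    rw [map_inf _ _ _ hτ, map_commutator, center_map hτ, inf_comm, mclJoin_image hτ]
    exact Sit.derived_case sit (hJle τ hτ) hQ₁
  have hJ : Cfsg.thompsonSubgroupA S = ⊤ :=
    ((Cfsg.Agent.S3008.result S hS).2.2.2 hC).symm.trans hD
  obtain ⟨Q₀, hQ₀⟩ : ∃ Q : Subgroup S, Cfsg.IsMinimalCentrallyLarge Q := by
    obtain ⟨R, hR⟩ := CfsgLib.CDLat.exists_cl (G := S)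
    obtain ⟨Q, -, hQ⟩ := CfsgLib.CDLat.exists_mcl_le hR
    exact ⟨Q, hQ⟩
  have hiff := (Cfsg.Agent.S3007.result S hS Q₀ Q₀ hQ₀ hQ₀).2.2.2.2 (hC Q₀ hQ₀)
  have htop : Cfsg.maxCentralProduct S = Nat.card S * Nat.card (center S) := by
    have h1 : Cfsg.IsCentrallyLarge (⊤ : Subgroup S) := by
      rw [← hJ]
      exact CfsgLib.CDLat.cl_sSup ⟨Q₀, (hiff Q₀).1 hQ₀⟩ fun A hA => ((hiff A).2 hA).1
    rw [← h1, Nat.card_congr (centerCongr (topEquiv (G := S))).toEquiv, card_top]
  have red : Reduced p S := by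
    refine ⟨hS, hB, hJ, fun A hA => ?_, htop⟩
    have h1 := ((hiff A).2 hA).1
    rw [← htop, ← h1, CfsgLib.CDLat.card_center_eq,
      CfsgLib.CDLat.centralizer_eq_of_maxAbelian hA, inf_idem]
  by_cases h0 : bigS0 p S = ⊥
  · exact Or.inr ⟨red, hiff, h0, hab⟩
  left
  have hn : ∀ X : Subgroup S, X.Normal → ⁅X, (⊤ : Subgroup S)⁆ ≤ X := fun X hX => by
    haveI := hX
    exact commutator_le_left _ _
  have hbig : bigS0 p S ≤ Big p (⊤ : Subgroup S) := by
    rw [bigS0, Big, frattini_top]
    split_ifs with h2 h3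
    · exact le_sup_left
    · exact le_sup_of_le_left (sup_le
        (le_sup_of_le_left (hn _ inferInstance)) le_sup_right)
    · exact sup_le (le_sup_of_le_left le_sup_left) le_sup_right
  obtain ⟨S₁, S₂, h₁, hc₁, hc₂, hZ, hcl, hnorm⟩ :=
    red.exists_pair (inf_center_char (bigS0_char p)) (inf_center_ne_bot hS (bigS0_char p) h0)
      inf_le_right (inf_le_left.trans hbig) (fun hp => inf_le_left.trans (le_of_eq (by
        rw [bigS0, if_neg (by omega), if_pos hp, frattini_top])))
  exact hasPair_of_top hS hD h₁ hc₁ hZ hc₂ le_rfl hcl hnorm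

namespace Exceptional

variable (h : Exceptional p S)
include h

theorem tilde_commutator : ⁅zJ S, (⊤ : Subgroup S)⁆ = ⊥ := by
  rw [zJ, h.red.gen, top_inf_eq, coe_top, centralizer_univ, commutator_eq_bot_iff_le_centralizer,
    le_centralizer_iff]
  exact fun x _ => mem_centralizer_iff.2 fun y hy => (mem_center_iff.1 hy x).symm

theorem center_elementary : Cfsg.IsElementaryAbelian p (center S) :=
  ⟨inferInstance, h.red.elem⟩

theorem frattini_elementary : Cfsg.IsElementaryAbelian p (frattini S) := by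
  by_cases hp : p = 2 ∨ p = 3
  · have h1 : Fr (frattini S) = ⊥ := by
      have h0 := h.zero
      rw [bigS0] at h0
      rcases hp with hp | hp
      · rw [if_pos hp] at h0
        exact (sup_eq_bot_iff.1 h0).2
      · rw [if_neg (by omega), if_pos hp] at h0
        exact (sup_eq_bot_iff.1 h0).2
    have h2 : frattini ↥(frattini S) = ⊥ :=
      (map_eq_bot_iff_of_injective _ (frattini S).subtype_injective).1 h1
    have hΦ : IsPGroup p ↥(frattini S) := h.red.isp.to_subgroup _
    refine ⟨le_centralizer_iff_isMulCommutative.1 fun x hx => mem_centralizer_iff.2 fun y hy => ?_,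
      fun x hx => ?_⟩
    · have h3 := (CfsgLib.Coprime.commutator_le_frattini hΦ).trans h2.le
        (commutator_mem_commutator (mem_top (⟨y, hy⟩ : ↥(frattini S)))
          (mem_top (⟨x, hx⟩ : ↥(frattini S))))
      exact congrArg Subtype.val (commutatorElement_eq_one_iff_mul_comm.1 (mem_bot.1 h3))
    · exact congrArg Subtype.val (mem_bot.1 (h2.le
        (CfsgLib.Coprime.pow_mem_frattini hΦ (⟨x, hx⟩ : ↥(frattini S)))))
  · have h0 := h.zero
    rw [bigS0, if_neg (by tauto), if_neg (by tauto)] at h0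
    have h1 := (sup_eq_bot_iff.1 h0).1
    refine ⟨le_centralizer_iff_isMulCommutative.1
      ((commutator_eq_bot_iff_le_centralizer.1 h1).trans (centralizer_le le_top)), fun x hx => ?_⟩
    exact mem_bot.1 ((sup_eq_bot_iff.1 h0).2.le (subset_closure ⟨x, mem_top x, by rw [pow_one]⟩))

theorem frattini_two (hp : p = 2) : frattini S ≤ center S := by
  have h0 := h.zero
  rw [bigS0, if_pos hp] at h0
  have := commutator_eq_bot_iff_le_centralizer.1 (sup_eq_bot_iff.1 h0).1
  rwa [coe_top, centralizer_univ] at this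

theorem frattini_three (hp : p = 3) : frattini S ≤ Subgroup.upperCentralSeries S 2 := by
  have h0 := h.zero
  rw [bigS0, if_neg (by omega), if_pos hp] at h0
  have h1 := commutator_eq_bot_iff_le_centralizer.1 (sup_eq_bot_iff.1 h0).1
  rw [coe_top, centralizer_univ] at h1
  intro x hx
  rw [Subgroup.mem_upperCentralSeries_succ_iff]
  intro y
  rw [Subgroup.upperCentralSeries_one]
  exact h1 (commutator_mem_commutator hx (mem_top y))

theorem frattini_big [Nontrivial S] (hp : 3 < p) :
    frattini S ≤ center S ∧ Monoid.exponent S = p := by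
  have h0 := h.zero
  rw [bigS0, if_neg (by omega), if_neg (by omega)] at h0
  have h1 := commutator_eq_bot_iff_le_centralizer.1 (sup_eq_bot_iff.1 h0).1
  rw [coe_top, centralizer_univ] at h1
  have h2 : ∀ x : S, x ^ p = 1 := fun x =>
    mem_bot.1 ((sup_eq_bot_iff.1 h0).2.le (subset_closure ⟨x, mem_top x, by rw [pow_one]⟩))
  refine ⟨h1, ((Nat.dvd_prime (Fact.out : p.Prime)).1 (Monoid.exponent_dvd_of_forall_pow_eq_one h2)).resolve_left fun e => ?_⟩
  exact not_subsingleton S (Monoid.exp_eq_one_iff.1 e)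

theorem pair_conditions : ∀ A ∈ Cfsg.maxAbelianSubgroups S, ∀ B ∈ Cfsg.maxAbelianSubgroups S,
    ∀ Q : Subgroup S, Nat.card ↥A ^ 2 = Nat.card S * Nat.card ↥(Subgroup.center S) ∧
      Nat.card ↥Q * Nat.card ↥(Subgroup.center ↥Q) ≤ Nat.card S * Nat.card ↥(Subgroup.center S) ∧
      ((A ⊔ B : Subgroup S) : Set S) = (A : Set S) * (B : Set S) ∧
      A ⊔ B = Subgroup.centralizer ((A ⊓ B : Subgroup S) : Set S) := by
  intro A hA B hB Q
  have hl : ∀ X ∈ Cfsg.maxAbelianSubgroups S, Cfsg.IsCentralizerLarge X := fun X hX =>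
    (CfsgLib.CDLat.cl_iff.1 ((h.mcl X).2 hX).1).1
  obtain ⟨h1, -, -, h4⟩ := CfsgLib.CDLat.large_pair (hl A hA) (hl B hB)
  refine ⟨by rw [sq]; exact h.red.sq A hA, h.red.top ▸ CfsgLib.CDLat.central_measure_le_max Q, h1,
    SetLike.coe_injective ?_⟩
  rw [h1, h4, CfsgLib.CDLat.centralizer_eq_of_maxAbelian hA,
    CfsgLib.CDLat.centralizer_eq_of_maxAbelian hB]

/-- The exceptional class, as the statements list it. -/
theorem conditions [Nontrivial S] : ¬ IsMulCommutative S ∧ Cfsg.thompsonSubgroupA S = ⊤ ∧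
    Cfsg.IsElementaryAbelian p (center S) ∧ Cfsg.IsElementaryAbelian p (frattini S) ∧
    (p = 2 → frattini S ≤ center S) ∧ (p = 3 → frattini S ≤ Subgroup.upperCentralSeries S 2) ∧
    (3 < p → frattini S ≤ center S ∧ Monoid.exponent S = p) :=
  ⟨h.nonab, h.red.gen, h.center_elementary, h.frattini_elementary, h.frattini_two,
    h.frattini_three, h.frattini_big⟩

/-- Without an elementary abelian subgroup of largest order, `(Z(S), S_Φ)` is a pair. -/
theorem hasPair_of_not_elementary [Nontrivial S]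
    (hno : ¬ ∃ A ∈ Cfsg.maxAbelianSubgroups S, Cfsg.IsElementaryAbelian p A) :
    ∃ S₁ S₂ : Subgroup S, S₁ ≠ ⊥ ∧ S₂ ≠ ⊥ ∧ S₁.Characteristic ∧ S₂.Characteristic ∧
      S₁ ≤ center S ∧ S₂ ≤ centralizer (zJ S : Set S) ∧
      (S₂.subgroupOf (centralizer (zJ S : Set S))).Characteristic ∧
      ∀ (G : Type u) [Group G] [Finite G] (τ : S →* G), Function.Injective τ → Sit p τ.range →
        (S₁.map τ).Normal ∨ (S₂.map τ).Normal := by
  have hD : centralizer (zJ S : Set S) = ⊤ :=
    top_le_iff.1 (le_centralizer_iff.1 (commutator_eq_bot_iff_le_centralizer.1 h.tilde_commutator))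
  have hchar : (Cfsg.frattiniOfMinimalCLJoin p S).Characteristic :=
    characteristic_iff_map_eq.2 fun φ => frattiniJoin_map φ p
  refine ⟨center S, Cfsg.frattiniOfMinimalCLJoin p S, center_ne_bot h.red.isp, ?_, inferInstance,
    hchar, le_rfl, hD.symm ▸ le_top, char_subgroupOf_top hD hchar, ?_⟩
  · intro e
    obtain ⟨R, hR⟩ := CfsgLib.CDLat.exists_cl (G := S)
    obtain ⟨Q', -, hQ'⟩ := CfsgLib.CDLat.exists_mcl_le hR
    obtain ⟨Q, hQ, hQmax⟩ : Cfsg.maxOmegaCenterOfMinimalCL p S ∈
        {k : ℕ | ∃ Q : Subgroup S, Cfsg.IsMinimalCentrallyLarge Q ∧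
          Nat.card ↥(Cfsg.omegaOneCenter p Q) = k} :=
      Nat.sSup_mem ⟨_, Q', hQ', rfl⟩ ((Set.finite_range
        fun Q : Subgroup S => Nat.card ↥(Cfsg.omegaOneCenter p Q)).subset
          (by rintro k ⟨Q, -, rfl⟩; exact ⟨Q, rfl⟩)).bddAbove
    refine hno ⟨Q, (h.mcl Q).1 hQ, ((h.mcl Q).1 hQ).1, fun a ha => ?_⟩
    have h1 : Fr Q ≤ Cfsg.frattiniOfMinimalCLJoin p S :=
      le_iSup_of_le (⟨Q, hQ, hQmax⟩ : {Q : Subgroup S // _}) le_rfl
    exact mem_bot.1 ((h1.trans e.le)
      ⟨⟨a, ha⟩ ^ p, CfsgLib.Coprime.pow_mem_frattini (h.red.isp.to_subgroup Q) _, rfl⟩)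
  · intro G _ _ τ hτ sit
    rw [center_map hτ, frattiniJoin_image hτ]
    refine Sit.frattiniJoin_case sit ?_
    rw [centerThompson_map hτ]
    have := congrArg (Subgroup.map τ) hD
    rw [map_cent hτ, ← MonoidHom.range_eq_map] at this
    exact inf_eq_left.1 this

end Exceptional

end CfsgLib.PushAmalgam
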