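import Cfsg.Agent.Lib.PushAmalgam.RankOne
import Cfsg.Agent.Lib.PushAmalgam.Reduce
import Mathlib.FieldTheory.Finite.GaloisField

/-!
# Pushing up in rank one: back to the abstract group

A group in the pushing-up situation in which no nontrivial characteristic subgroup of the Sylow subgroup
is normal has one of the two shapes.
-/

set_option autoImplicit false
set_option linter.style.haveILetI false
set_option linter.unusedSectionVars false

open Subgroup
open scoped MatrixGroups commutatorElement Pointwise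
open CfsgLib.PushUp (MA cj mem_cj conj_mem_cj cj_mono card_cj ctr Fr Sit)

namespace CfsgLib.PushAmalgam

universe u

section Field

variable {F F' : Type} [Field F] [Fintype F] [Field F'] [Fintype F'] {p : ℕ} {G : Type u} [Group G]

/-- Transport along an isomorphism of fields. -/
theorem NatStep.mapField {Y Y' : Subgroup G} (h : NatStep F p Y Y') (σ : F ≃+* F') :
    NatStep F' p Y Y' := by
  obtain ⟨ρ, ψ, hρ, hker, hψ, hψ1, heq⟩ := h.nat
  obtain ⟨f, hf⟩ : ∃ f : SL(2, F) ≃* SL(2, F'), ∀ A : SL(2, F),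
      (f A : Matrix (Fin 2) (Fin 2) F') = (A : Matrix (Fin 2) (Fin 2) F).map σ :=
    ⟨{ toFun := Matrix.SpecialLinearGroup.map (σ : F →+* F')
       invFun := Matrix.SpecialLinearGroup.map (σ.symm : F' →+* F)
       left_inv := fun A => by ext i j; simp
       right_inv := fun A => by ext i j; simp
       map_mul' := map_mul _ }, fun A => rfl⟩
  obtain ⟨m, hm⟩ : ∃ m : Multiplicative (Fin 2 → F) ≃* Multiplicative (Fin 2 → F'),
      ∀ x i, Multiplicative.toAdd (m x) i = σ (Multiplicative.toAdd x i) :=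
    ⟨AddEquiv.toMultiplicative (AddEquiv.piCongrRight fun _ => σ.toAddEquiv), fun _ _ => rfl⟩
  refine ⟨h.le, h.below, h.normal, h.normal', f.toMonoidHom.comp ρ, m.toMonoidHom.comp ψ,
    f.surjective.comp hρ, ?_, m.surjective.comp hψ, fun v => ?_, fun g v w hw => ?_⟩
  · rw [show (f.toMonoidHom.comp ρ).ker = ρ.ker from MonoidHom.ker_mulEquiv_comp ρ f, hker]
  · show m (ψ v) = 1 ↔ _
    rw [← hψ1]
    exact ⟨fun e => m.injective (e.trans (map_one m).symm), fun e => by rw [e, map_one]⟩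
  · funext i
    show Multiplicative.toAdd (m (ψ w)) i = ((f (ρ g) : SL(2, F')) : Matrix (Fin 2) (Fin 2) F').mulVec
      (Multiplicative.toAdd (m (ψ v))) i
    rw [hm, heq g v w hw, show Multiplicative.toAdd (m (ψ v)) =
      σ ∘ Multiplicative.toAdd (ψ v) from funext (hm _), hf]
    exact RingHom.map_mulVec (σ : F →+* F') _ _ i

theorem ShapeOne.mapField (h : ShapeOne F p G) (σ : F ≃+* F') : ShapeOne F' p G := by
  obtain ⟨Y, Y', hY, h'⟩ := h
  exact ⟨Y, Y', hY.mapField σ, h'⟩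

theorem ShapeTwo.mapField (h : ShapeTwo F p G) (σ : F ≃+* F') : ShapeTwo F' p G := by
  obtain ⟨Y, Y', A, B, Z, Z', hY, hZ, h'⟩ := h
  exact ⟨Y, Y', A, B, Z, Z', hY.mapField σ, hZ.mapField σ, h'⟩

end Field

variable {p : ℕ} [Fact p.Prime]

/-- `|S : O_p(G)|` is the order of the field. -/
theorem relIndex_of_psl {G : Type u} [Group G] [Finite G] {S : Subgroup G} (sit : Sit p S)
    (K : Subgroup G) [K.Normal] {F : Type} [Field F] [Fintype F] {n : ℕ}
    (hF : Fintype.card F = p ^ n) (ψ : G ⧸ K ≃* Matrix.ProjectiveSpecialLinearGroup (Fin 2) F) :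
    (Cfsg.pCore p G).relIndex S = p ^ n := by
  classical
  obtain ⟨-, hn⟩ := CfsgLib.PushUp.charP_of_card hF
  obtain ⟨π, hπdef⟩ : ∃ π, π = ψ.toMonoidHom.comp (QuotientGroup.mk' K) := ⟨_, rfl⟩
  have hπ : Function.Surjective π := by
    rw [hπdef]; exact ψ.surjective.comp (QuotientGroup.mk'_surjective K)
  have hker : π.ker = K := by
    rw [hπdef, show (ψ.toMonoidHom.comp (QuotientGroup.mk' K)).ker = (QuotientGroup.mk' K).ker from
      MonoidHom.ker_mulEquiv_comp (QuotientGroup.mk' K) ψ, QuotientGroup.ker_mk']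
  obtain ⟨P, hP⟩ := sit.sylow
  have hcard : Nat.card ↥(S.map π) = p ^ n := by
    have h1 := (P.mapSurjective hπ).card_eq_multiplicity
    rw [CfsgLib.PushUp.psl_factorization hF, Sylow.coe_mapSurjective, hP] at h1
    exact h1
  have hKS : K ⊔ S ≠ ⊤ := by
    intro e
    have h1 := congrArg (Subgroup.map π) e
    rw [Subgroup.map_sup, (Subgroup.map_eq_bot_iff K).2 hker.ge, bot_sup_eq,
      map_top_of_surjective π hπ] at h1
    exact CfsgLib.PushUp.psl_not_pgroup hF (p := p)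
      (((sit.isPGroup.map π).to_le h1.ge).of_equiv topEquiv)
  have hSK : S ⊓ K ≤ Cfsg.pCore p G := (sit.sup_or K).resolve_right hKS
  have hQK : Cfsg.pCore p G ≤ K := by
    haveI hI : ((Cfsg.pCore p G).map π).Normal :=
      Subgroup.Normal.map (CfsgLib.PushUp.pCore_normal p G) π hπ
    rw [← hker, ← Subgroup.map_eq_bot_iff]
    by_contra hne
    rcases Nat.lt_or_ge n 2 with h | h
    · obtain rfl : n = 1 := by omega
      rw [pow_one] at hcard
      have hle : (Cfsg.pCore p G).map π ≤ S.map π := map_mono sit.pCore_le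
      have hc : Nat.card ↥((Cfsg.pCore p G).map π) = p :=
        ((Fact.out : p.Prime).eq_one_or_self_of_dvd _
          ((card_dvd_of_le hle).trans hcard.dvd)).resolve_left fun e => hne (card_eq_one.1 e)
      have e := eq_of_le_of_card_ge hle (hcard.trans hc.symm).le
      have hS : S ≤ Cfsg.pCore p G ⊔ K := by
        have h1 := congrArg (comap π) e
        rw [comap_map_eq, comap_map_eq, hker] at h1
        exact le_sup_left.trans h1.ge
      haveI := CfsgLib.PushUp.pCore_normal p G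
      rcases sit.sup_or (Cfsg.pCore p G ⊔ K) with h1 | h1
      · exact Sit.not_le_pCore sit ((le_inf le_rfl hS).trans h1)
      · exact hKS (top_le_iff.1 (h1.ge.trans
          (sup_le (sup_le (sit.pCore_le.trans le_sup_right) le_sup_left) le_sup_right)))
    · haveI := CfsgLib.PushUp.psl_simple hF h (p := p)
      refine CfsgLib.PushUp.psl_not_pgroup hF (p := p) ?_
      exact (((CfsgLib.Coprime.pCore_isPGroup p).map π).to_le
        (hI.eq_bot_or_eq_top.resolve_left hne).ge).of_equiv topEquiv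
  rw [← le_antisymm hSK (le_inf sit.pCore_le hQK), inf_relIndex_left, ← hker, relIndex_ker, hcard]

/-- The two shapes. -/
theorem exists_shape {S G : Type u} [Group S] [Finite S] [Group G] [Finite G] (τ : S →* G)
    (hτ : Function.Injective τ) (sit : Sit p τ.range)
    (hd : ∀ Y : Subgroup S, Y ≠ ⊥ → Y.Characteristic → ¬ (Y.map τ).Normal) :
    Exceptional p S ∧ Nontrivial S ∧ ∃ (F : Type) (_ : Field F) (_ : Fintype F),
      Fintype.card F = (Cfsg.pCore p G).relIndex τ.range ∧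
      ((ShapeOne F p G ∧ ⁅frattini S, (⊤ : Subgroup S)⁆ = ⊥ ∧ (p ≠ 2 → ∀ s : S, s ^ p = 1)) ∨
        (p = 3 ∧ ShapeTwo F p G ∧ ∃ n y : S, ¬ Commute n ⁅n, y⁆)) := by
  classical
  haveI hnt : Nontrivial S := by
    by_contra h
    haveI := not_nontrivial_iff_subsingleton.1 h
    refine Sit.not_le_pCore sit ?_
    rintro _ ⟨s, rfl⟩
    rw [Subsingleton.elim s 1, map_one]
    exact one_mem _
  have hS : IsPGroup p S := sit.isPGroup.of_equiv (MonoidHom.ofInjective hτ).symm
  have hex : Exceptional p S := by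
    rcases hasPair_or_exceptional (p := p) hS with ⟨S₁, S₂, h1, h2, hc1, hc2, -, -, -, -, hn⟩ | h
    · exact ((hn G τ hτ sit).elim (hd S₁ h1 hc1) (hd S₂ h2 hc2)).elim
    · exact h
  refine ⟨hex, hnt, ?_⟩
  obtain ⟨j, hj, hjτ⟩ := exists_extension τ hτ
  obtain ⟨T, hT⟩ : ∃ T, T = (emb S).range := ⟨_, rfl⟩
  have hTτ : T = τ.range.map j := by
    rw [hT, MonoidHom.map_range]
    exact congrArg MonoidHom.range (MonoidHom.ext fun s => (hjτ s).symm)
  have hmapτ : ∀ Y : Subgroup S, (Y.map τ).map j = Y.map (emb S) := fun Y => by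
    rw [map_map]; exact congrArg (fun f => Y.map f) (MonoidHom.ext hjτ)
  have hback : ∀ {Y : Subgroup (Equiv.Perm (S × ℕ))}, Y ≤ T → j.range ≤ normalizer (Y : Set _) →
      ((Y.comap (emb S)).map τ).Normal := by
    intro Y hY hn
    refine ⟨fun y hy g => ?_⟩
    have h1 : j y ∈ Y := by
      have : j y ∈ ((Y.comap (emb S)).map τ).map j := ⟨y, hy, rfl⟩
      rwa [hmapτ, map_comap_eq_self (hT ▸ hY : Y ≤ (emb S).range)] at this
    have h2 := mem_normalizer_conj (hn ⟨g, rfl⟩) h1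
    rw [← map_mul, ← map_inv, ← map_mul] at h2
    obtain ⟨s, hs⟩ := (hT ▸ hY h2 : j (g * y * g⁻¹) ∈ (emb S).range)
    rw [← hs] at h2
    exact ⟨s, h2, hj (by rw [hjτ, hs])⟩
  obtain ⟨e, he⟩ : ∃ e : G ≃* ↥j.range, ∀ g, (e g : Equiv.Perm (S × ℕ)) = j g :=
    ⟨MonoidHom.ofInjective hj, fun _ => rfl⟩
  haveI : Finite ↥j.range := Finite.of_equiv _ e.toEquiv
  have hTj : T ≤ j.range := by rw [hTτ]; exact map_le_range j _
  have hje : j.range.subtype.comp e.toMonoidHom = j := MonoidHom.ext he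
  have hsit : Sit p (T.subgroupOf j.range) := by
    have := Sit.map_equiv sit e
    convert this using 1
    refine map_injective j.range.subtype_injective ?_
    rw [map_subgroupOf_eq_of_le hTj, map_map, hje, hTτ]
  have hprim : Prim T j.range := by
    intro Y hY hn hH
    have hc := characteristic_of_normalized (hT ▸ hY) (hT ▸ hn)
    have h0 : Y.comap (emb S) = ⊥ := by
      by_contra h0
      exact hd _ h0 hc (hback hY hH)
    rw [← map_comap_eq_self (hT ▸ hY : Y ≤ (emb S).range), h0, Subgroup.map_bot]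
  have good : Good p T j.range := by
    refine ⟨inferInstance, hTj, hsit, fun hc => center_ne_bot hS ?_⟩
    have h1 : ctr T = (center S).map (emb S) := hT ▸ ctr_range
    have h0 := hprim (ctr T) (CfsgLib.PushUp.ctr_le T) (normalizer_le_ctr T)
      ((le_centralizer_iff.1 hc).trans (centralizer_le_normalizer _))
    rw [h1] at h0
    exact (Subgroup.map_eq_bot_iff_of_injective _ emb_injective).1 h0
  have mH : Mem p T j.range := ⟨hT ▸ hex.red.base, good⟩
  have htop : (⊤ : Subgroup S).map (emb S) = T := by rw [hT, MonoidHom.range_eq_map]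
  have hFr : Fr T = (frattini S).map (emb S) := by
    rw [← htop, CfsgLib.PushUp.Fr_map emb_injective, frattini_top]
  have hinj : ∀ {X : Subgroup S}, X.map (emb S) = ⊥ ↔ X = ⊥ :=
    Subgroup.map_eq_bot_iff_of_injective _ emb_injective
  have sm : Small p T := by
    have h0 := hex.zero
    rw [bigS0] at h0
    refine ⟨fun hp => ?_, fun hp => ?_, fun hp hp' => ?_⟩
    · rw [hFr, ← htop, ← map_commutator, hinj]
      split_ifs at h0
      · exact (sup_eq_bot_iff.1 h0).1
      · exact (sup_eq_bot_iff.1 h0).1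
    · rw [if_neg (by omega), if_pos hp] at h0
      rw [hFr, ← htop, ← map_commutator, ← map_commutator, CfsgLib.PushUp.Fr_map emb_injective,
        hinj, hinj]
      exact sup_eq_bot_iff.1 h0
    · rw [if_neg hp, if_neg hp'] at h0
      intro t ht
      obtain ⟨s, rfl⟩ := (hT ▸ ht : t ∈ (emb S).range)
      have h1 : s ^ p = 1 := mem_bot.1 ((sup_eq_bot_iff.1 h0).2.le
        (subset_closure ⟨s, mem_top s, by rw [pow_one]⟩))
      rw [← map_pow, h1, map_one]
  obtain ⟨F, iF, iFt, -, hcard, hshape⟩ := mH.rank_one hprim sm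
  refine ⟨F, iF, iFt, hcard.trans ?_, ?_⟩
  · rw [show Qo p j.range = (Cfsg.pCore p G).map j by
      rw [Qo, Cfsg.pCoreOf, ← pCore_map_equiv e, map_map, hje], hTτ,
      relIndex_map_map_of_injective _ _ hj]
  rcases hshape with ⟨h1, h2, h3⟩ | ⟨h1, h2, n, hn, y, hy, hny⟩
  · refine Or.inl ⟨h1.map e.symm, ?_, fun hp s => emb_injective ?_⟩
    · rwa [hFr, ← htop, ← map_commutator, hinj] at h2
    · rw [map_pow, map_one]
      exact h3 hp _ (hT ▸ ⟨s, rfl⟩)
  · obtain ⟨n, rfl⟩ := (hT ▸ hn : n ∈ (emb S).range)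
    obtain ⟨y, rfl⟩ := (hT ▸ hy : y ∈ (emb S).range)
    refine Or.inr ⟨h1, h2.map e.symm, n, y, fun hc => hny ?_⟩
    rw [← map_commutatorElement]
    exact hc.map _

/-- The two shapes over the given field. -/
theorem exists_shape_psl {G : Type u} [Group G] [Finite G] (S : Subgroup G) (sit : Sit p S)
    (hd : ∀ T : Subgroup ↥S, T ≠ ⊥ → T.Characteristic → ¬ (T.map S.subtype).Normal)
    (K : Subgroup G) [K.Normal] {F : Type} [Field F] [Fintype F] {n : ℕ}
    (hF : Fintype.card F = p ^ n) (ψ : G ⧸ K ≃* Matrix.ProjectiveSpecialLinearGroup (Fin 2) F) :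
    Exceptional p ↥S ∧ Nontrivial ↥S ∧
      ((ShapeOne F p G ∧ ⁅frattini ↥S, (⊤ : Subgroup ↥S)⁆ = ⊥ ∧ (p ≠ 2 → ∀ s : ↥S, s ^ p = 1)) ∨
        (p = 3 ∧ ShapeTwo F p G ∧ ∃ n y : ↥S, ¬ Commute n ⁅n, y⁆)) := by
  have hr : S.subtype.range = S := S.range_subtype
  obtain ⟨hex, hnt, F₀, iF, iFt, hcard, hshape⟩ :=
    exists_shape (p := p) S.subtype S.subtype_injective (hr.symm ▸ sit) hd
  rw [hr, relIndex_of_psl sit K hF ψ, ← hF] at hcard
  obtain σ := FiniteField.ringEquivOfCardEq hcard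
  refine ⟨hex, hnt, ?_⟩
  rcases hshape with ⟨h1, h⟩ | ⟨hp, h1, h⟩
  · exact Or.inl ⟨h1.mapField σ, h⟩
  · exact Or.inr ⟨hp, h1.mapField σ, h⟩

end CfsgLib.PushAmalgam

namespace CfsgLib.PushAmalgam

universe v

open Subgroup
open scoped commutatorElement

/-- In a group of exponent three an element commutes with its commutators. -/
theorem commute_of_cube {G : Type v} [Group G] (h : ∀ x : G, x ^ 3 = 1) (x y : G) :
    Commute x ⁅x, y⁆ := by
  have h1 : x * y * x = y⁻¹ * x⁻¹ * y⁻¹ := by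
    have := h (x * y)
    rw [pow_succ, pow_two] at this
    calc x * y * x = (x * y * (x * y) * (x * y)) * (y⁻¹ * x⁻¹ * y⁻¹) := by group
      _ = _ := by rw [this, one_mul]
  have h2 : x * y⁻¹ * x = y * x⁻¹ * y := by
    have := h (x * y⁻¹)
    rw [pow_succ, pow_two] at this
    calc x * y⁻¹ * x = (x * y⁻¹ * (x * y⁻¹) * (x * y⁻¹)) * (y * x⁻¹ * y) := by group
      _ = _ := by rw [this, one_mul]
  have hy : y * y = y⁻¹ := by
    have := h y
    rw [pow_succ, pow_two] at this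
    exact eq_inv_of_mul_eq_one_left this
  have hc : Commute x (y * x * y⁻¹) := by
    show x * (y * x * y⁻¹) = y * x * y⁻¹ * x
    calc x * (y * x * y⁻¹) = (x * y * x) * y⁻¹ := by group
      _ = y⁻¹ * x⁻¹ * (y * y)⁻¹ := by rw [h1]; group
      _ = (y * y) * x⁻¹ * y := by rw [hy, inv_inv]
      _ = y * (x * y⁻¹ * x) := by rw [h2]; group
      _ = _ := by group
  have h3 := (Commute.refl x).mul_right hc.inv_right
  rwa [show x * (y * x * y⁻¹)⁻¹ = ⁅x, y⁆ by rw [commutatorElement_def]; group] at h3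

variable {p : ℕ} [Fact p.Prime] {G : Type v} [Group G] [Finite G] {F : Type} [Field F] [Fintype F]

/-- The structure of the Sylow subgroup in the two shapes. -/
theorem sylow_structure {S : Subgroup G} [Nontrivial ↥S] (hex : Exceptional p ↥S)
    (h : (ShapeOne F p G ∧ ⁅frattini ↥S, (⊤ : Subgroup ↥S)⁆ = ⊥ ∧ (p ≠ 2 → ∀ s : ↥S, s ^ p = 1)) ∨
      (p = 3 ∧ ShapeTwo F p G ∧ ∃ n y : ↥S, ¬ Commute n ⁅n, y⁆)) :
    (S.lowerCentralSeries 2 = ⊥ ∧ S.lowerCentralSeries 1 ≠ ⊥ ∧ (p = 2 → Monoid.exponent ↥S = 4) ∧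
      (p ≠ 2 → Monoid.exponent ↥S = p) ∧
      (∃ U W : Subgroup G, W ≤ U ∧ U ≤ (Cfsg.pCore p G) ∧ Cfsg.IsChiefFactor U W ∧
        ¬ ⁅U, (⊤ : Subgroup G)⁆ ≤ W ∧ (∃ k : ℕ, Cfsg.iterCommutator W ⊤ k = ⊥) ∧
        (∃ k : ℕ, Cfsg.iterCommutator (Cfsg.pCore p G) ⊤ k ≤ U))) ∨
    (p = 3 ∧ S.lowerCentralSeries 3 = ⊥ ∧ S.lowerCentralSeries 2 ≠ ⊥ ∧ Monoid.exponent ↥S = 9 ∧
      (∃ U₁ W₁ U₂ W₂ : Subgroup G, W₁ ≤ U₁ ∧ U₁ ≤ W₂ ∧ W₂ ≤ U₂ ∧ U₂ ≤ (Cfsg.pCore p G) ∧
        Cfsg.IsChiefFactor U₁ W₁ ∧ Cfsg.IsChiefFactor U₂ W₂ ∧ ¬ ⁅U₁, (⊤ : Subgroup G)⁆ ≤ W₁ ∧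
        ¬ ⁅U₂, (⊤ : Subgroup G)⁆ ≤ W₂ ∧ (∃ k : ℕ, Cfsg.iterCommutator W₁ ⊤ k = ⊥) ∧
        (∃ k : ℕ, Cfsg.iterCommutator W₂ ⊤ k ≤ U₁) ∧
        (∃ k : ℕ, Cfsg.iterCommutator (Cfsg.pCore p G) ⊤ k ≤ U₂))) := by
  have hmap : (⊤ : Subgroup ↥S).map S.subtype = S := by rw [← MonoidHom.range_eq_map, S.range_subtype]
  have hL1 : S.lowerCentralSeries 1 = Subgroup.map S.subtype ⁅(⊤ : Subgroup ↥S), (⊤ : Subgroup ↥S)⁆ := by
    rw [map_commutator, hmap]; rfl
  have hL2 : S.lowerCentralSeries 2 =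
      Subgroup.map S.subtype ⁅⁅(⊤ : Subgroup ↥S), (⊤ : Subgroup ↥S)⁆, (⊤ : Subgroup ↥S)⁆ := by
    rw [map_commutator, ← hL1, hmap]; rfl
  have hL3 : S.lowerCentralSeries 3 =
      Subgroup.map S.subtype
        ⁅⁅⁅(⊤ : Subgroup ↥S), (⊤ : Subgroup ↥S)⁆, (⊤ : Subgroup ↥S)⁆, (⊤ : Subgroup ↥S)⁆ := by
    rw [map_commutator, ← hL2, hmap]; rfl
  have hinj : ∀ {X : Subgroup ↥S}, X.map S.subtype = ⊥ ↔ X = ⊥ :=
    Subgroup.map_eq_bot_iff_of_injective _ S.subtype_injective
  have hcomm : ⁅(⊤ : Subgroup ↥S), (⊤ : Subgroup ↥S)⁆ ≤ frattini ↥S :=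
    CfsgLib.Coprime.commutator_le_frattini hex.red.isp
  have hp : p.Prime := Fact.out
  have hne1 : Monoid.exponent ↥S ≠ 1 := fun e =>
    not_subsingleton ↥S (Monoid.exp_eq_one_iff.1 e)
  rcases h with ⟨hshape, hcl, hexp⟩ | ⟨hp3, hshape, n, y, hny⟩
  · refine Or.inl ⟨?_, ?_, ?_, ?_, hshape.factors⟩
    · rw [hL2, hinj, eq_bot_iff]
      exact (commutator_mono hcomm le_rfl).trans hcl.le
    · rw [hL1, Ne, hinj]
      intro e
      refine hex.nonab ⟨⟨fun a b => ?_⟩⟩
      exact commutatorElement_eq_one_iff_mul_comm.1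
        (mem_bot.1 (e.le (commutator_mem_commutator (mem_top a) (mem_top b))))
    · intro h2
      have h4 : ∀ x : ↥S, x ^ 4 = 1 := fun x => by
        have h1 := hex.frattini_two h2 (CfsgLib.Coprime.pow_mem_frattini hex.red.isp x)
        have := hex.red.elem _ h1
        rwa [← pow_mul, h2] at this
      obtain ⟨i, hi, e⟩ := (Nat.dvd_prime_pow Nat.prime_two (m := 2)).1
        (show Monoid.exponent ↥S ∣ 2 ^ 2 from Monoid.exponent_dvd_of_forall_pow_eq_one h4)
      interval_cases i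
      · exact absurd e hne1
      · exfalso
        refine hex.nonab ⟨⟨fun a b => ?_⟩⟩
        exact Commute.eq (mul_comm_of_exponent_two (e.trans (pow_one 2)) a b)
      · exact e
    · intro h2
      exact ((Nat.dvd_prime hp).1
        (Monoid.exponent_dvd_of_forall_pow_eq_one (hexp h2))).resolve_left hne1
  · refine Or.inr ⟨hp3, ?_, ?_, ?_, hshape.factors⟩
    · have h0 := hex.zero
      rw [bigS0, if_neg (by omega), if_pos hp3] at h0
      rw [hL3, hinj, eq_bot_iff]
      exact (commutator_mono (commutator_mono hcomm le_rfl) le_rfl).trans (sup_eq_bot_iff.1 h0).1.le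
    · rw [hL2, Ne, hinj]
      intro e
      refine hny (Commute.symm ?_)
      exact commutatorElement_eq_one_iff_mul_comm.1 (mem_bot.1 (e.le (commutator_mem_commutator
        (commutator_mem_commutator (mem_top n) (mem_top y)) (mem_top n))))
    · have h9 : ∀ x : ↥S, x ^ 9 = 1 := fun x => by
        have := hex.frattini_elementary.2 _ (CfsgLib.Coprime.pow_mem_frattini hex.red.isp x)
        rwa [← pow_mul, hp3] at this
      obtain ⟨i, hi, e⟩ := (Nat.dvd_prime_pow Nat.prime_three (m := 2)).1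
        (show Monoid.exponent ↥S ∣ 3 ^ 2 from Monoid.exponent_dvd_of_forall_pow_eq_one h9)
      interval_cases i
      · exact absurd e hne1
      · refine absurd (commute_of_cube (fun x => ?_) n y) hny
        rw [← pow_one 3, ← e]
        exact Monoid.pow_exponent_eq_one x
      · exact e

end CfsgLib.PushAmalgam
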