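import Cfsg.Agent.Lib.PushAmalgam.Facts

/-!
# Pushing up in rank one: two members at one edge

If two members `H`, `K` at `T` have commuting distinct `V`'s then `[V_K, T]` is central in `H`; if a
central element of `T` inside `[Φ(T), T] Φ(Φ(T)) ℧¹(T)` is moved by `H` then `V_K ≤ Q_H`.
-/

set_option autoImplicit false
set_option linter.style.haveILetI false
set_option linter.unusedSectionVars false

open Subgroup
open scoped commutatorElement Pointwise
open CfsgLib.PushUp (MA cj mem_cj conj_mem_cj cj_mono card_cj ctr Fr)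

namespace CfsgLib.PushAmalgam

universe u

variable {Γ : Type u} [Group Γ] {p : ℕ} [Fact p.Prime] {T T' H K : Subgroup Γ}

theorem pow_mul_of_comm {x y c : Γ} (hc : y * x = c * (x * y)) (hx : Commute c x) (hy : Commute c y) :
    ∀ n : ℕ, (x * y) ^ n = c ^ n.choose 2 * (x ^ n * y ^ n) := by
  intro n
  induction n with
  | zero => simp
  | succ n ih =>
    have h1 : ∀ m : ℕ, y ^ m * x = c ^ m * (x * y ^ m) := by
      intro m
      induction m with
      | zero => simp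
      | succ m ihm =>
        calc y ^ (m + 1) * x = y ^ m * (y * x) := by rw [pow_succ, mul_assoc]
          _ = y ^ m * c * (x * y) := by rw [hc]; group
          _ = c * (y ^ m * x) * y := by rw [← (hy.pow_right m).eq]; group
          _ = c * (c ^ m * (x * y ^ m)) * y := by rw [ihm]
          _ = _ := by rw [pow_succ', pow_succ y m]; group
    have hch : (n + 1).choose 2 = n.choose 2 + n := by
      rw [Nat.choose_succ_succ, Nat.choose_one_right, add_comm]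
    rw [pow_succ, ih, hch, pow_add, pow_succ x n, pow_succ y n]
    calc c ^ n.choose 2 * (x ^ n * y ^ n) * (x * y)
        = c ^ n.choose 2 * (x ^ n * (y ^ n * x)) * y := by group
      _ = c ^ n.choose 2 * (x ^ n * c ^ n * (x * y ^ n)) * y := by rw [h1]; group
      _ = c ^ n.choose 2 * (c ^ n * x ^ n * (x * y ^ n)) * y := by rw [← (hx.pow_pow n n).eq]
      _ = _ := by group

/-- A member with the reduced `p`-group. -/
structure Mem (p : ℕ) (T H : Subgroup Γ) : Prop where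
  base : Base p T
  good : Good p T H

namespace Mem

theorem conj (m : Mem p T H) (γ : Γ) : Mem p (cj γ T) (cj γ H) := ⟨m.base.conj γ, m.good.conj γ⟩

theorem edge (m : Mem p T H) {x : Γ} (hx : x ∈ H) : Mem p (cj x T) H :=
  ⟨m.base.conj x, m.good.edge hx⟩

theorem facts (m : Mem p T H) : Facts p T H := m.good.facts m.base

theorem V_le_Q (_m : Mem p T H) : Vo p H ≤ Qo p H := Vo_le_Qo H

theorem V_le (m : Mem p T H) : Vo p H ≤ T := m.V_le_Q.trans m.good.Q_le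

theorem V_cent_Q (_m : Mem p T H) : Vo p H ≤ centralizer (Qo p H : Set Γ) := inf_le_right

theorem Q_cent_V (m : Mem p T H) : Qo p H ≤ centralizer (Vo p H : Set Γ) :=
  le_centralizer_iff.1 m.V_cent_Q

theorem V_comm (m : Mem p T H) {v w : Γ} (hv : v ∈ Vo p H) (hw : w ∈ Vo p H) : Commute v w :=
  commute_of_cent (m.V_cent_Q hw) (m.V_le_Q hv)

theorem fS_eq (m : Mem p T H) (m' : Mem p T' H) : fS T' = fS T := by
  obtain ⟨x, -, rfl⟩ := m.good.conjugate m'.good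
  exact fS_cj x T

theorem centV (m : Mem p T H) : T ⊓ centralizer (Vo p H : Set Γ) = Qo p H := by
  haveI := m.base.fin
  haveI : Finite ↥(T ⊓ centralizer (Vo p H : Set Γ)) := finite_of_le inf_le_left
  haveI : Finite ↥(Vo p H) := finite_of_le m.V_le
  refine (eq_of_le_of_card_ge (le_inf m.good.Q_le m.Q_cent_V) ?_).symm
  have h1 := m.base.le_f _ m.V_le
  rw [← m.facts.card_VQ] at h1
  exact Nat.le_of_mul_le_mul_left h1 Nat.card_pos

theorem lgV (m : Mem p T H) : Lg T (Vo p H) :=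
  ⟨m.V_le, by rw [m.centV, m.facts.card_VQ]⟩

theorem lgQ (m : Mem p T H) : Lg T (Qo p H) ∧ T ⊓ centralizer (Qo p H : Set Γ) = Vo p H := by
  obtain ⟨h1, h2⟩ := m.base.lg_cent m.lgV
  rw [m.centV] at h1 h2
  exact ⟨h1, h2⟩

theorem mem_Q (m : Mem p T H) {t : Γ} (ht : t ∈ T) (hc : ∀ v ∈ Vo p H, Commute v t) :
    t ∈ Qo p H :=
  m.centV.le ⟨ht, mem_centralizer_iff.2 hc⟩

theorem cent_elem (m : Mem p T H) {v : Γ} (hv : v ∈ Vo p H) (hv' : v ∉ ctr T) {t : Γ} (ht : t ∈ T)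
    (hc : Commute t v) : t ∈ Qo p H := by
  by_contra h
  exact hv' (m.facts.fix v hv t ht h hc)

theorem ctr_le_Q (m : Mem p T H) : ctr T ≤ Qo p H := m.facts.zle.trans m.V_le_Q

theorem quad' (m : Mem p T H) {v s : Γ} (hv : v ∈ Vo p H) (hs : s ∈ T) : ⁅v, s⁆ ∈ ctr T := by
  rw [← commutatorElement_inv]
  exact inv_mem (m.facts.quad v hv s hs)

theorem T_normQ (m : Mem p T H) : T ≤ normalizer (Qo p H : Set Γ) := m.good.le.trans m.good.normQ

theorem T_normV (m : Mem p T H) : T ≤ normalizer (Vo p H : Set Γ) := m.good.le.trans m.good.normV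

theorem transport (m : Mem p T H) (m' : Mem p T' H) {X : Subgroup Γ} (hX : Lg T X)
    (hXQ : X ≤ Qo p H) (hC : T ⊓ centralizer (X : Set Γ) ≤ Qo p H) :
    Lg T' X ∧ T' ⊓ centralizer (X : Set Γ) = T ⊓ centralizer (X : Set Γ) := by
  haveI := m'.base.fin
  haveI : Finite X := finite_of_le (hXQ.trans m'.good.Q_le)
  haveI : Finite ↥(T' ⊓ centralizer (X : Set Γ)) := finite_of_le inf_le_left
  have hle : T ⊓ centralizer (X : Set Γ) ≤ T' ⊓ centralizer (X : Set Γ) :=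
    le_inf (hC.trans m'.good.Q_le) inf_le_right
  have h2 := m'.base.le_f X (hXQ.trans m'.good.Q_le)
  rw [m.fS_eq m'] at h2
  have e : T ⊓ centralizer (X : Set Γ) = T' ⊓ centralizer (X : Set Γ) :=
    eq_of_le_of_card_ge hle (Nat.le_of_mul_le_mul_left (h2.trans hX.2) Nat.card_pos)
  refine ⟨⟨hXQ.trans m'.good.Q_le, ?_⟩, e.symm⟩
  rw [← e, m.fS_eq m']
  exact hX.2

theorem sup_ctr (m : Mem p T H) (m' : Mem p T' H) (e : T ⊔ T' = H) :
    ctr T ⊔ ctr T' = Vo p H := by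
  obtain ⟨x, hx, rfl⟩ := m.good.conjugate m'.good
  rw [← cj_ctr]
  exact m.facts.supz x hx e

theorem sup_or (m : Mem p T H) {N : Subgroup Γ} (hN : N ≤ H) (hn : H ≤ normalizer (N : Set Γ))
    {y : Γ} (hyT : y ∈ T) (hyN : y ∈ N) (hyQ : y ∉ Qo p H) : N ⊔ T = H :=
  (m.good.sup_or hN hn).resolve_left fun h => hyQ (h ⟨hyT, hyN⟩)

theorem exists_gen (m : Mem p T H) {y : Γ} (hy : y ∈ T) (hyQ : y ∉ Qo p H) :
    ∃ T', Mem p T' H ∧ T' ⊔ cj y T' = H ∧ T' ⊔ T = H ∧ ∃ x ∈ H, T' = cj x T := by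
  obtain ⟨x, hx, e⟩ := m.good.gen hy hyQ
  refine ⟨_, m.edge hx, e, ?_, x, hx, rfl⟩
  refine le_antisymm (sup_le (m.edge hx).good.le m.good.le) (e.ge.trans (sup_le le_sup_left ?_))
  intro z hz
  have hyS : y ∈ cj x T ⊔ T := mem_sup_right hy
  have h1 := mem_cj.1 hz
  have := mul_mem (mul_mem hyS (mem_sup_left h1 : y⁻¹ * z * y ∈ cj x T ⊔ T)) (inv_mem hyS)
  rwa [show y * (y⁻¹ * z * y) * y⁻¹ = z by group] at this

/-- The single commutator lemma. -/
theorem single (m : Mem p T H) {v a : Γ} (hv : v ∈ Vo p H) (ha : a ∈ T)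
    (hc : ⁅a, v⁆ ∈ centralizer (H : Set Γ)) : ⁅a, v⁆ = 1 := by
  by_cases haQ : a ∈ Qo p H
  · exact commutatorElement_eq_one_iff_commute.2 (commute_of_cent (m.V_cent_Q hv) haQ)
  obtain ⟨T', m', e, e', -⟩ := m.exists_gen ha haQ
  have hs := m.sup_ctr m' (by rw [sup_comm]; exact e')
  rw [← hs, sup_comm, ← SetLike.mem_coe, coe_mul_of_left_le_normalizer_right] at hv
  swap
  · refine fun z hz => ?_
    refine (Subgroup.centralizer_le_normalizer _) (mem_centralizer_iff.2 fun w hw => ?_)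
    exact m.V_comm (m.facts.zle hw) (m'.facts.zle hz)
  obtain ⟨z', hz', z, hz, rfl⟩ := hv
  have hza : Commute a z := commute_of_cent hz.2 ha
  have e1 : ⁅a, z' * z⁆ = ⁅a, z'⁆ := by
    rw [commutatorElement_def, commutatorElement_def]
    calc a * (z' * z) * a⁻¹ * (z' * z)⁻¹ = a * z' * (z * a⁻¹) * z⁻¹ * z'⁻¹ := by group
      _ = a * z' * (a⁻¹ * z) * z⁻¹ * z'⁻¹ := by rw [hza.symm.inv_right.eq]
      _ = _ := by group
  rw [e1] at hc ⊢
  have hca : a * z' * a⁻¹ = ⁅a, z'⁆ * z' := by rw [commutatorElement_def]; group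
  have h1 : ⁅a, z'⁆ * z' ∈ centralizer (T' : Set Γ) :=
    mul_mem (centralizer_le m'.good.le hc) hz'.2
  have h2 : ⁅a, z'⁆ * z' ∈ centralizer (H : Set Γ) := by
    refine cent_of_sup e h1 ?_
    rw [← hca, ← cj_centralizer]
    exact conj_mem_cj hz'.2
  have h3 : z' ∈ centralizer (H : Set Γ) := by
    have := mul_mem (inv_mem hc) h2
    rwa [inv_mul_cancel_left] at this
  exact commutatorElement_eq_one_iff_commute.2 (commute_of_cent h3 (m.good.le ha))

theorem elemV (m : Mem p T H) {v : Γ} (hv : v ∈ Vo p H) : v ^ p = 1 := by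
  obtain ⟨x, hx, e⟩ := m.good.exists_opp
  rw [← m.facts.supz x hx e, sup_comm, ← SetLike.mem_coe, coe_mul_of_left_le_normalizer_right] at hv
  swap
  · intro z hz
    rw [cj_ctr] at hz
    refine (Subgroup.centralizer_le_normalizer _) (mem_centralizer_iff.2 fun w hw => ?_)
    exact m.V_comm (m.facts.zle hw) ((m.edge hx).facts.zle hz)
  obtain ⟨z', hz', z, hz, rfl⟩ := hv
  rw [SetLike.mem_coe, cj_ctr] at hz'
  have hc : Commute z' z := m.V_comm ((m.edge hx).facts.zle hz') (m.facts.zle hz)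
  rw [hc.mul_pow, (m.edge hx).base.elem _ hz', m.base.elem _ hz, one_mul]

/-! ### Two members at one edge -/

theorem le_Q_of_comm (mH : Mem p T H) (mK : Mem p T K)
    (hc : ∀ v ∈ Vo p H, ∀ w ∈ Vo p K, Commute v w) : Vo p K ≤ Qo p H := fun _w hw =>
  mH.mem_Q (mK.V_le hw) fun v hv => hc v hv _ hw

theorem comm_of_le_Q (mH : Mem p T H) (hle : Vo p K ≤ Qo p H) {v w : Γ} (hv : v ∈ Vo p H)
    (hw : w ∈ Vo p K) : Commute v w :=
  (commute_of_cent (mH.V_cent_Q hv) (hle hw)).symm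

theorem le_Q_symm (mH : Mem p T H) (mK : Mem p T K) (hle : Vo p K ≤ Qo p H) :
    Vo p H ≤ Qo p K :=
  le_Q_of_comm mK mH fun _ hw _ hv => (mH.comm_of_le_Q hle hv hw).symm

theorem V_inf (mH : Mem p T H) (mK : Mem p T K) (ne : Vo p K ≠ Vo p H) :
    Vo p H ⊓ Vo p K ≤ ctr T := by
  intro v hv
  by_contra hz
  obtain ⟨hvH, hvK⟩ := mem_inf.1 hv
  have hQ : Qo p H = Qo p K := le_antisymm
    (fun t ht => mK.cent_elem hvK hz (mH.good.Q_le ht) (commute_of_cent (mH.V_cent_Q hvH) ht))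
    (fun t ht => mH.cent_elem hvH hz (mK.good.Q_le ht) (commute_of_cent (mK.V_cent_Q hvK) ht))
  exact ne (by rw [Vo, Vo, hQ])

end Mem

theorem Base.prod_of_inf_le (b : Base p T) {X Y : Subgroup Γ} (hX : Lg T X) (hY : Lg T Y)
    (h : X ⊓ Y ≤ ctr T) {t : Γ} (ht : t ∈ T) :
    ∃ a ∈ T ⊓ centralizer (X : Set Γ), ∃ c ∈ T ⊓ centralizer (Y : Set Γ), t = a * c :=
  (b.lg_inf hX hY).2 t ht (mem_centralizer_iff.2 fun _ hy => (commute_of_cent (h hy).2 ht).symm)

namespace Mem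

theorem T_eq_QQ (mH : Mem p T H) (mK : Mem p T K) (ne : Vo p K ≠ Vo p H) {t : Γ} (ht : t ∈ T) :
    ∃ a ∈ Qo p H, ∃ c ∈ Qo p K, t = a * c := by
  obtain ⟨a, ha, c, hc, e⟩ := mH.base.prod_of_inf_le mH.lgV mK.lgV (mH.V_inf mK ne) ht
  exact ⟨a, mH.centV.le ha, c, mK.centV.le hc, e⟩

theorem T_eq_VQ (mH : Mem p T H) (mK : Mem p T K) (hnle : ¬ Vo p K ≤ Qo p H) {t : Γ} (ht : t ∈ T) :
    ∃ a ∈ Vo p K, ∃ c ∈ Qo p H, t = a * c := by
  obtain ⟨w, hw, hwQ⟩ := SetLike.not_le_iff_exists.1 hnle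
  have hinf : Qo p K ⊓ Vo p H ≤ ctr T := fun v hv =>
    mH.facts.fix v hv.2 w (mK.V_le hw) hwQ (commute_of_cent (mK.V_cent_Q hw) hv.1).symm
  obtain ⟨a, ha, c, hc, e⟩ := mH.base.prod_of_inf_le mK.lgQ.1 mH.lgV hinf ht
  exact ⟨a, mK.lgQ.2.le ha, c, mH.centV.le hc, e⟩

/-- Commuting neighbours: `[V_K, T]` is central in `H`. -/
theorem comm_central (mH : Mem p T H) (mK : Mem p T K) (ne : Vo p K ≠ Vo p H)
    (hle : Vo p K ≤ Qo p H) {v t : Γ} (hv : v ∈ Vo p K) (ht : t ∈ T) :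
    ⁅t, v⁆ ∈ centralizer (H : Set Γ) := by
  obtain ⟨x, hx, e⟩ := mH.good.exists_opp
  obtain ⟨T', hT'⟩ : ∃ T', T' = cj x T := ⟨_, rfl⟩
  rw [← hT'] at e
  have m' : Mem p T' H := hT' ▸ mH.edge hx
  obtain ⟨A, hA, hAQ⟩ := m'.facts.ex
  obtain ⟨hAsup, hB⟩ := m'.facts.off A hA hAQ
  obtain ⟨a, haA, hgena⟩ := mH.good.gen_mem (X := A) (by
    refine le_antisymm (sup_le (hA.1.trans m'.good.le) mH.good.le) ?_
    rw [← e]
    exact sup_le le_sup_right
      (hAsup.ge.trans (sup_le le_sup_left (mH.good.Q_le.trans le_sup_right))))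
  have haH : a ∈ H := m'.good.le (hA.1 haA)
  have hgena' : T ⊔ cj a⁻¹ T = H := by
    have := congrArg (cj a⁻¹) hgena
    rw [cj_sup, cj_inv_cj, mH.good.cjH (inv_mem haH)] at this
    rwa [sup_comm]
  haveI := hA.2.1
  have hAc : ∀ y ∈ A, Commute a y := fun y hy => (commute_of_cent (le_centralizer A hy) haA)
  obtain ⟨B, hBdef⟩ : ∃ B, B = A ⊓ Qo p H ⊔ Vo p H := ⟨_, rfl⟩
  rw [← hBdef] at hB
  have hBQ : B ≤ Qo p H := hBdef ▸ sup_le inf_le_right mH.V_le_Q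
  have hBs : ∀ β ∈ B, ∃ d ∈ A ⊓ Qo p H, ∃ w ∈ Vo p H, β = d * w := by
    intro β hβ
    rw [hBdef, ← SetLike.mem_coe, coe_mul_of_left_le_normalizer_right _ _
      ((inf_le_right.trans mH.Q_cent_V).trans (Subgroup.centralizer_le_normalizer _))] at hβ
    obtain ⟨d, hd, w, hw, rfl⟩ := hβ
    exact ⟨d, hd, w, hw, rfl⟩
  have hdB : ∀ d ∈ A ⊓ Qo p H, d ∈ B := fun d hd => hBdef ▸ mem_sup_left hd
  obtain ⟨hlgB, hcB⟩ := m'.transport mH (m'.base.lg_ma hB) hBQ (by rw [m'.base.cent_ma hB]; exact hBQ)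
  rw [m'.base.cent_ma hB] at hcB
  haveI := hB.2.1
  have hBc : ∀ β ∈ B, ∀ d ∈ B, Commute β d := fun β hβ d hd =>
    commute_of_cent (le_centralizer B hd) hβ
  have hVV : ∀ u ∈ Vo p H, ∀ w ∈ Vo p K, Commute u w := fun u hu w hw => mH.comm_of_le_Q hle hu hw
  obtain ⟨hlgX, hXset⟩ := mH.base.lg_sup hlgB mK.lgV
  have hcX : T ⊓ centralizer ((B ⊔ Vo p K : Subgroup Γ) : Set Γ) = B ⊓ Qo p K := by
    rw [CfsgLib.CDLat.centralizer_sup, inf_inf_distrib_left, hcB, mK.centV]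
  have hccX := (mH.base.lg_cent hlgX).2
  rw [hcX] at hccX
  -- commutators with the offender's part inside `Q` are central
  have hD : ∀ d ∈ A ⊓ Qo p H, ∀ n ∈ Vo p K, ⁅d, n⁆ ∈ centralizer (H : Set Γ) := by
    intro d hd n hn
    have hna : a * n * a⁻¹ ∈ B ⊔ Vo p K := by
      rw [← hccX]
      have hmQ : a * n * a⁻¹ ∈ Qo p H := mem_normalizer_conj (mH.good.normQ haH) (hle hn)
      refine ⟨mH.good.Q_le hmQ, mem_centralizer_iff.2 fun β hβ => ?_⟩
      obtain ⟨hβB, hβQ⟩ := mem_inf.1 hβ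
      obtain ⟨d', hd', w, hw, rfl⟩ := hBs β hβB
      have hd'Q : d' ∈ Qo p K := by
        have := mul_mem hβQ (inv_mem (mH.le_Q_symm mK hle hw))
        rwa [mul_inv_cancel_right] at this
      have h1 : Commute d' (a * n * a⁻¹) := by
        have hdn : Commute d' n := commute_of_cent (mK.V_cent_Q hn) hd'Q
        have ha' : Commute d' a := (hAc d' hd'.1).symm
        exact (ha'.mul_right hdn).mul_right ha'.inv_right
      have h2 : Commute w (a * n * a⁻¹) := (commute_of_cent (mH.V_cent_Q hw) hmQ).symm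
      exact h1.mul_left h2
    rw [← SetLike.mem_coe, hXset] at hna
    obtain ⟨β, hβ, n', hn', e1⟩ := hna
    have hc : ⁅d, n⁆ ∈ ctr T := mK.facts.quad n hn d (mH.good.Q_le hd.2)
    have hc' : ⁅d, n'⁆ ∈ ctr T := mK.facts.quad n' hn' d (mH.good.Q_le hd.2)
    have e2 : a * ⁅d, n⁆ * a⁻¹ = ⁅d, n'⁆ := by
      have hda : a * d * a⁻¹ = d := by rw [(hAc d hd.1).eq, mul_inv_cancel_right]
      calc a * ⁅d, n⁆ * a⁻¹ = ⁅a * d * a⁻¹, a * n * a⁻¹⁆ := by
            simp only [commutatorElement_def]; group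
        _ = ⁅d, β * n'⁆ := by rw [hda, ← e1]
        _ = ⁅d, β⁆ * (β * ⁅d, n'⁆ * β⁻¹) := by simp only [commutatorElement_def]; group
        _ = _ := by
          rw [commutatorElement_eq_one_iff_commute.2 (hBc d (hdB d hd) β hβ), one_mul,
            (commute_of_cent hc'.2 (hlgB.le hβ)).eq, mul_inv_cancel_right]
    refine cent_of_sup hgena' hc.2 ?_
    rw [← cj_centralizer, mem_cj, inv_inv, e2]
    exact hc'.2
  by_cases hB0 : B ⊓ Vo p K ≤ ctr T
  · obtain ⟨β, hβ, q, hq, rfl⟩ := mH.base.prod_of_inf_le hlgB mK.lgV hB0 ht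
    rw [hcB] at hβ
    rw [mK.centV] at hq
    obtain ⟨d, hd, w, hw, rfl⟩ := hBs β hβ
    have hwq : Commute (w * q) v := (hVV w hw v hv).mul_left (commute_of_cent (mK.V_cent_Q hv) hq)
    have e2 : ⁅d * w * q, v⁆ = ⁅d, v⁆ := by
      calc ⁅d * w * q, v⁆ = d * ((w * q) * v * (w * q)⁻¹) * d⁻¹ * v⁻¹ := by
            simp only [commutatorElement_def]; group
        _ = _ := by rw [hwq.eq, mul_inv_cancel_right, commutatorElement_def]
    rw [e2]
    exact hD d hd v hv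
  obtain ⟨x0, hx0, hx0z⟩ := SetLike.not_le_iff_exists.1 hB0
  obtain ⟨hx0B, hx0K⟩ := mem_inf.1 hx0
  obtain ⟨P, hP⟩ : ∃ P, P = Qo p H ⊓ Qo p K := ⟨_, rfl⟩
  have hPeq : ∀ y ∈ Qo p H, y ∈ P ↔ Commute y x0 := fun y hy => by
    rw [hP, mem_inf]
    exact ⟨fun h => commute_of_cent (mK.V_cent_Q hx0K) h.2,
      fun h => ⟨hy, mK.cent_elem hx0K hx0z (mH.good.Q_le hy) h⟩⟩
  have haP : ∀ b : Γ, b = a ∨ b = a⁻¹ → ∀ y ∈ P, b * y * b⁻¹ ∈ P := by
    intro b hb y hy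
    have hyQ : y ∈ Qo p H := (hP ▸ hy : y ∈ Qo p H ⊓ Qo p K).1
    have hbH : b ∈ H := by rcases hb with rfl | rfl <;> [exact haH; exact inv_mem haH]
    have hbyQ := mem_normalizer_conj (mH.good.normQ hbH) hyQ
    refine (hPeq _ hbyQ).2 ?_
    have hc0 := (hPeq y hyQ).1 hy
    obtain ⟨d, hd, w, hw, rfl⟩ := hBs x0 hx0B
    have h1 : Commute y d := by
      have := hc0.mul_right (commute_of_cent (mH.V_cent_Q hw) hyQ).inv_right
      rwa [mul_inv_cancel_right] at this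
    have hbd : Commute d b := by
      rcases hb with rfl | rfl
      · exact (hAc d hd.1).symm
      · exact (hAc d hd.1).symm.inv_right
    have h2 : Commute (b * y * b⁻¹) d := ((hbd.mul_right h1.symm).mul_right hbd.inv_right).symm
    exact h2.mul_right (commute_of_cent (mH.V_cent_Q hw) hbyQ)
  have hTP : T ≤ normalizer (P : Set Γ) := hP ▸ le_normalizer_inf mH.T_normQ mK.T_normQ
  have haN : a ∈ normalizer (P : Set Γ) := CfsgLib.PushUp.mem_normalizer_of_forall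
    (haP a (Or.inl rfl)) fun y hy => by simpa using haP a⁻¹ (Or.inr rfl) y hy
  have hHP : H ≤ normalizer (P : Set Γ) := by
    rw [← hgena]
    refine sup_le hTP ?_
    rintro _ ⟨t', ht', rfl⟩
    exact mul_mem (mul_mem haN (hTP ht')) (inv_mem haN)
  have hXeq : ∀ y ∈ Qo p H, y ∈ centralizer (P : Set Γ) →
      ∃ u ∈ Vo p H, ∃ w ∈ Vo p K, y = u * w := by
    intro y hy hc
    obtain ⟨u, hu, w, hw, e1⟩ := (mH.base.lg_inf mH.lgQ.1 mK.lgQ.1).2 y (mH.good.Q_le hy) (hP ▸ hc)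
    exact ⟨u, mH.lgQ.2.le hu, w, mK.lgQ.2.le hw, e1⟩
  obtain ⟨q, hq, q₀, hq₀, rfl⟩ := mH.T_eq_QQ mK ne ht
  have e2 : ⁅q * q₀, v⁆ = ⁅q, v⁆ := by
    calc ⁅q * q₀, v⁆ = q * (q₀ * v * q₀⁻¹) * q⁻¹ * v⁻¹ := by
          simp only [commutatorElement_def]; group
      _ = _ := by
        rw [(commute_of_cent (mK.V_cent_Q hv) hq₀).eq, mul_inv_cancel_right, commutatorElement_def]
  rw [e2]
  refine mH.good.cent_of_conj fun h hh => ?_
  rw [show h * ⁅q, v⁆ * h⁻¹ = ⁅h * q * h⁻¹, h * v * h⁻¹⁆ by simp only [commutatorElement_def]; group]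
  have hqQ := mem_normalizer_conj (mH.good.normQ hh) hq
  have hvC : v ∈ centralizer (P : Set Γ) :=
    centralizer_le (hP.le.trans inf_le_right) (mK.V_cent_Q hv)
  obtain ⟨u, hu, w, hw, e1⟩ := hXeq _ (mem_normalizer_conj (mH.good.normQ hh) (hle hv))
    (mem_centralizer_iff.2 fun y hy => by
      have h1 := mem_centralizer_iff.1 hvC _ (mem_normalizer_conj' (hHP hh) hy)
      calc y * (h * v * h⁻¹) = h * (h⁻¹ * y * h * v) * h⁻¹ := by group
        _ = h * (v * (h⁻¹ * y * h)) * h⁻¹ := by rw [h1]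
        _ = _ := by group)
  rw [e1]
  obtain ⟨r, hr⟩ : ∃ r, r = h * q * h⁻¹ := ⟨_, rfl⟩
  rw [← hr] at hqQ ⊢
  have hrw : ⁅r, u * w⁆ = u * ⁅r, w⁆ * u⁻¹ := by
    calc ⁅r, u * w⁆ = ⁅r, u⁆ * (u * ⁅r, w⁆ * u⁻¹) := by simp only [commutatorElement_def]; group
      _ = _ := by
        rw [commutatorElement_eq_one_iff_commute.2 (commute_of_cent (mH.V_cent_Q hu) hqQ), one_mul]
  have hc := mK.facts.quad w hw r (mH.good.Q_le hqQ)
  rw [hrw, (commute_of_cent hc.2 (mH.V_le hu)).eq, mul_inv_cancel_right]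
  exact hc.2

/-- A central element in `[Φ(T), T] Φ(Φ(T)) ℧¹(T)` moved by `H` makes all neighbours commute. -/
theorem le_Q_of_big (mH : Mem p T H) (mK : Mem p T K) {z : Γ} (hz : z ∈ ctr T) (hzB : z ∈ Big p T)
    (hzH : z ∉ centralizer (H : Set Γ)) : Vo p K ≤ Qo p H := by
  by_contra hnle
  haveI := mH.base.fin
  haveI : Finite ↥(Qo p H) := finite_of_le mH.good.Q_le
  haveI : Finite ↥(Fr T) := finite_of_le (Fr_le_self T)
  have hQp : IsPGroup p ↥(Qo p H) := mH.base.isp.to_le mH.good.Q_le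
  refine hzH ?_
  obtain ⟨N, hN⟩ : ∃ N : Subgroup Γ, ∀ g, g ∈ N ↔ g ∈ H ∧ ∀ q ∈ Qo p H, ⁅g, q⁆ ∈ Vo p H := by
    refine ⟨{ carrier := {g | g ∈ H ∧ ∀ q ∈ Qo p H, ⁅g, q⁆ ∈ Vo p H}
              one_mem' := ⟨one_mem H, fun q _ => by simp⟩
              mul_mem' := fun {a b} ha hb => ⟨mul_mem ha.1 hb.1, fun q hq => ?_⟩
              inv_mem' := fun {a} ha => ⟨inv_mem ha.1, fun q hq => ?_⟩ }, fun g => Iff.rfl⟩
    · rw [show ⁅a * b, q⁆ = a * ⁅b, q⁆ * a⁻¹ * ⁅a, q⁆ by simp only [commutatorElement_def]; group]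
      exact mul_mem (mem_normalizer_conj (mH.good.normV ha.1) (hb.2 q hq)) (ha.2 q hq)
    · rw [show ⁅a⁻¹, q⁆ = a⁻¹ * ⁅a, q⁆⁻¹ * a by simp only [commutatorElement_def]; group]
      exact mem_normalizer_conj' (mH.good.normV ha.1) (inv_mem (ha.2 q hq))
  have hNn : H ≤ normalizer (N : Set Γ) := by
    have key : ∀ h ∈ H, ∀ g ∈ N, h * g * h⁻¹ ∈ N := by
      intro h hh g hg
      obtain ⟨hg1, hg2⟩ := (hN g).1 hg
      refine (hN _).2 ⟨mul_mem (mul_mem hh hg1) (inv_mem hh), fun q hq => ?_⟩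
      rw [show ⁅h * g * h⁻¹, q⁆ = h * ⁅g, h⁻¹ * q * h⁆ * h⁻¹ by
        simp only [commutatorElement_def]; group]
      exact mem_normalizer_conj (mH.good.normV hh)
        (hg2 _ (mem_normalizer_conj' (mH.good.normQ hh) hq))
    exact fun h hh => CfsgLib.PushUp.mem_normalizer_of_forall (key h hh)
      fun g hg => by simpa using key h⁻¹ (inv_mem hh) g hg
  have hNK : ∀ w ∈ Vo p K, w ∈ N := fun w hw => (hN w).2 ⟨mH.good.le (mK.V_le hw),
    fun q hq => mH.facts.zle (mK.quad' hw (mH.good.Q_le hq))⟩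
  obtain ⟨w, hw, hwQ⟩ := SetLike.not_le_iff_exists.1 hnle
  have hNT := mH.sup_or (fun g hg => ((hN g).1 hg).1) hNn (mK.V_le hw) (hNK w hw) hwQ
  have hNfr : N ≤ centralizer (Fr (Qo p H) : Set Γ) := by
    intro g hg
    obtain ⟨hgH, hgV⟩ := (hN g).1 hg
    have hconj : ∀ q ∈ Qo p H, g * q * g⁻¹ = ⁅g, q⁆ * q := fun q _ => by
      rw [commutatorElement_def]; group
    have hcent : ∀ q ∈ Qo p H, ∀ r ∈ Qo p H, Commute ⁅g, q⁆ r := fun q hq r hr =>
      (commute_of_cent (mH.V_cent_Q (hgV q hq)) hr).symm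
    suffices h : Fr (Qo p H) ≤ centralizer ({g} : Set Γ) from
      mem_centralizer_iff.2 fun y hy => mem_centralizer_singleton_iff.1 (h hy)
    refine Fr_le_of (p := p) (fun q hq => ?_) fun q hq r hr => ?_
    · refine mem_centralizer_singleton_iff.2 (mul_inv_eq_iff_eq_mul.1 ?_).symm
      rw [← conj_pow, hconj q hq, (hcent q hq q hq).mul_pow, mH.elemV (hgV q hq), one_mul]
    · refine mem_centralizer_singleton_iff.2 (mul_inv_eq_iff_eq_mul.1 ?_).symm
      obtain ⟨c, hc⟩ : ∃ c, c = ⁅g, q⁆ := ⟨_, rfl⟩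
      obtain ⟨d, hd⟩ : ∃ d, d = ⁅g, r⁆ := ⟨_, rfl⟩
      have hcd : ∀ y ∈ Qo p H, Commute c y ∧ Commute d y := fun y hy =>
        ⟨hc ▸ hcent q hq y hy, hd ▸ hcent r hr y hy⟩
      have hdQ : d ∈ Qo p H := hd ▸ mH.V_le_Q (hgV r hr)
      calc g * ⁅q, r⁆ * g⁻¹ = ⁅g * q * g⁻¹, g * r * g⁻¹⁆ := by
            simp only [commutatorElement_def]; group
        _ = ⁅c * q, d * r⁆ := by rw [hconj q hq, hconj r hr, ← hc, ← hd]
        _ = c * (q * d) * r * (q⁻¹ * c⁻¹) * r⁻¹ * d⁻¹ := by simp only [commutatorElement_def]; group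
        _ = c * (d * q) * r * (c⁻¹ * q⁻¹) * r⁻¹ * d⁻¹ := by
          rw [(hcd q hq).2.eq.symm, ((hcd q hq).1.inv_left.inv_right).eq]
        _ = c * d * q * (r * c⁻¹) * q⁻¹ * r⁻¹ * d⁻¹ := by group
        _ = c * d * (q * c⁻¹) * r * q⁻¹ * r⁻¹ * d⁻¹ := by
          rw [← (hcd r hr).1.inv_left.eq]; group
        _ = c * (d * c⁻¹) * q * r * q⁻¹ * r⁻¹ * d⁻¹ := by
          rw [← (hcd q hq).1.inv_left.eq]; group
        _ = c * (c⁻¹ * d) * q * r * q⁻¹ * r⁻¹ * d⁻¹ := by rw [(hcd d hdQ).1.inv_left.eq]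
        _ = d * ⁅q, r⁆ * d⁻¹ := by simp only [commutatorElement_def]; group
        _ = _ := by
          rw [((hcd _ (Fr_le_self _ (comm_mem_Fr hQp hq hr))).2).eq, mul_inv_cancel_right]
  -- the Frattini part of `T`
  obtain ⟨M, hM⟩ : ∃ M, M = ctr T ⊔ Fr (Qo p H) := ⟨_, rfl⟩
  have hTFr : T ≤ normalizer (Fr (Qo p H) : Set Γ) := mH.T_normQ.trans (normalizer_le_Fr _)
  have hTM : T ≤ normalizer (M : Set Γ) :=
    hM ▸ le_normalizer_sup (le_normalizer.trans (normalizer_le_ctr _)) hTFr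
  have hMs : ∀ y ∈ M, ∃ c ∈ ctr T, ∃ f ∈ Fr (Qo p H), y = c * f := by
    intro y hy
    rw [hM, ← SetLike.mem_coe, coe_mul_of_left_le_normalizer_right _ _
      ((CfsgLib.PushUp.ctr_le T).trans hTFr)] at hy
    obtain ⟨c, hc, f, hf, rfl⟩ := hy
    exact ⟨c, hc, f, hf, rfl⟩
  have hpow : ∀ t ∈ T, ∃ k : ℕ, (p ≠ 2 → p ∣ k) ∧ ∃ c ∈ ctr T, ∃ q ∈ Qo p H,
      t ^ p = c ^ k * q ^ p := by
    intro t ht
    obtain ⟨a, ha, q, hq, rfl⟩ := mH.T_eq_VQ mK hnle ht
    have hc : ⁅q, a⁆ ∈ ctr T := mK.facts.quad a ha q (mH.good.Q_le hq)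
    refine ⟨p.choose 2, fun hp2 => (Fact.out : p.Prime).dvd_choose_self two_ne_zero
      (by have := (Fact.out : p.Prime).two_le; omega), _, hc, q, hq, ?_⟩
    rw [pow_mul_of_comm (c := ⁅q, a⁆) (by simp only [commutatorElement_def]; group)
      (commute_of_cent hc.2 (mK.V_le ha)).symm (commute_of_cent hc.2 (mH.good.Q_le hq)).symm p,
      mK.elemV ha, one_mul]
  have hFrT : Fr T ≤ M := by
    refine Fr_le_of (p := p) (fun t ht => ?_) fun t ht s hs => ?_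
    · obtain ⟨k, -, c, hc, q, hq, e⟩ := hpow t ht
      rw [e, hM]
      exact mul_mem (mem_sup_left (pow_mem hc k)) (mem_sup_right (pow_mem_Fr hQp hq))
    · obtain ⟨a, ha, q, hq, rfl⟩ := mH.T_eq_VQ mK hnle ht
      obtain ⟨a', ha', r, hr, rfl⟩ := mH.T_eq_VQ mK hnle hs
      have haT := mK.V_le ha
      have ha'T := mK.V_le ha'
      rw [show ⁅a * q, a' * r⁆ = a * (⁅q, a'⁆ * (a' * ⁅q, r⁆ * a'⁻¹)) * a⁻¹ *
          (⁅a, a'⁆ * (a' * ⁅a, r⁆ * a'⁻¹)) by simp only [commutatorElement_def]; group]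
      refine mul_mem (mem_normalizer_conj (hTM haT) (mul_mem ?_ (mem_normalizer_conj (hTM ha'T) ?_)))
        (mul_mem ?_ (mem_normalizer_conj (hTM ha'T) ?_))
      · exact hM ▸ mem_sup_left (mK.facts.quad a' ha' q (mH.good.Q_le hq))
      · exact hM ▸ mem_sup_right (comm_mem_Fr hQp hq hr)
      · rw [commutatorElement_eq_one_iff_commute.2 (mK.V_comm ha ha')]
        exact one_mem M
      · exact hM ▸ mem_sup_left (mK.quad' ha (mH.good.Q_le hr))
  have hBig : Big p T ≤ Fr (Qo p H) := by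
    rw [Big]
    refine sup_le (sup_le (commutator_le.2 fun f hf t ht => ?_) ?_) ?_
    · obtain ⟨c, hc, u, hu, rfl⟩ := hMs f (hFrT hf)
      have hcm : Commute c ⁅u, t⁆ := by
        refine (commute_of_cent hc.2 ?_).symm
        exact mH.good.Q_le (Fr_le_self _ (comm_mem' (hTFr ht) hu))
      rw [show ⁅c * u, t⁆ = c * ⁅u, t⁆ * c⁻¹ * ⁅c, t⁆ by simp only [commutatorElement_def]; group,
        hcm.eq, mul_inv_cancel_right,
        commutatorElement_eq_one_iff_commute.2 (commute_of_cent hc.2 ht).symm, mul_one]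
      exact comm_mem' (hTFr ht) hu
    · refine Fr_le_of (p := p) (fun f hf => ?_) fun f hf g hg => ?_
      · obtain ⟨c, hc, u, hu, rfl⟩ := hMs f (hFrT hf)
        have hcm : Commute c u :=
          (commute_of_cent hc.2 (mH.good.Q_le (Fr_le_self _ hu))).symm
        rw [hcm.mul_pow, mH.base.elem c hc, one_mul]
        exact pow_mem hu p
      · obtain ⟨c, hc, u, hu, rfl⟩ := hMs f (hFrT hf)
        obtain ⟨d, hd, w, hw, rfl⟩ := hMs g (hFrT hg)
        have huT : u ∈ T := mH.good.Q_le (Fr_le_self _ hu)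
        have hwT : w ∈ T := mH.good.Q_le (Fr_le_self _ hw)
        have hcT : ∀ y ∈ T, Commute c y := fun y hy => (commute_of_cent hc.2 hy).symm
        have hdT : ∀ y ∈ T, Commute d y := fun y hy => (commute_of_cent hd.2 hy).symm
        rw [show ⁅c * u, d * w⁆ = c * (⁅u, d⁆ * (d * ⁅u, w⁆ * d⁻¹)) * c⁻¹ * ⁅c, d * w⁆ by
          simp only [commutatorElement_def]; group]
        have e1 : ⁅u, w⁆ ∈ T := mul_mem (mul_mem (mul_mem huT hwT) (inv_mem huT)) (inv_mem hwT)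
        rw [commutatorElement_eq_one_iff_commute.2 (hdT u huT).symm, one_mul, (hdT _ e1).eq,
          mul_inv_cancel_right, (hcT _ e1).eq, mul_inv_cancel_right,
          commutatorElement_eq_one_iff_commute.2 (hcT _ (mul_mem hd.1 hwT)), mul_one]
        exact mul_mem (mul_mem (mul_mem hu hw) (inv_mem hu)) (inv_mem hw)
    · split_ifs with hp2
      · exact bot_le
      · rw [Cfsg.powerClosure, closure_le]
        rintro _ ⟨t, ht, rfl⟩
        obtain ⟨k, hk, c, hc, q, hq, e⟩ := hpow t ht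
        obtain ⟨j, rfl⟩ := hk hp2
        rw [pow_one, SetLike.mem_coe, e, pow_mul, mH.base.elem c hc, one_pow, one_mul]
        exact pow_mem_Fr hQp hq
  rw [← hNT, CfsgLib.CDLat.centralizer_sup]
  exact ⟨(le_centralizer_iff.1 hNfr) (hBig hzB), hz.2⟩

end Mem

end CfsgLib.PushAmalgam
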