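import Cfsg.Agent.Lib.PushUp.CentrallyLarge
import Cfsg.Agent.Lib.PGroup.FrattiniLe
import Cfsg.Agent.Lib.Coprime.PGroupFrattini

/-!
# Pushing up in rank one: the reduced `p`-group inside an arbitrary group

The reduced `p`-group `T` is generated by its abelian subgroups `A` of largest order, these satisfy
`|A|² = |T| |Z(T)|`, which is the largest value of `|X| |C_T(X)|`, and `Z(T)` has exponent `p`.
-/

set_option autoImplicit false
set_option linter.style.haveILetI false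

open Subgroup
open scoped commutatorElement Pointwise
open CfsgLib.PushUp (MA cj mem_cj conj_mem_cj cj_mono card_cj ctr Fr)

namespace CfsgLib.PushAmalgam

universe u

variable {Γ : Type u} [Group Γ]

theorem cj_mul (g h : Γ) (X : Subgroup Γ) : cj (g * h) X = cj g (cj h X) := by
  ext x
  simp [mem_cj, mul_assoc]

theorem cj_one (X : Subgroup Γ) : cj 1 X = X := by
  ext x
  simp [mem_cj]

theorem cj_inv_cj (g : Γ) (X : Subgroup Γ) : cj g⁻¹ (cj g X) = X := by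
  rw [← cj_mul, inv_mul_cancel, cj_one]

theorem cj_le_iff {g : Γ} {X Y : Subgroup Γ} : cj g X ≤ cj g Y ↔ X ≤ Y :=
  map_le_map_iff_of_injective (MulAut.conj g).injective

theorem cj_sup (g : Γ) (X Y : Subgroup Γ) : cj g (X ⊔ Y) = cj g X ⊔ cj g Y := map_sup _ _ _

theorem cj_inf (g : Γ) (X Y : Subgroup Γ) : cj g (X ⊓ Y) = cj g X ⊓ cj g Y :=
  map_inf _ _ _ (MulAut.conj g).injective

theorem cj_commutator (g : Γ) (X Y : Subgroup Γ) : cj g ⁅X, Y⁆ = ⁅cj g X, cj g Y⁆ :=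
  map_commutator _ _ _

theorem cj_centralizer (g : Γ) (X : Subgroup Γ) :
    cj g (centralizer (X : Set Γ)) = centralizer (cj g X : Set Γ) :=
  (CfsgLib.CDLat.centralizer_map_conj g X).symm

theorem cj_ctr (g : Γ) (X : Subgroup Γ) : cj g (ctr X) = ctr (cj g X) :=
  CfsgLib.PushUp.ctr_map (MulAut.conj g).injective X

theorem cj_Fr (g : Γ) (X : Subgroup Γ) : cj g (Fr X) = Fr (cj g X) :=
  (CfsgLib.PushUp.Fr_map (MulAut.conj g).injective X).symm

theorem cj_powerClosure (p n : ℕ) (g : Γ) (X : Subgroup Γ) :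
    cj g (Cfsg.powerClosure p n X) = Cfsg.powerClosure p n (cj g X) := by
  rw [Cfsg.powerClosure, Cfsg.powerClosure, cj, MonoidHom.map_closure]
  congr 1
  ext y
  constructor
  · rintro ⟨_, ⟨x, hx, rfl⟩, rfl⟩
    exact ⟨_, conj_mem_cj hx, by simp [conj_pow]⟩
  · rintro ⟨x, ⟨x', hx', rfl⟩, rfl⟩
    exact ⟨_, ⟨x', hx', rfl⟩, map_pow _ _ _⟩

theorem finite_cj (g : Γ) (X : Subgroup Γ) [Finite X] : Finite ↥(cj g X) :=
  Finite.of_equiv _ (X.equivMapOfInjective (MulAut.conj g).toMonoidHom (MulAut.conj g).injective).toEquiv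

theorem finite_of_le {X Y : Subgroup Γ} [Finite Y] (h : X ≤ Y) : Finite X :=
  Finite.of_injective _ (inclusion_injective h)

theorem ma_cj_both {T A : Subgroup Γ} (h : MA T A) (g : Γ) : MA (cj g T) (cj g A) := by
  refine ⟨cj_mono h.1, CfsgLib.PushUp.isMulCommutative_cj h.2.1, fun B hB hBc => ?_⟩
  have hB' : cj g⁻¹ B ≤ T := (cj_mono hB).trans (cj_inv_cj g T).le
  rw [card_cj, ← card_cj g⁻¹ B]
  exact h.2.2 _ hB' (CfsgLib.PushUp.isMulCommutative_cj hBc)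

theorem mem_centralizer_iff_conj {X : Subgroup Γ} {c : Γ} :
    c ∈ centralizer (X : Set Γ) ↔ ∀ x ∈ X, x * c * x⁻¹ = c := by
  rw [mem_centralizer_iff]
  exact ⟨fun h x hx => mul_inv_eq_iff_eq_mul.2 (h x hx),
    fun h x hx => mul_inv_eq_iff_eq_mul.1 (h x hx)⟩

theorem commute_of_cent {X : Subgroup Γ} {c x : Γ} (hc : c ∈ centralizer (X : Set Γ)) (hx : x ∈ X) :
    Commute x c := mem_centralizer_iff.1 hc x hx

theorem mem_normalizer_conj {X : Subgroup Γ} {g x : Γ} (hg : g ∈ normalizer (X : Set Γ))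
    (hx : x ∈ X) : g * x * g⁻¹ ∈ X := (mem_normalizer_iff.1 hg x).1 hx

theorem mem_normalizer_conj' {X : Subgroup Γ} {g x : Γ} (hg : g ∈ normalizer (X : Set Γ))
    (hx : x ∈ X) : g⁻¹ * x * g ∈ X := (mem_normalizer_iff''.1 hg x).1 hx

theorem comm_mem {X : Subgroup Γ} {g x : Γ} (hg : g ∈ normalizer (X : Set Γ)) (hx : x ∈ X) :
    ⁅g, x⁆ ∈ X := by
  rw [commutatorElement_def]
  exact mul_mem (mem_normalizer_conj hg hx) (inv_mem hx)

theorem comm_mem' {X : Subgroup Γ} {g x : Γ} (hg : g ∈ normalizer (X : Set Γ)) (hx : x ∈ X) :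
    ⁅x, g⁆ ∈ X := by
  rw [← commutatorElement_inv]
  exact inv_mem (comm_mem hg hx)

theorem normalizer_le_ctr (X : Subgroup Γ) : normalizer (X : Set Γ) ≤ normalizer (ctr X : Set Γ) :=
  fun g hg => by
  have h : cj g (ctr X) = ctr X := by rw [cj_ctr, CfsgLib.PushUp.cj_eq_of_mem_normalizer hg]
  exact CfsgLib.PushUp.mem_normalizer_of_forall (fun x hx => h.le (conj_mem_cj hx))
    fun x hx => mem_cj.1 (h.ge hx)

theorem normalizer_le_Fr (X : Subgroup Γ) : normalizer (X : Set Γ) ≤ normalizer (Fr X : Set Γ) :=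
  fun g hg => by
  have h : cj g (Fr X) = Fr X := by rw [cj_Fr, CfsgLib.PushUp.cj_eq_of_mem_normalizer hg]
  exact CfsgLib.PushUp.mem_normalizer_of_forall (fun x hx => h.le (conj_mem_cj hx))
    fun x hx => mem_cj.1 (h.ge hx)

theorem le_normalizer_sup {K X Y : Subgroup Γ} (hX : K ≤ normalizer (X : Set Γ))
    (hY : K ≤ normalizer (Y : Set Γ)) : K ≤ normalizer ((X ⊔ Y : Subgroup Γ) : Set Γ) :=
  (le_inf hX hY).trans (normalizer_inf_normalizer_le_normalizer_sup X Y)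

theorem le_normalizer_inf {K X Y : Subgroup Γ} (hX : K ≤ normalizer (X : Set Γ))
    (hY : K ≤ normalizer (Y : Set Γ)) : K ≤ normalizer ((X ⊓ Y : Subgroup Γ) : Set Γ) :=
  (le_inf hX hY).trans inf_normalizer_le_normalizer_inf

/-! ### The Frattini subgroup of a finite `p`-subgroup -/

section Frattini

variable {p : ℕ} [Fact p.Prime] {X N : Subgroup Γ} [Finite X]

theorem Fr_le_self (X : Subgroup Γ) : Fr X ≤ X := map_subtype_le _

theorem pow_mem_Fr (hX : IsPGroup p X) {x : Γ} (hx : x ∈ X) : x ^ p ∈ Fr X :=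
  ⟨_, CfsgLib.Coprime.pow_mem_frattini hX ⟨x, hx⟩, rfl⟩

theorem comm_mem_Fr (hX : IsPGroup p X) {x y : Γ} (hx : x ∈ X) (hy : y ∈ X) : ⁅x, y⁆ ∈ Fr X :=
  ⟨⁅(⟨x, hx⟩ : X), ⟨y, hy⟩⁆, CfsgLib.Coprime.commutator_le_frattini hX
    (commutator_mem_commutator (mem_top _) (mem_top _)), rfl⟩

theorem Fr_le_of (hpow : ∀ x ∈ X, x ^ p ∈ N) (hcomm : ∀ x ∈ X, ∀ y ∈ X, ⁅x, y⁆ ∈ N) :
    Fr X ≤ N := by
  have key : frattini ↥X ≤ N.subgroupOf X :=
    CfsgLib.FrattiniLe.frattini_le_of_pow_of_commutator (p := p)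
      (fun x => mem_subgroupOf.2 (by rw [SubgroupClass.coe_pow]; exact hpow x x.2))
      (by
        rw [_root_.commutator_def, commutator_le]
        exact fun a _ b _ => mem_subgroupOf.2 (hcomm a a.2 b b.2))
  exact (map_mono key).trans ((subgroupOf_map_subtype _ _).le.trans inf_le_left)

theorem Fr_mono {Y : Subgroup Γ} [Finite Y] (hY : IsPGroup p Y) (h : X ≤ Y) : Fr X ≤ Fr Y :=
  Fr_le_of (fun _ hx => pow_mem_Fr hY (h hx)) fun _ hx _ hy => comm_mem_Fr hY (h hx) (h hy)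

end Frattini

/-- `[Φ(T), T] Φ(Φ(T))`, together with `℧¹(T)` for odd `p`. -/
def Big (p : ℕ) (T : Subgroup Γ) : Subgroup Γ :=
  ⁅Fr T, T⁆ ⊔ Fr (Fr T) ⊔ if p = 2 then ⊥ else Cfsg.powerClosure p 1 T

theorem cj_Big (p : ℕ) (g : Γ) (T : Subgroup Γ) : cj g (Big p T) = Big p (cj g T) := by
  rw [Big, Big, cj_sup, cj_sup, cj_commutator, cj_Fr, cj_Fr, cj_Fr]
  congr 1
  by_cases hp : p = 2
  · rw [if_pos hp, if_pos hp, cj, Subgroup.map_bot]
  · rw [if_neg hp, if_neg hp, cj_powerClosure]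

/-- `|T| |Z(T)|`. -/
noncomputable def fS (T : Subgroup Γ) : ℕ := Nat.card T * Nat.card ↥(ctr T)

theorem fS_cj (g : Γ) (T : Subgroup Γ) : fS (cj g T) = fS T := by
  rw [fS, fS, card_cj, ← cj_ctr, card_cj]

/-- The reduced situation of the `p`-group. -/
structure Base (p : ℕ) (T : Subgroup Γ) : Prop where
  fin : Finite T
  isp : IsPGroup p T
  le_f : ∀ X, X ≤ T → Nat.card X * Nat.card ↥(T ⊓ centralizer (X : Set Γ)) ≤ fS T
  sq : ∀ A, MA T A → Nat.card A * Nat.card A = fS T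
  gen : T ≤ sSup {A | MA T A}
  elem : ∀ z ∈ ctr T, z ^ p = 1

theorem Base.conj {p : ℕ} {T : Subgroup Γ} (b : Base p T) (g : Γ) : Base p (cj g T) := by
  haveI := b.fin
  have hback : ∀ {X : Subgroup Γ}, X ≤ cj g T → cj g⁻¹ X ≤ T := fun h =>
    (cj_mono h).trans (cj_inv_cj g T).le
  have hA : ∀ {A : Subgroup Γ}, MA (cj g T) A → MA T (cj g⁻¹ A) := fun h => by
    have := ma_cj_both h g⁻¹
    rwa [cj_inv_cj] at this
  refine ⟨finite_cj g T, b.isp.map _, fun X hX => ?_, fun A h => ?_, ?_, fun z hz => ?_⟩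
  · have := b.le_f _ (hback hX)
    rw [card_cj] at this
    rwa [fS_cj, ← card_cj g⁻¹ (cj g T ⊓ _), cj_inf, cj_inv_cj, cj_centralizer]
  · rw [fS_cj, ← card_cj g⁻¹ A]
    exact b.sq _ (hA h)
  · refine (cj_mono b.gen).trans ?_
    rw [cj, map_le_iff_le_comap]
    exact sSup_le fun A h => map_le_iff_le_comap.1 (le_sSup (ma_cj_both h g))
  · rw [← cj_ctr] at hz
    obtain ⟨y, hy, rfl⟩ := hz
    rw [← map_pow, b.elem y hy, map_one]

/-- A subgroup of largest `|X| |C_T(X)|`. -/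
def Lg (T X : Subgroup Γ) : Prop :=
  X ≤ T ∧ fS T ≤ Nat.card X * Nat.card ↥(T ⊓ centralizer (X : Set Γ))

theorem Lg.le {T X : Subgroup Γ} (h : Lg T X) : X ≤ T := h.1

theorem cent_subgroupOf {T X : Subgroup Γ} (h : X ≤ T) :
    centralizer ((X.subgroupOf T : Subgroup ↥T) : Set ↥T) =
      (T ⊓ centralizer (X : Set Γ)).subgroupOf T := by
  ext t
  constructor
  · exact fun ht => ⟨t.2, mem_centralizer_iff.2 fun x hx =>
      congrArg Subtype.val (mem_centralizer_iff.1 ht ⟨x, h hx⟩ hx)⟩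
  · exact fun ht => mem_centralizer_iff.2 fun x hx =>
      Subtype.ext (mem_centralizer_iff.1 ht.2 x hx)

theorem card_subgroupOf {T X : Subgroup Γ} (h : X ≤ T) :
    Nat.card ↥(X.subgroupOf T) = Nat.card X := Nat.card_congr (subgroupOfEquivOfLe h).toEquiv

theorem measure_eq {T X : Subgroup Γ} (h : X ≤ T) :
    CfsgLib.CDLat.measure (X.subgroupOf T) =
      Nat.card X * Nat.card ↥(T ⊓ centralizer (X : Set Γ)) := by
  rw [CfsgLib.CDLat.measure, cent_subgroupOf h, card_subgroupOf h, card_subgroupOf inf_le_left]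

theorem Lg.congr_fS {T T' X : Subgroup Γ} (h : fS T' = fS T) (hX : X ≤ T')
    (hle : fS T ≤ Nat.card X * Nat.card ↥(T' ⊓ centralizer (X : Set Γ))) : Lg T' X :=
  ⟨hX, h.le.trans hle⟩

namespace Base

variable {p : ℕ} {T : Subgroup Γ}

theorem maxEq (b : Base p T) : Cfsg.maxCentralizerProduct ↥T = fS T := by
  haveI := b.fin
  obtain ⟨R, hR⟩ := CfsgLib.CDLat.exists_large (G := ↥T)
  refine le_antisymm ?_ ?_
  · rw [← hR]
    have e : (R.map T.subtype).subgroupOf T = R := comap_map_eq_self_of_injective T.subtype_injective R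
    have h1 := measure_eq (map_subtype_le R)
    rw [e] at h1
    exact h1.le.trans (b.le_f _ (map_subtype_le R))
  · have h1 := CfsgLib.CDLat.measure_le ((T : Subgroup Γ).subgroupOf T)
    rwa [measure_eq le_rfl] at h1

theorem lg_iff (b : Base p T) {X : Subgroup Γ} (h : X ≤ T) :
    Lg T X ↔ Cfsg.IsCentralizerLarge (X.subgroupOf T) := by
  haveI := b.fin
  rw [CfsgLib.CDLat.large_iff, measure_eq h, b.maxEq]
  exact ⟨fun hh => hh.2, fun hh => ⟨h, hh⟩⟩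

theorem lg_self (_b : Base p T) : Lg T T := ⟨le_rfl, le_rfl⟩

theorem lg_sup (b : Base p T) {X Y : Subgroup Γ} (hX : Lg T X) (hY : Lg T Y) :
    Lg T (X ⊔ Y) ∧ ((X ⊔ Y : Subgroup Γ) : Set Γ) = (X : Set Γ) * (Y : Set Γ) := by
  haveI := b.fin
  obtain ⟨h1, h2, -, -⟩ :=
    CfsgLib.CDLat.large_pair ((b.lg_iff hX.1).1 hX) ((b.lg_iff hY.1).1 hY)
  have e : X.subgroupOf T ⊔ Y.subgroupOf T = (X ⊔ Y).subgroupOf T := (subgroupOf_sup hX.1 hY.1).symm
  rw [e] at h1 h2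
  refine ⟨(b.lg_iff (sup_le hX.1 hY.1)).2 h2, Set.Subset.antisymm (fun x hx => ?_)
    (CfsgLib.CDLat.prod_subset_sup X Y)⟩
  have hm : (⟨x, sup_le hX.1 hY.1 hx⟩ : ↥T) ∈ (((X ⊔ Y).subgroupOf T : Subgroup ↥T) : Set ↥T) := hx
  rw [h1] at hm
  obtain ⟨a, ha, c, hc, hac⟩ := hm
  exact ⟨a, ha, c, hc, congrArg Subtype.val hac⟩

theorem lg_inf (b : Base p T) {X Y : Subgroup Γ} (hX : Lg T X) (hY : Lg T Y) :
    Lg T (X ⊓ Y) ∧ ∀ t ∈ T, t ∈ centralizer ((X ⊓ Y : Subgroup Γ) : Set Γ) →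
      ∃ a ∈ T ⊓ centralizer (X : Set Γ), ∃ c ∈ T ⊓ centralizer (Y : Set Γ), t = a * c := by
  haveI := b.fin
  obtain ⟨-, -, h3, h4⟩ :=
    CfsgLib.CDLat.large_pair ((b.lg_iff hX.1).1 hX) ((b.lg_iff hY.1).1 hY)
  have hle : X ⊓ Y ≤ T := inf_le_left.trans hX.1
  rw [cent_subgroupOf hX.1, cent_subgroupOf hY.1,
    show X.subgroupOf T ⊓ Y.subgroupOf T = (X ⊓ Y).subgroupOf T from rfl,
    cent_subgroupOf hle] at h4
  refine ⟨(b.lg_iff hle).2 h3, fun t ht hc => ?_⟩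
  have hm : (⟨t, ht⟩ : ↥T) ∈
      (((T ⊓ centralizer ((X ⊓ Y : Subgroup Γ) : Set Γ)).subgroupOf T : Subgroup ↥T) : Set ↥T) := ⟨ht, hc⟩
  rw [h4] at hm
  obtain ⟨a, ha, c, hc, hac⟩ := hm
  exact ⟨a, ha, c, hc, (congrArg Subtype.val hac).symm⟩

theorem lg_cent (b : Base p T) {X : Subgroup Γ} (hX : Lg T X) :
    Lg T (T ⊓ centralizer (X : Set Γ)) ∧
      T ⊓ centralizer ((T ⊓ centralizer (X : Set Γ) : Subgroup Γ) : Set Γ) = X := by
  haveI := b.fin
  obtain ⟨h1, h2⟩ := CfsgLib.CDLat.centralizer_large ((b.lg_iff hX.1).1 hX)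
  rw [cent_subgroupOf hX.1] at h1 h2
  rw [cent_subgroupOf inf_le_left] at h2
  refine ⟨(b.lg_iff inf_le_left).2 h1, ?_⟩
  have := congrArg (Subgroup.map T.subtype) h2
  rwa [map_subgroupOf_eq_of_le inf_le_left, map_subgroupOf_eq_of_le hX.1, eq_comm] at this

theorem cent_ma (b : Base p T) {A : Subgroup Γ} (h : MA T A) :
    T ⊓ centralizer (A : Set Γ) = A := by
  haveI := b.fin
  obtain ⟨hAT, hA⟩ := CfsgLib.PushUp.ma_iff.1 h
  have e := CfsgLib.CDLat.centralizer_eq_of_maxAbelian hA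
  rw [cent_subgroupOf hAT] at e
  have := congrArg (Subgroup.map T.subtype) e
  rwa [map_subgroupOf_eq_of_le inf_le_left, map_subgroupOf_eq_of_le hAT] at this

theorem lg_ma (b : Base p T) {A : Subgroup Γ} (h : MA T A) : Lg T A :=
  ⟨h.1, by rw [b.cent_ma h, b.sq A h]⟩

theorem ctr_le_of_lg_cent (_b : Base p T) {X : Subgroup Γ} (h : X ≤ T) :
    ctr T ≤ T ⊓ centralizer (X : Set Γ) :=
  le_inf inf_le_left (inf_le_right.trans (centralizer_le h))

theorem lg_ctr (b : Base p T) : Lg T (ctr T) ∧ T ⊓ centralizer (ctr T : Set Γ) = T := by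
  have h := b.lg_cent b.lg_self
  exact ⟨h.1, h.2⟩

end Base

end CfsgLib.PushAmalgam
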