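import Cfsg.Agent.Lib.PushAmalgam.Common

/-!
# Pushing up in rank one: a neighbour with non-commuting `V`
-/

set_option autoImplicit false
set_option linter.style.haveILetI false
set_option linter.unusedSectionVars false

open Subgroup
open scoped MatrixGroups commutatorElement Pointwise
open CfsgLib.PushUp (MA cj mem_cj conj_mem_cj cj_mono card_cj ctr Fr)

namespace CfsgLib.PushAmalgam

universe u

variable {Γ : Type u} [Group Γ] {p : ℕ} [Fact p.Prime] {T H K : Subgroup Γ}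

namespace Mem

/-- The normal subgroup centralizing `Q / V` supplements `T` and centralizes `Φ(Q)`. -/
theorem exists_supplement (mH : Mem p T H) (mK : Mem p T K) (hnle : ¬ Vo p K ≤ Qo p H) :
    ∃ N : Subgroup Γ, N ≤ H ∧ H ≤ normalizer (N : Set Γ) ∧ N ⊔ T = H ∧ Vo p K ≤ N ∧
      (∀ g ∈ N, ∀ q ∈ Qo p H, ⁅g, q⁆ ∈ Vo p H) ∧ N ≤ centralizer (Fr (Qo p H) : Set Γ) := by
  haveI := mH.base.fin
  haveI : Finite ↥(Qo p H) := finite_of_le mH.good.Q_le
  have hQp : IsPGroup p ↥(Qo p H) := mH.base.isp.to_le mH.good.Q_le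
  obtain ⟨N, hN⟩ : ∃ N : Subgroup Γ, ∀ g, g ∈ N ↔ g ∈ H ∧ ∀ q ∈ Qo p H, ⁅g, q⁆ ∈ Vo p H := by
    refine ⟨{ carrier := {g | g ∈ H ∧ ∀ q ∈ Qo p H, ⁅g, q⁆ ∈ Vo p H}
              one_mem' := ⟨one_mem H, fun q _ => by simp⟩
              mul_mem' := fun {a b} ha hb => ⟨mul_mem ha.1 hb.1, fun q hq => ?_⟩
              inv_mem' := fun {a} ha => ⟨inv_mem ha.1, fun q hq => ?_⟩ }, fun g => Iff.rfl⟩
    · rw [show ⁅a * b, q⁆ = a * ⁅b, q⁆ * a⁻¹ * ⁅a, q⁆ by simp only [commutatorElement_def]; group]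
      exact mul_mem (mem_normalizer_conj (mH.good.normV ha.1) (hb.2 q hq)) (ha.2 q hq)
    · rw [show ⁅a⁻¹, q⁆ = a⁻¹ * ⁅a, q⁆⁻¹ * a by simp only [commutatorElement_def]; group]
      exact mem_normalizer_conj' (mH.good.normV ha.1) (inv_mem (ha.2 q hq))
  have hNn : H ≤ normalizer (N : Set Γ) := by
    have key : ∀ h ∈ H, ∀ g ∈ N, h * g * h⁻¹ ∈ N := by
      intro h hh g hg
      obtain ⟨hg1, hg2⟩ := (hN g).1 hg
      refine (hN _).2 ⟨mul_mem (mul_mem hh hg1) (inv_mem hh), fun q hq => ?_⟩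
      rw [show ⁅h * g * h⁻¹, q⁆ = h * ⁅g, h⁻¹ * q * h⁆ * h⁻¹ by
        simp only [commutatorElement_def]; group]
      exact mem_normalizer_conj (mH.good.normV hh)
        (hg2 _ (mem_normalizer_conj' (mH.good.normQ hh) hq))
    exact fun h hh => CfsgLib.PushUp.mem_normalizer_of_forall (key h hh)
      fun g hg => by simpa using key h⁻¹ (inv_mem hh) g hg
  have hNK : ∀ w ∈ Vo p K, w ∈ N := fun w hw => (hN w).2 ⟨mH.good.le (mK.V_le hw),
    fun q hq => mH.facts.zle (mK.quad' hw (mH.good.Q_le hq))⟩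
  obtain ⟨w, hw, hwQ⟩ := SetLike.not_le_iff_exists.1 hnle
  have hNT := mH.sup_or (fun g hg => ((hN g).1 hg).1) hNn (mK.V_le hw) (hNK w hw) hwQ
  refine ⟨N, fun g hg => ((hN g).1 hg).1, hNn, hNT, hNK, fun g hg => ((hN g).1 hg).2, ?_⟩
  intro g hg
  obtain ⟨hgH, hgV⟩ := (hN g).1 hg
  have hconj : ∀ q ∈ Qo p H, g * q * g⁻¹ = ⁅g, q⁆ * q := fun q _ => by
    rw [commutatorElement_def]; group
  have hcent : ∀ q ∈ Qo p H, ∀ r ∈ Qo p H, Commute ⁅g, q⁆ r := fun q hq r hr =>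
    (commute_of_cent (mH.V_cent_Q (hgV q hq)) hr).symm
  suffices h : Fr (Qo p H) ≤ centralizer ({g} : Set Γ) from
    mem_centralizer_iff.2 fun y hy => mem_centralizer_singleton_iff.1 (h hy)
  refine Fr_le_of (p := p) (fun q hq => ?_) fun q hq r hr => ?_
  · refine mem_centralizer_singleton_iff.2 (mul_inv_eq_iff_eq_mul.1 ?_).symm
    rw [← conj_pow, hconj q hq, (hcent q hq q hq).mul_pow, mH.elemV (hgV q hq), one_mul]
  · refine mem_centralizer_singleton_iff.2 (mul_inv_eq_iff_eq_mul.1 ?_).symm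
    obtain ⟨c, hc⟩ : ∃ c, c = ⁅g, q⁆ := ⟨_, rfl⟩
    obtain ⟨d, hd⟩ : ∃ d, d = ⁅g, r⁆ := ⟨_, rfl⟩
    have hcd : ∀ y ∈ Qo p H, Commute c y ∧ Commute d y := fun y hy =>
      ⟨hc ▸ hcent q hq y hy, hd ▸ hcent r hr y hy⟩
    have hdQ : d ∈ Qo p H := hd ▸ mH.V_le_Q (hgV r hr)
    calc g * ⁅q, r⁆ * g⁻¹ = ⁅g * q * g⁻¹, g * r * g⁻¹⁆ := by
          simp only [commutatorElement_def]; group
      _ = ⁅c * q, d * r⁆ := by rw [hconj q hq, hconj r hr, ← hc, ← hd]
      _ = c * (q * d) * r * (q⁻¹ * c⁻¹) * r⁻¹ * d⁻¹ := by simp only [commutatorElement_def]; group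
      _ = c * (d * q) * r * (c⁻¹ * q⁻¹) * r⁻¹ * d⁻¹ := by
        rw [(hcd q hq).2.eq.symm, ((hcd q hq).1.inv_left.inv_right).eq]
      _ = c * d * q * (r * c⁻¹) * q⁻¹ * r⁻¹ * d⁻¹ := by group
      _ = c * d * (q * c⁻¹) * r * q⁻¹ * r⁻¹ * d⁻¹ := by
        rw [← (hcd r hr).1.inv_left.eq]; group
      _ = c * (d * c⁻¹) * q * r * q⁻¹ * r⁻¹ * d⁻¹ := by
        rw [← (hcd q hq).1.inv_left.eq]; group
      _ = c * (c⁻¹ * d) * q * r * q⁻¹ * r⁻¹ * d⁻¹ := by rw [(hcd d hdQ).1.inv_left.eq]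
      _ = d * ⁅q, r⁆ * d⁻¹ := by simp only [commutatorElement_def]; group
      _ = _ := by
        rw [((hcd _ (Fr_le_self _ (comm_mem_Fr hQp hq hr))).2).eq, mul_inv_cancel_right]

/-- `p`-th powers and the Frattini subgroup of `T`. -/
theorem pow_and_frattini (mH : Mem p T H) (mK : Mem p T K) (hnle : ¬ Vo p K ≤ Qo p H) :
    Fr T ≤ ctr T ⊔ Fr (Qo p H) ∧
      (p ≠ 2 → ∀ t ∈ T, ∃ q ∈ Qo p H, t ^ p = q ^ p) := by
  haveI := mH.base.fin
  haveI : Finite ↥(Qo p H) := finite_of_le mH.good.Q_le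
  have hQp : IsPGroup p ↥(Qo p H) := mH.base.isp.to_le mH.good.Q_le
  have hTFr : T ≤ normalizer (Fr (Qo p H) : Set Γ) := mH.T_normQ.trans (normalizer_le_Fr _)
  have hTM : T ≤ normalizer ((ctr T ⊔ Fr (Qo p H) : Subgroup Γ) : Set Γ) :=
    le_normalizer_sup (le_normalizer.trans (normalizer_le_ctr _)) hTFr
  have hpow : ∀ t ∈ T, ∃ k : ℕ, (p ≠ 2 → p ∣ k) ∧ ∃ c ∈ ctr T, ∃ q ∈ Qo p H,
      t ^ p = c ^ k * q ^ p := by
    intro t ht
    obtain ⟨a, ha, q, hq, rfl⟩ := mH.T_eq_VQ mK hnle ht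
    have hc : ⁅q, a⁆ ∈ ctr T := mK.facts.quad a ha q (mH.good.Q_le hq)
    refine ⟨p.choose 2, fun hp2 => (Fact.out : p.Prime).dvd_choose_self two_ne_zero
      (by have := (Fact.out : p.Prime).two_le; omega), _, hc, q, hq, ?_⟩
    rw [pow_mul_of_comm (c := ⁅q, a⁆) (by simp only [commutatorElement_def]; group)
      (commute_of_cent hc.2 (mK.V_le ha)).symm (commute_of_cent hc.2 (mH.good.Q_le hq)).symm p,
      mK.elemV ha, one_mul]
  refine ⟨Fr_le_of (p := p) (fun t ht => ?_) fun t ht s hs => ?_, fun hp2 t ht => ?_⟩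
  · obtain ⟨k, -, c, hc, q, hq, e⟩ := hpow t ht
    rw [e]
    exact mul_mem (mem_sup_left (pow_mem hc k)) (mem_sup_right (pow_mem_Fr hQp hq))
  · obtain ⟨a, ha, q, hq, rfl⟩ := mH.T_eq_VQ mK hnle ht
    obtain ⟨a', ha', r, hr, rfl⟩ := mH.T_eq_VQ mK hnle hs
    rw [show ⁅a * q, a' * r⁆ = a * (⁅q, a'⁆ * (a' * ⁅q, r⁆ * a'⁻¹)) * a⁻¹ *
        (⁅a, a'⁆ * (a' * ⁅a, r⁆ * a'⁻¹)) by simp only [commutatorElement_def]; group]
    refine mul_mem (mem_normalizer_conj (hTM (mK.V_le ha)) (mul_mem ?_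
      (mem_normalizer_conj (hTM (mK.V_le ha')) ?_)))
      (mul_mem ?_ (mem_normalizer_conj (hTM (mK.V_le ha')) ?_))
    · exact mem_sup_left (mK.facts.quad a' ha' q (mH.good.Q_le hq))
    · exact mem_sup_right (comm_mem_Fr hQp hq hr)
    · rw [commutatorElement_eq_one_iff_commute.2 (mK.V_comm ha ha')]
      exact one_mem _
    · exact mem_sup_left (mK.quad' ha (mH.good.Q_le hr))
  · obtain ⟨k, hk, c, hc, q, hq, e⟩ := hpow t ht
    obtain ⟨j, rfl⟩ := hk hp2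
    exact ⟨q, hq, by rw [e, pow_mul, mH.base.elem c hc, one_pow, one_mul]⟩

/-- With a non-commuting neighbour there is one natural factor, and `T` has class two. -/
theorem case_one (mH : Mem p T H) (mK : Mem p T K) (hnle : ¬ Vo p K ≤ Qo p H) (prim : Prim T H) :
    ⁅Fr T, T⁆ = ⊥ ∧ (p ≠ 2 → ∀ t ∈ T, t ^ p = 1) ∧
      ∃ (F : Type) (_ : Field F) (_ : Fintype F), CharP F p ∧
        Fintype.card F = (Qo p H).relIndex T ∧ ShapeOne F p ↥H := by
  haveI := mH.good.fin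
  haveI := mH.base.fin
  haveI : Finite ↥(Qo p H) := finite_of_le mH.good.Q_le
  have hQp : IsPGroup p ↥(Qo p H) := mH.base.isp.to_le mH.good.Q_le
  obtain ⟨N, hNH, hNn, hNT, hNK, hNV, hNfr⟩ := mH.exists_supplement mK hnle
  obtain ⟨hFrT, hpow⟩ := mH.pow_and_frattini mK hnle
  have hTQ : T ≤ Vo p K ⊔ Qo p H := fun t ht => by
    obtain ⟨a, ha, q, hq, rfl⟩ := mH.T_eq_VQ mK hnle ht
    exact mul_mem (mem_sup_left ha) (mem_sup_right hq)
  have hFrH : H ≤ normalizer (Fr (Qo p H) : Set Γ) := mH.good.normQ.trans (normalizer_le_Fr _)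
  have hclass : ⁅Fr T, T⁆ = ⊥ := by
    have e : ⁅Fr T, T⁆ = ⁅Fr (Qo p H), Qo p H⁆ := by
      refine le_antisymm (commutator_le.2 fun f hf t ht => ?_)
        (commutator_mono (Fr_mono mH.base.isp mH.good.Q_le) mH.good.Q_le)
      have h1 := hFrT hf
      rw [← SetLike.mem_coe, coe_mul_of_left_le_normalizer_right _ _
        ((CfsgLib.PushUp.ctr_le T).trans (mH.good.le.trans hFrH))] at h1
      obtain ⟨c, hc, u, hu, rfl⟩ := h1
      obtain ⟨a, ha, q, hq, rfl⟩ := mH.T_eq_VQ mK hnle ht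
      have hua : Commute u a := commute_of_cent (hNfr (hNK ha)) hu
      have huq : ⁅u, q⁆ ∈ Qo p H := by
        rw [commutatorElement_def]
        exact mul_mem (mul_mem (mul_mem (Fr_le_self _ hu) hq) (inv_mem (Fr_le_self _ hu))) (inv_mem hq)
      have hcu : ⁅c * u, a * q⁆ = a * ⁅u, q⁆ * a⁻¹ := by
        have hca : Commute c (a * q) := (commute_of_cent hc.2 ht).symm
        have h2 : ⁅u, q⁆ ∈ T := mH.good.Q_le huq
        calc ⁅c * u, a * q⁆ = c * ⁅u, a * q⁆ * c⁻¹ * ⁅c, a * q⁆ := by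
              simp only [commutatorElement_def]; group
          _ = c * (⁅u, a⁆ * (a * ⁅u, q⁆ * a⁻¹)) * c⁻¹ := by
              rw [commutatorElement_eq_one_iff_commute.2 hca, mul_one]
              simp only [commutatorElement_def]; group
          _ = _ := by
              rw [commutatorElement_eq_one_iff_commute.2 hua, one_mul,
                (commute_of_cent hc.2 (mul_mem (mul_mem (mK.V_le ha) h2) (inv_mem (mK.V_le ha)))).symm.eq,
                mul_inv_cancel_right]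
      rw [hcu]
      have hn : T ≤ normalizer ((⁅Fr (Qo p H), Qo p H⁆ : Subgroup Γ) : Set Γ) := fun g hg => mem_normalizer_of_cj (by
        rw [cj_commutator, cj_Fr, mH.good.cjQ (mH.good.le hg)])
      exact mem_normalizer_conj (hn (mK.V_le ha)) (commutator_mem_commutator hu hq)
    refine prim _ (commutator_le.2 fun f hf t ht =>
      mul_mem (mul_mem (mul_mem (Fr_le_self T hf) ht) (inv_mem (Fr_le_self T hf))) (inv_mem ht)) ?_ ?_
    · intro g hg
      refine mem_normalizer_of_cj ?_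
      rw [cj_commutator, cj_Fr, CfsgLib.PushUp.cj_eq_of_mem_normalizer hg]
    · intro g hg
      refine mem_normalizer_of_cj ?_
      rw [e, cj_commutator, cj_Fr, mH.good.cjQ hg]
  have hexp : p ≠ 2 → ∀ t ∈ T, t ^ p = 1 := by
    intro hp2 t ht
    have e : Cfsg.powerClosure p 1 T = Cfsg.powerClosure p 1 (Qo p H) := by
      refine le_antisymm ?_ ?_
      · rw [Cfsg.powerClosure, closure_le]
        rintro _ ⟨x, hx, rfl⟩
        obtain ⟨q, hq, e⟩ := hpow hp2 x hx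
        exact subset_closure ⟨q, hq, by rw [pow_one]; exact e⟩
      · exact closure_mono fun y ⟨x, hx, e⟩ => ⟨x, mH.good.Q_le hx, e⟩
    have h0 : Cfsg.powerClosure p 1 T = ⊥ := by
      refine prim _ ?_ ?_ ?_
      · rw [Cfsg.powerClosure, closure_le]
        rintro _ ⟨x, hx, rfl⟩
        exact pow_mem hx _
      · intro g hg
        refine mem_normalizer_of_cj ?_
        rw [cj_powerClosure, CfsgLib.PushUp.cj_eq_of_mem_normalizer hg]
      · intro g hg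
        refine mem_normalizer_of_cj ?_
        rw [e, cj_powerClosure, mH.good.cjQ hg]
    exact mem_bot.1 (h0.le (subset_closure ⟨t, ht, by rw [pow_one]⟩))
  refine ⟨hclass, hexp, ?_⟩
  obtain ⟨F, iF, iFt, hchar, hcard, ρ, ψ, hρ, hker, -, hψ, hψ1, hψh, -⟩ := mH.natural
  refine ⟨F, iF, iFt, hchar, hcard, ?_⟩
  have hCQ : H ⊓ centralizer (Vo p H : Set Γ) = Qo p H := by
    refine le_antisymm ?_ (le_inf (Qo_le H) mH.Q_cent_V)
    refine mH.good.kernel_le inf_le_left (le_normalizer_inf le_normalizer fun g hg => ?_) ?_ ?_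
    · refine mem_normalizer_of_cj ?_
      rw [cj_centralizer, CfsgLib.PushUp.cj_eq_of_mem_normalizer (mH.good.normV hg)]
    · exact fun x hx => mH.centV.le ⟨hx.1, hx.2.2⟩
    intro x hx hcop q hq
    obtain ⟨hxH, hxC⟩ := mem_inf.1 hx
    have hxN : ⁅x, q⁆ ∈ Vo p H := by
      obtain ⟨W, hW⟩ : ∃ W : Subgroup Γ, ∀ g, g ∈ W ↔ g ∈ H ∧ ∀ r ∈ Qo p H, ⁅g, r⁆ ∈ Vo p H := by
        refine ⟨{ carrier := {g | g ∈ H ∧ ∀ r ∈ Qo p H, ⁅g, r⁆ ∈ Vo p H}
                  one_mem' := ⟨one_mem H, fun r _ => by simp⟩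
                  mul_mem' := fun {a b} ha hb => ⟨mul_mem ha.1 hb.1, fun r hr => ?_⟩
                  inv_mem' := fun {a} ha => ⟨inv_mem ha.1, fun r hr => ?_⟩ }, fun g => Iff.rfl⟩
        · rw [show ⁅a * b, r⁆ = a * ⁅b, r⁆ * a⁻¹ * ⁅a, r⁆ by simp only [commutatorElement_def]; group]
          exact mul_mem (mem_normalizer_conj (mH.good.normV ha.1) (hb.2 r hr)) (ha.2 r hr)
        · rw [show ⁅a⁻¹, r⁆ = a⁻¹ * ⁅a, r⁆⁻¹ * a by simp only [commutatorElement_def]; group]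
          exact mem_normalizer_conj' (mH.good.normV ha.1) (inv_mem (ha.2 r hr))
      have hall : H ≤ W := by
        rw [← hNT]
        refine sup_le (fun g hg => (hW g).2 ⟨hNH hg, hNV g hg⟩) fun t ht => (hW t).2 ⟨mH.good.le ht, ?_⟩
        intro r hr
        have h1 : ⁅t, r⁆ ∈ Fr T := comm_mem_Fr mH.base.isp ht (mH.good.Q_le hr)
        refine mH.facts.zle (mem_inf.2 ⟨Fr_le_self T h1, ?_⟩)
        exact commutator_eq_bot_iff_le_centralizer.1 hclass h1
      exact ((hW x).1 (hall hxH)).2 q hq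
    have h1 : Commute x ⁅x, q⁆ := (commute_of_cent hxC hxN).symm
    exact commutatorElement_eq_one_iff_commute.1 (comm_eq_one_of_coprime h1 (mH.elemV hxN) hcop)
  have hkerQ : ρ.ker = (Qo p H).subgroupOf H := by
    rw [hker, ← hCQ, inf_subgroupOf_left]
  have hCn : H ≤ normalizer ((Vo p H ⊓ centralizer (H : Set Γ) : Subgroup Γ) : Set Γ) :=
    le_normalizer_inf mH.good.normV fun g hg => mem_normalizer_of_cj (by
      rw [cj_centralizer, mH.good.cjH hg])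
  refine ⟨_, _, natStep_mk (Y := Vo p H) (Y' := Vo p H ⊓ centralizer (H : Set Γ)) mH.V_le_Q
    inf_le_left mH.good.normV hCn ρ ψ hρ hkerQ hψ
    (fun v => (hψ1 v).trans ⟨fun h => mem_inf.2 ⟨v.2, h⟩, fun h => h.2⟩) hψh, ?_, ?_⟩
  · refine eq_bot_iff.2 ((commutator_top_subgroupOf (Y' := ⊥) fun y hy g hg => ?_).trans ?_)
    · exact mem_bot.2 (commutatorElement_eq_one_iff_commute.2 (commute_of_cent hy.2 hg).symm)
    · rw [bot_subgroupOf]
  · rw [pCore_eq]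
    refine commutator_top_subgroupOf fun q hq g hg => ?_
    obtain ⟨W, hW⟩ : ∃ W, W = N ⊔ T := ⟨_, rfl⟩
    have hgW : g ∈ N ⊔ T := hNT.ge hg
    rw [← SetLike.mem_coe, coe_mul_of_right_le_normalizer_left _ _ (mH.good.le.trans hNn)] at hgW
    obtain ⟨m, hm, t, ht, rfl⟩ := hgW
    have e1 : ⁅q, t⁆ ∈ Vo p H := by
      have h1 : ⁅q, t⁆ ∈ Fr T := comm_mem_Fr mH.base.isp (mH.good.Q_le hq) ht
      exact mH.facts.zle (mem_inf.2 ⟨Fr_le_self T h1,
        commutator_eq_bot_iff_le_centralizer.1 hclass h1⟩)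
    have e2 : ⁅q, m⁆ ∈ Vo p H := by
      rw [← commutatorElement_inv]
      exact inv_mem (hNV m hm q hq)
    rw [show ⁅q, m * t⁆ = ⁅q, m⁆ * (m * ⁅q, t⁆ * m⁻¹) by simp only [commutatorElement_def]; group]
    exact mul_mem e2 (mem_normalizer_conj (mH.good.normV (hNH hm)) e1)

end Mem

end CfsgLib.PushAmalgam
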