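import Cfsg.Agent.Lib.PushAmalgam.Adjacent

/-!
# Pushing up in rank one: walks of members

For a characteristic subgroup `X` of `Z(S)` we consider the conjugates `(T, H)` of members at `S`
moving `X`. If the `V`'s of any two members joined by a walk commute then `C_S(W)` is normal in every
member at `S`, where `W` is generated by the `V`'s of the members reachable from `S`.
-/

set_option autoImplicit false
set_option linter.style.haveILetI false
set_option linter.unusedSectionVars false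

open Subgroup
open scoped commutatorElement Pointwise
open CfsgLib.PushUp (MA cj mem_cj conj_mem_cj cj_mono card_cj ctr Fr)

namespace CfsgLib.PushAmalgam

universe u

variable {Γ : Type u} [Group Γ] {p : ℕ} [Fact p.Prime] {S X T T' H K L : Subgroup Γ}

/-- A reference `p`-group with a subgroup of its centre invariant under the normalizer. -/
structure Ref (p : ℕ) (S X : Subgroup Γ) : Prop where
  base : Base p S
  le : X ≤ ctr S
  norm : normalizer (S : Set Γ) ≤ normalizer (X : Set Γ)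

/-- A member of the family of `X`. -/
structure MemX (p : ℕ) (S X T H : Subgroup Γ) : Prop where
  mem : Mem p T H
  moved : ∃ γ, T = cj γ S ∧ ¬ cj γ X ≤ centralizer (H : Set Γ)

theorem mem_normalizer_of_cj {X : Subgroup Γ} {g : Γ} (h : cj g X = X) : g ∈ normalizer (X : Set Γ) :=
  CfsgLib.PushUp.mem_normalizer_of_forall (fun _ hy => h.le (conj_mem_cj hy))
    fun _ hy => mem_cj.1 (h.ge hy)

theorem Ref.cj_eq (R : Ref p S X) {γ γ' : Γ} (h : cj γ S = cj γ' S) : cj γ X = cj γ' X := by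
  have h1 : cj (γ'⁻¹ * γ) S = S := by rw [cj_mul, h, cj_inv_cj]
  have h2 : cj γ'⁻¹ (cj γ X) = X := by
    rw [← cj_mul]
    exact CfsgLib.PushUp.cj_eq_of_mem_normalizer (R.norm (mem_normalizer_of_cj h1))
  calc cj γ X = cj γ' (cj γ'⁻¹ (cj γ X)) := (CfsgLib.PushUp.cj_cj_inv γ' _).symm
    _ = _ := by rw [h2]

namespace MemX

theorem conj (m : MemX p S X T H) (γ : Γ) : MemX p S X (cj γ T) (cj γ H) := by
  obtain ⟨δ, e, hm⟩ := m.moved
  refine ⟨m.mem.conj γ, γ * δ, by rw [cj_mul, e], fun h => hm ?_⟩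
  rwa [cj_mul, ← cj_centralizer, cj_le_iff] at h

theorem edge (m : MemX p S X T H) {x : Γ} (hx : x ∈ H) : MemX p S X (cj x T) H := by
  have := m.conj x
  rwa [m.mem.good.cjH hx] at this

theorem of_mem (m : MemX p S X T H) (m' : Mem p T' H) : MemX p S X T' H := by
  obtain ⟨x, hx, rfl⟩ := m.mem.good.conjugate m'.good
  exact m.edge hx

theorem not_le (R : Ref p S X) (m : MemX p S X T H) {γ : Γ} (e : T = cj γ S) :
    ¬ cj γ X ≤ centralizer (H : Set Γ) := by
  obtain ⟨δ, e', hm⟩ := m.moved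
  rwa [R.cj_eq (e.symm.trans e')]

theorem exists_big (R : Ref p S X) (hX : X ≤ Big p S) (m : MemX p S X T H) :
    ∃ z ∈ ctr T, z ∈ Big p T ∧ z ∉ centralizer (H : Set Γ) := by
  obtain ⟨γ, rfl, hm⟩ := m.moved
  obtain ⟨z, hz, hzH⟩ := SetLike.not_le_iff_exists.1 hm
  exact ⟨z, (cj_ctr γ S).le (cj_mono R.le hz), (cj_Big p γ S).le (cj_mono hX hz), hzH⟩

end MemX

/-- Walks. -/
inductive Conn (p : ℕ) (S X : Subgroup Γ) : ℕ → Subgroup Γ → Subgroup Γ → Prop
  | refl {T H : Subgroup Γ} : MemX p S X T H → Conn p S X 0 H H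
  | step {k : ℕ} {T H L K : Subgroup Γ} :
      MemX p S X T H → MemX p S X T L → Conn p S X k L K → Conn p S X (k + 1) H K

namespace Conn

variable {k j : ℕ}

theorem left (c : Conn p S X k H K) : ∃ T, MemX p S X T H := by
  cases c with
  | refl m => exact ⟨_, m⟩
  | step m _ _ => exact ⟨_, m⟩

theorem pad (c : Conn p S X k H K) : Conn p S X (k + 1) H K := by
  induction c with
  | refl m => exact .step m m (.refl m)
  | step m m' _ ih => exact .step m m' ih

theorem mono (c : Conn p S X k H K) (h : k ≤ j) : Conn p S X j H K := by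
  induction h with
  | refl => exact c
  | step _ ih => exact ih.pad

theorem trans (c : Conn p S X k H L) (d : Conn p S X j L K) : Conn p S X (k + j) H K := by
  induction c with
  | refl _ => simpa using d
  | step m m' _ ih =>
    rw [Nat.add_right_comm]
    exact .step m m' (ih d)

theorem one (m : MemX p S X T H) (m' : MemX p S X T K) : Conn p S X 1 H K :=
  .step m m' (.refl m')

theorem symm (c : Conn p S X k H K) : Conn p S X k K H := by
  induction c with
  | refl m => exact .refl m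
  | step m m' _ ih => exact ih.trans (one m' m)

theorem conj (c : Conn p S X k H K) (γ : Γ) : Conn p S X k (cj γ H) (cj γ K) := by
  induction c with
  | refl m => exact .refl (m.conj γ)
  | step m m' _ ih => exact .step (m.conj γ) (m'.conj γ) ih

end Conn

/-- The `V`'s commute. -/
def Com (p : ℕ) (H K : Subgroup Γ) : Prop := ∀ v ∈ Vo p H, ∀ w ∈ Vo p K, Commute v w

theorem Com.symm (h : Com p H K) : Com p K H := fun v hv w hw => (h w hw v hv).symm

theorem Com.le_cent (h : Com p H K) : Vo p K ≤ centralizer (Vo p H : Set Γ) := fun w hw =>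
  mem_centralizer_iff.2 fun v hv => h v hv w hw

theorem Com.of_eq {H' : Subgroup Γ} (h : Com p H K) (e : Vo p H' = Vo p H) : Com p H' K :=
  fun v hv w hw => h v (e ▸ hv) w hw

/-- Members joined by walks of length at most `n` commute. -/
def CB (p : ℕ) (S X : Subgroup Γ) (n : ℕ) : Prop :=
  ∀ k H K, k ≤ n → Conn p S X k H K → Com p H K

theorem cb_zero : CB p S X 0 := by
  intro k H K hk c
  obtain ⟨T, m⟩ := c.left
  obtain rfl : k = 0 := Nat.le_zero.1 hk
  cases c with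
  | refl m => exact fun v hv w hw => m.mem.V_comm hv hw

theorem cb_one (R : Ref p S X) (hX : X ≤ Big p S) : CB p S X 1 := by
  intro k H K hk c
  rcases Nat.le_one_iff_eq_zero_or_eq_one.1 hk with rfl | rfl
  · exact cb_zero 0 H K le_rfl c
  cases c with
  | step m m' c =>
    cases c with
    | refl _ =>
      obtain ⟨z, hz, hzB, hzH⟩ := m.exists_big R hX
      exact fun v hv w hw =>
        m.mem.comm_of_le_Q (m.mem.le_Q_of_big m'.mem hz hzB hzH) hv hw

/-- The product of the `V`'s along a walk. -/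
theorem CB.prod {n k : ℕ} (cb : CB p S X n) (hk : k ≤ n) (c : Conn p S X k H K)
    (m : MemX p S X T H) :
    ∃ P, Lg T P ∧ P ≤ Qo p H ∧ T ⊓ centralizer (P : Set Γ) ≤ Qo p H ∧ Vo p H ≤ P ∧ Vo p K ≤ P ∧
      P ≤ sSup {V | ∃ L, Conn p S X k H L ∧ V = Vo p L} := by
  induction c generalizing T with
  | @refl T₀ H m₀ =>
    exact ⟨Vo p H, m.mem.lgV, m.mem.V_le_Q, m.mem.centV.le, le_rfl, le_rfl,
      le_sSup ⟨H, .refl m, rfl⟩⟩
  | @step j T₁ H L K m₁ m₁' c ih =>
    obtain ⟨P, hP, hPQ, -, -, hKP, hPs⟩ := ih (by omega) m₁'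
    have hPC : P ≤ centralizer (Vo p H : Set Γ) := hPs.trans (sSup_le fun V => by
      rintro ⟨L', c', rfl⟩
      exact (cb (j + 1) H L' hk (.step m₁ m₁' c')).le_cent)
    have hPQH : P ≤ Qo p H := (le_inf hP.le hPC).trans m₁.mem.centV.le
    obtain ⟨hsup, -⟩ := m₁.mem.base.lg_sup m₁.mem.lgV hP
    have hle : Vo p H ⊔ P ≤ Qo p H := sup_le m₁.mem.V_le_Q hPQH
    have hC : T₁ ⊓ centralizer ((Vo p H ⊔ P : Subgroup Γ) : Set Γ) ≤ Qo p H :=
      (inf_le_inf_left _ (centralizer_le (SetLike.coe_subset_coe.2 (le_sup_left : Vo p H ≤ Vo p H ⊔ P)))).trans m₁.mem.centV.le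
    obtain ⟨h1, h2⟩ := m₁.mem.transport m.mem hsup hle hC
    refine ⟨_, h1, hle, h2.le.trans hC, le_sup_left, hKP.trans le_sup_right,
      sup_le (le_sSup ⟨H, (Conn.refl m).mono (Nat.zero_le _), rfl⟩) (hPs.trans (sSup_le_sSup ?_))⟩
    rintro _ ⟨L', c', rfl⟩
    exact ⟨L', .step m₁ m₁' c', rfl⟩

theorem CB.le_Q {n k : ℕ} (cb : CB p S X n) (hk : k ≤ n) (c : Conn p S X k H K)
    (m : MemX p S X T H) : Vo p K ≤ Qo p H := by
  obtain ⟨P, -, hPQ, -, -, hKP, -⟩ := cb.prod hk c m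
  exact hKP.trans hPQ

theorem finite_subgroups_le [Finite T] : {M : Subgroup Γ | M ≤ T}.Finite :=
  Set.Finite.subset ((Set.finite_univ (α := Subgroup ↥T)).image (Subgroup.map T.subtype))
    fun M hM => ⟨M.subgroupOf T, Set.mem_univ _, map_subgroupOf_eq_of_le hM⟩

theorem Base.lg_sSup (b : Base p T) {𝒮 : Set (Subgroup Γ)} (hne : 𝒮.Nonempty)
    (h : ∀ M ∈ 𝒮, Lg T M) : Lg T (sSup 𝒮) := by
  haveI := b.fin
  obtain ⟨M₀, hM₀⟩ := hne
  obtain ⟨M, ⟨hMle, hM⟩, hmax⟩ := Set.Finite.exists_maximal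
    (s := {M : Subgroup Γ | M ≤ sSup 𝒮 ∧ Lg T M})
    (finite_subgroups_le.subset fun M hM => hM.2.le) ⟨M₀, le_sSup hM₀, h M₀ hM₀⟩
  suffices e : M = sSup 𝒮 from e ▸ hM
  refine le_antisymm hMle (sSup_le fun R hR => ?_)
  exact le_sup_right.trans (hmax ⟨sup_le hMle (le_sSup hR), (b.lg_sup hM (h R hR)).1⟩ le_sup_left)

/-- Members whose `V` is reachable from `T`. -/
def reach (p : ℕ) (S X T : Subgroup Γ) : Subgroup Γ :=
  sSup {V | ∃ H K k, MemX p S X T H ∧ Conn p S X k H K ∧ V = Vo p K}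

theorem cj_sSup_vs (γ : Γ) {𝒮 : Set (Subgroup Γ)} {Y : Subgroup Γ} (h : ∀ V ∈ 𝒮, cj γ V ≤ Y) :
    cj γ (sSup 𝒮) ≤ Y :=
  map_le_iff_le_comap.2 (sSup_le fun V hV => map_le_iff_le_comap.1 (h V hV))

theorem reach_conj_le (γ : Γ) (T : Subgroup Γ) :
    cj γ (reach p S X T) ≤ reach p S X (cj γ T) := by
  refine cj_sSup_vs γ ?_
  rintro _ ⟨H, K, k, m, c, rfl⟩
  obtain ⟨T', m'⟩ := c.symm.left
  haveI := m'.mem.good.fin
  exact le_sSup ⟨cj γ H, cj γ K, k, m.conj γ, c.conj γ, (Vo_cj γ K).symm⟩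

theorem reach_le_of_edge (m : MemX p S X T H) (m' : MemX p S X T' H) :
    reach p S X T ≤ reach p S X T' := by
  refine sSup_le ?_
  rintro _ ⟨H₁, K, k, m₁, c, rfl⟩
  exact le_sSup ⟨H, K, k + 1, m', .step m m₁ c, rfl⟩

/-- Without a bad pair a centrally large subgroup is normal in every member. -/
theorem exists_common (R : Ref p S X) (hcb : ∀ n, CB p S X n) (hne : ∃ H, MemX p S X S H) :
    ∃ S₂, S₂ ≤ S ∧ Lg S S₂ ∧ S ⊓ centralizer (S₂ : Set Γ) ≤ S₂ ∧
      normalizer (S : Set Γ) ≤ normalizer (S₂ : Set Γ) ∧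
      ∀ H, MemX p S X S H → H ≤ normalizer (S₂ : Set Γ) := by
  haveI := R.base.fin
  obtain ⟨H₀, m₀⟩ := hne
  obtain ⟨W, hW⟩ : ∃ W, W = reach p S X S := ⟨_, rfl⟩
  obtain ⟨𝒮, h𝒮⟩ : ∃ 𝒮, 𝒮 = {P : Subgroup Γ | Lg S P ∧ P ≤ W} := ⟨_, rfl⟩
  have hVP : ∀ H K k, MemX p S X S H → Conn p S X k H K → ∃ P ∈ 𝒮, Vo p K ≤ P := by
    intro H K k m c
    obtain ⟨P, hP, -, -, -, hKP, hPs⟩ := (hcb k).prod le_rfl c m
    refine ⟨P, h𝒮 ▸ ⟨hP, hPs.trans (hW ▸ sSup_le ?_)⟩, hKP⟩
    rintro _ ⟨L, c', rfl⟩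
    exact le_sSup ⟨H, L, k, m, c', rfl⟩
  have hWe : W = sSup 𝒮 := by
    refine le_antisymm (hW ▸ sSup_le ?_) (sSup_le fun P hP => (h𝒮 ▸ hP : P ∈ {P | _ ∧ P ≤ W}).2)
    rintro _ ⟨H, K, k, m, c, rfl⟩
    obtain ⟨P, hP, hle⟩ := hVP H K k m c
    exact hle.trans (le_sSup hP)
  have hWl : Lg S W := by
    rw [hWe]
    obtain ⟨P, hP, -⟩ := hVP H₀ H₀ 0 m₀ (.refl m₀)
    exact R.base.lg_sSup ⟨P, hP⟩ fun M hM => (h𝒮 ▸ hM : M ∈ {P | Lg S P ∧ _}).1
  have hWab : W ≤ centralizer (W : Set Γ) := by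
    conv_lhs => rw [hW]
    refine sSup_le ?_
    rintro _ ⟨H, K, k, m, c, rfl⟩
    rw [le_centralizer_iff, hW]
    refine sSup_le ?_
    rintro _ ⟨H', K', k', m', c', rfl⟩
    exact (hcb _ _ K K' le_rfl ((c.symm.trans (Conn.one m m')).trans c')).le_cent
  obtain ⟨h1, h2⟩ := R.base.lg_cent hWl
  have hWn : ∀ g ∈ normalizer (S : Set Γ), cj g W ≤ W := fun g hg => by
    rw [hW]
    refine (reach_conj_le g S).trans ?_
    rw [CfsgLib.PushUp.cj_eq_of_mem_normalizer hg]
  have hWH : ∀ H, MemX p S X S H → ∀ h ∈ H, cj h W ≤ W := fun H m h hh => by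
    rw [hW]
    exact (reach_conj_le h S).trans (reach_le_of_edge (m.edge hh) m)
  have hnormW : ∀ (A : Subgroup Γ), (∀ g ∈ A, cj g W ≤ W) → A ≤ normalizer (W : Set Γ) :=
    fun A hA g hg => CfsgLib.PushUp.mem_normalizer_of_forall
      (fun y hy => hA g hg (conj_mem_cj hy))
      fun y hy => by simpa using hA g⁻¹ (inv_mem hg) (conj_mem_cj hy)
  have hcent : ∀ (A : Subgroup Γ), A ≤ normalizer (W : Set Γ) →
      A ≤ normalizer (centralizer (W : Set Γ) : Set Γ) := fun A hA g hg => by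
    refine mem_normalizer_of_cj ?_
    rw [cj_centralizer, CfsgLib.PushUp.cj_eq_of_mem_normalizer (hA hg)]
  refine ⟨S ⊓ centralizer (W : Set Γ), inf_le_left, h1, ?_, ?_, fun H m => ?_⟩
  · rw [h2]
    exact le_inf hWl.le hWab
  · exact le_normalizer_inf le_rfl (hcent _ (hnormW _ hWn))
  · have hVW : Vo p H ≤ W := hW ▸ le_sSup ⟨H, H, 0, m, .refl m, rfl⟩
    have e : S ⊓ centralizer (W : Set Γ) = Qo p H ⊓ centralizer (W : Set Γ) :=
      le_antisymm (le_inf ((inf_le_inf_left S (centralizer_le (SetLike.coe_subset_coe.2 hVW))).trans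
        m.mem.centV.le) inf_le_right) (inf_le_inf_right _ m.mem.good.Q_le)
    rw [e]
    exact le_normalizer_inf m.mem.good.normQ (hcent _ (hnormW _ (hWH H m)))

/-- If every adjacent pair is flat there is no bad pair. -/
theorem cb_of_flat (cb : CB p S X 1)
    (hflat : ∀ T H K, MemX p S X T H → MemX p S X T K →
      H ≤ normalizer ((Vo p H ⊔ Vo p K : Subgroup Γ) : Set Γ)) : ∀ n, CB p S X n := by
  obtain ⟨W1, hW1⟩ : ∃ W1 : Subgroup Γ → Subgroup Γ,
      ∀ T, W1 T = sSup {V | ∃ L, MemX p S X T L ∧ V = Vo p L} := ⟨_, fun _ => rfl⟩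
  have hmem : ∀ T L, MemX p S X T L → Vo p L ≤ W1 T := fun T L m =>
    (hW1 T).ge.trans' (le_sSup ⟨L, m, rfl⟩)
  have hedge : ∀ T T' H, MemX p S X T H → MemX p S X T' H → W1 T ≤ W1 T' := by
    intro T T' H m m'
    rw [hW1 T]
    refine sSup_le ?_
    rintro _ ⟨L, mL, rfl⟩
    obtain ⟨x, hx, rfl⟩ := m.mem.good.conjugate m'.mem.good
    haveI := mL.mem.good.fin
    intro v hv
    have h1 : x⁻¹ * v * x ∈ Vo p H ⊔ Vo p L :=
      mem_normalizer_conj' (hflat T H L m mL hx) (mem_sup_right hv)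
    have h2 : Vo p H ⊔ Vo p L ≤ cj x⁻¹ (W1 (cj x T)) := by
      refine sup_le ?_ ?_
      · intro w hw
        rw [mem_cj, inv_inv]
        exact hmem _ _ m' (mem_normalizer_conj (m.mem.good.normV hx) hw)
      · intro w hw
        rw [mem_cj, inv_inv]
        refine hmem _ _ (mL.conj x) ?_
        rw [Vo_cj]
        exact conj_mem_cj hw
    have := mem_cj.1 (h2 h1)
    simpa [mul_assoc] using this
  have hconn : ∀ k H K, Conn p S X k H K → ∀ T, MemX p S X T H → Vo p K ≤ W1 T := by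
    intro k H K c
    induction c with
    | refl _ => exact fun T m => hmem T _ m
    | step m₁ m₁' _ ih => exact fun T m => (ih _ m₁').trans (hedge _ _ _ m₁ m)
  intro n k H K _ c v hv w hw
  obtain ⟨T, m⟩ := c.left
  have hab : W1 T ≤ centralizer (W1 T : Set Γ) := by
    rw [hW1]
    refine sSup_le ?_
    rintro _ ⟨L, mL, rfl⟩
    rw [le_centralizer_iff]
    refine sSup_le ?_
    rintro _ ⟨L', mL', rfl⟩
    exact (cb 1 L L' le_rfl (.one mL mL')).le_cent
  exact (commute_of_cent (hab (hmem T H m hv)) (hconn k H K c T m hw)).symm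

end CfsgLib.PushAmalgam
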