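import Cfsg.Agent.Lib.PushAmalgam.Facts
import Cfsg.Agent.Lib.PushAmalgam.Adjacent
import Cfsg.Agent.Lib.Char.NatSL.Natural

/-!
# Pushing up in rank one: the natural module of a member
-/

set_option autoImplicit false
set_option linter.style.haveILetI false

open Subgroup
open scoped MatrixGroups
open CfsgLib.PushUp (cj ctr)

namespace CfsgLib.PushAmalgam

universe u

variable {Γ : Type u} [Group Γ] {p : ℕ} [Fact p.Prime] {T H : Subgroup Γ}

/-- `H` acts on `V` as `SL₂(F)` on its natural module, `T` as the upper unitriangular matrices. -/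
theorem Mem.natural (m : Mem p T H) :
    ∃ (F : Type) (_ : Field F) (_ : Fintype F), CharP F p ∧
      Fintype.card F = (Qo p H).relIndex T ∧
      ∃ (ρ : ↥H →* SL(2, F)) (ψ : ↥(Vo p H) →* Multiplicative (Fin 2 → F)),
        Function.Surjective ρ ∧
        ρ.ker = (centralizer (Vo p H : Set Γ)).subgroupOf H ∧
        (T.subgroupOf H).map ρ = CfsgLib.PushUpTwo.upGroup F ∧
        Function.Surjective ψ ∧
        (∀ v : ↥(Vo p H), ψ v = 1 ↔ (v : Γ) ∈ centralizer (H : Set Γ)) ∧
        (∀ (h : ↥H) (v w : ↥(Vo p H)), (w : Γ) = (h : Γ) * v * (h : Γ)⁻¹ →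
          Multiplicative.toAdd (ψ w) =
            ((ρ h : SL(2, F)) : Matrix (Fin 2) (Fin 2) F).mulVec (Multiplicative.toAdd (ψ v))) ∧
        ∀ v : ↥(Vo p H), (v : Γ) ∈ ctr T → Multiplicative.toAdd (ψ v) 1 = 0 := by
  classical
  haveI := m.good.fin
  have hpp : p.Prime := Fact.out
  have hVH : Vo p H ≤ H := (Vo_le_Qo H).trans (Qo_le H)
  haveI : Finite ↥(Vo p H) := finite_of_le hVH
  letI : CommGroup ↥(Vo p H) :=
    { (inferInstance : Group ↥(Vo p H)) with mul_comm := fun a b => Subtype.ext (m.V_comm a.2 b.2) }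
  obtain ⟨θ, hθ, hθker⟩ : ∃ θ : ↥H →* MulAut ↥(Vo p H),
      (∀ (h : ↥H) (v : ↥(Vo p H)), (θ h v : Γ) = (h : Γ) * v * (h : Γ)⁻¹) ∧
      θ.ker = (centralizer (Vo p H : Set Γ)).subgroupOf H := by
    refine ⟨(Vo p H).normalizerMonoidHom.comp (inclusion m.good.normV), fun _ _ => rfl, ?_⟩
    rw [← MonoidHom.comap_ker, normalizerMonoidHom_ker]
    rfl
  haveI : Finite (MulAut ↥(Vo p H)) :=
    Finite.of_injective (fun e => (e : ↥(Vo p H) → ↥(Vo p H))) DFunLike.coe_injective
  obtain ⟨π, hπ⟩ : ∃ π, π = θ.rangeRestrict := ⟨_, rfl⟩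
  have hπs : Function.Surjective π := hπ ▸ θ.rangeRestrict_surjective
  have hπker : π.ker = (centralizer (Vo p H : Set Γ)).subgroupOf H := by
    rw [hπ, MonoidHom.ker_rangeRestrict, hθker]
  letI act : DistribMulAction ↥θ.range (Additive ↥(Vo p H)) :=
    { smul := fun g a => Additive.ofMul ((g : MulAut ↥(Vo p H)) (Additive.toMul a))
      one_smul := fun _ => rfl
      mul_smul := fun _ _ _ => rfl
      smul_zero := fun g => congrArg Additive.ofMul (map_one (g : MulAut ↥(Vo p H)))
      smul_add := fun g a b =>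
        congrArg Additive.ofMul (map_mul (g : MulAut ↥(Vo p H)) (Additive.toMul a) (Additive.toMul b)) }
  let val : Additive ↥(Vo p H) → Γ := fun a => ((Additive.toMul a : ↥(Vo p H)) : Γ)
  have hval : ∀ a b : Additive ↥(Vo p H), val a = val b → a = b := fun a b h =>
    Additive.toMul.injective (Subtype.ext h)
  have hsmul : ∀ (h : ↥H) (a : Additive ↥(Vo p H)), val (π h • a) = (h : Γ) * val a * (h : Γ)⁻¹ := by
    subst hπ
    exact fun h a => hθ h _
  have hfix : ∀ (X : Subgroup ↥H) (a : Additive ↥(Vo p H)),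
      a ∈ CfsgLib.Char.NatSL.fixS (Additive ↥(Vo p H)) (X.map π) ↔
        ∀ h ∈ X, Commute (h : Γ) (val a) := by
    intro X a
    constructor
    · intro h x hx
      have := congrArg val (h _ (mem_map_of_mem π hx))
      rw [hsmul] at this
      exact mul_inv_eq_iff_eq_mul.1 this
    · rintro h _ ⟨x, hx, rfl⟩
      refine hval _ _ ?_
      rw [hsmul]
      exact mul_inv_eq_iff_eq_mul.2 (h x hx).eq
  have hfixT : ∀ a : Additive ↥(Vo p H),
      a ∈ CfsgLib.Char.NatSL.fixS (Additive ↥(Vo p H)) ((T.subgroupOf H).map π) ↔ val a ∈ ctr T := by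
    intro a
    rw [hfix]
    constructor
    · exact fun h => ⟨m.V_le (Additive.toMul a).2,
        mem_centralizer_iff.2 fun t ht => (h ⟨t, m.good.le ht⟩ ht).eq⟩
    · exact fun h x hx => (commute_of_cent h.2 hx)
  -- the cardinalities
  have hqT : Nat.card ↥((T.subgroupOf H).map π) = (Qo p H).relIndex T := by
    rw [← relIndex_ker, hπker, relIndex_subgroupOf m.good.le, ← inf_relIndex_left T, m.centV]
  have hcardfix : Nat.card ↥(CfsgLib.Char.NatSL.fixS (Additive ↥(Vo p H)) ((T.subgroupOf H).map π)) =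
      Nat.card ↥(ctr T) :=
    Nat.card_congr
      { toFun := fun a => ⟨val a, (hfixT a).1 a.2⟩
        invFun := fun z => ⟨Additive.ofMul ⟨z, m.facts.zle z.2⟩, (hfixT _).2 z.2⟩
        left_inv := fun _ => rfl
        right_inv := fun _ => rfl }
  have hVcard : Nat.card (Additive ↥(Vo p H)) =
      Nat.card ↥((T.subgroupOf H).map π) *
        Nat.card ↥(CfsgLib.Char.NatSL.fixS (Additive ↥(Vo p H)) ((T.subgroupOf H).map π)) := by
    haveI : Finite ↥(Qo p H) := finite_of_le (Qo_le H)
    have h2 : Nat.card T = Nat.card ↥(Qo p H) * (Qo p H).relIndex T := by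
      rw [← relIndex_bot_left (Qo p H), ← relIndex_bot_left T,
        relIndex_mul_relIndex _ _ _ bot_le m.good.Q_le]
    rw [hqT, hcardfix, Nat.card_congr (Additive.toMul (α := ↥(Vo p H)))]
    refine Nat.eq_of_mul_eq_mul_right (Nat.card_pos (α := ↥(Qo p H))) ?_
    rw [m.facts.card_VQ, fS, h2]
    ring
  -- the maximal subgroup
  obtain ⟨P, hP⟩ := m.good.sit.sylow
  obtain ⟨M₀, ⟨hM₀, hTM₀⟩, huniq⟩ := m.good.sit.uniq
  have hTker : T.subgroupOf H ⊔ π.ker ≠ ⊤ := by
    intro htop
    refine m.good.moved fun z hz => mem_centralizer_iff.2 fun x hx => ?_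
    have hle : T.subgroupOf H ⊔ π.ker ≤ (centralizer ({z} : Set Γ)).subgroupOf H := by
      refine sup_le (fun t ht => mem_centralizer_singleton_iff.2 (commute_of_cent hz.2 ht).eq) ?_
      rw [hπker]
      exact comap_mono (centralizer_le (Set.singleton_subset_iff.2 (m.facts.zle hz)))
    exact mem_centralizer_singleton_iff.1 (hle (htop.ge (mem_top (⟨x, hx⟩ : ↥H))))
  have hkerM : π.ker ≤ M₀ := by
    obtain ⟨W, hW, hle⟩ := (eq_top_or_exists_le_coatom _).resolve_left hTker
    rw [← huniq W ⟨hW, le_sup_left.trans hle⟩]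
    exact le_sup_right.trans hle
  have hTsyl : ((P.mapSurjective hπs : Sylow p ↥θ.range) : Subgroup ↥θ.range) =
      (T.subgroupOf H).map π := by
    rw [Sylow.coe_mapSurjective, hP]
  have hA0 := m.facts.ex
  obtain ⟨A₀, hA₀, hA₀Q⟩ := hA0
  have hsupT : A₀ ⊔ Qo p H = T := (m.facts.off A₀ hA₀ hA₀Q).1
  have hcomm : ∀ a ∈ (T.subgroupOf H).map π, ∀ b ∈ (T.subgroupOf H).map π, a * b = b * a := by
    haveI := hA₀.2.1
    have hA₀H : A₀ ≤ H := hA₀.1.trans m.good.le
    have hle : (T.subgroupOf H).map π ≤ (A₀.subgroupOf H).map π := by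
      rw [map_le_iff_le_comap, comap_map_eq]
      have hQk : (Qo p H).subgroupOf H ≤ π.ker := by
        rw [hπker]
        exact comap_mono m.Q_cent_V
      refine le_trans ?_ (sup_le_sup_left hQk _)
      rw [← subgroupOf_sup hA₀H (Qo_le H), hsupT]
    intro a ha b hb
    obtain ⟨x, hx, rfl⟩ := hle ha
    obtain ⟨y, hy, rfl⟩ := hle hb
    rw [← map_mul, ← map_mul]
    exact congrArg π (Subtype.ext (commute_of_cent (le_centralizer A₀ hy) hx).eq)
  have hd : CfsgLib.Char.NatSL.OffData (Additive ↥(Vo p H)) p (P.mapSurjective hπs) (M₀.map π)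
      ((T.subgroupOf H).map π) :=
    { faith := fun g hg => Subtype.ext (MulEquiv.ext fun v =>
        congrArg Additive.toMul (hg (Additive.ofMul v)))
      vp := ⟨1, fun a => hval _ _ (by
        rw [pow_one]
        show ((Additive.toMul (p • a) : ↥(Vo p H)) : Γ) = 1
        rw [toMul_nsmul, SubgroupClass.coe_pow]
        exact m.elemV (Additive.toMul a).2)⟩
      acomm := hcomm
      apow := by
        rintro _ ⟨t, ht, rfl⟩
        rw [← map_pow, ← MonoidHom.mem_ker, hπker]
        exact m.Q_cent_V (m.facts.pow _ ht)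
      aT := hTsyl.ge
      coatom := by
        obtain ⟨W, hW, hle⟩ := (eq_top_or_exists_le_coatom (M₀.map π)).resolve_left fun htop =>
          hM₀.1 (by rw [← sup_eq_left.2 hkerM, ← comap_map_eq, htop, comap_top])
        have h1 : M₀ ≤ W.comap π := map_le_iff_le_comap.1 hle
        rcases h1.eq_or_lt with h2 | h2
        · rwa [h2, map_comap_eq_self_of_surjective hπs]
        · refine absurd ?_ hW.1
          rw [← map_comap_eq_self_of_surjective hπs W, hM₀.2 _ h2, map_top_of_surjective π hπs]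
      tM := hTsyl.le.trans (map_mono hTM₀)
      uniq := fun N hN hTN => by
        have hc : IsCoatom (N.comap π) := by
          refine ⟨fun htop => hN.1 ?_, fun W hW => ?_⟩
          · rw [← map_comap_eq_self_of_surjective hπs N, htop, map_top_of_surjective π hπs]
          · have hkW : π.ker ≤ W := (ker_le_comap π N).trans hW.le
            have h1 : N < W.map π := by
              refine lt_of_le_of_ne ?_ fun e => hW.ne ?_
              · rw [← map_comap_eq_self_of_surjective hπs N]
                exact map_mono hW.le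
              · rw [e, comap_map_eq, sup_eq_left.2 hkW]
            rw [← sup_eq_left.2 hkW, ← comap_map_eq, hN.2 _ h1, comap_top]
        rw [← map_comap_eq_self_of_surjective hπs N, huniq _ ⟨hc, ?_⟩]
        exact map_le_iff_le_comap.1 (hTsyl.ge.trans hTN)
      notNormal := fun hn => by
        rw [hTsyl] at hn
        haveI := hn.comap π
        rw [comap_map_eq] at this
        haveI := this
        rcases m.good.sit.sup_or (T.subgroupOf H ⊔ π.ker) with h | h
        · refine Sit.not_le_pCore m.good.sit ?_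
          rwa [inf_eq_left.2 (le_sup_left : T.subgroupOf H ≤ T.subgroupOf H ⊔ π.ker)] at h
        · rw [sup_assoc, sup_comm π.ker, ← sup_assoc, sup_idem] at h
          exact hTker h
      off := hVcard.le
      strict := fun X hX hXne hXT => by
        obtain ⟨x, hx, hx1⟩ := (X.bot_or_exists_ne_one).resolve_left hXne
        obtain ⟨t, ht, rfl⟩ := hX hx
        have htQ : (t : Γ) ∉ Qo p H := fun h => hx1 (by
          rw [← MonoidHom.mem_ker, hπker]
          exact m.Q_cent_V h)
        have heq : CfsgLib.Char.NatSL.fixS (Additive ↥(Vo p H)) X =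
            CfsgLib.Char.NatSL.fixS (Additive ↥(Vo p H)) ((T.subgroupOf H).map π) := by
          refine le_antisymm (fun a ha => (hfixT a).2 ?_) (CfsgLib.Char.NatSL.fixS_mono hX)
          have := congrArg val (ha _ hx)
          rw [hsmul] at this
          exact m.facts.fix _ (Additive.toMul a).2 _ ht htQ (mul_inv_eq_iff_eq_mul.1 this)
        rw [heq]
        refine Nat.mul_lt_mul_of_pos_right ?_ Nat.card_pos
        exact lt_of_not_ge fun hge => hXT (eq_of_le_of_card_ge hX hge)
      moved := by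
        obtain ⟨z, hz, hzH⟩ := SetLike.not_le_iff_exists.1 m.good.moved
        refine ⟨Additive.ofMul ⟨z, m.facts.zle hz⟩, ?_, fun h => hzH ?_⟩
        · rw [hTsyl]
          exact (hfixT _).2 hz
        · rw [← map_top_of_surjective π hπs] at h
          exact mem_centralizer_iff.2 fun x hx => ((hfix _ _).1 h ⟨x, hx⟩ (mem_top _)).eq
      gen := fun x hx => by
        obtain ⟨y, rfl⟩ := hπs x
        have hy : y ∉ M₀ := fun h => hx (mem_map_of_mem π h)
        have e : T.subgroupOf H ⊔ cj y (T.subgroupOf H) = ⊤ := by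
          by_contra hne
          obtain ⟨W, hW, hle⟩ := (eq_top_or_exists_le_coatom _).resolve_left hne
          have hWM := huniq W ⟨hW, le_sup_left.trans hle⟩
          exact hy (Sit.mem_of_cj_le m.good.sit hM₀ hTM₀ (hWM ▸ le_sup_right.trans hle))
        have := congrArg (Subgroup.map π) e
        rw [Subgroup.map_sup, map_top_of_surjective π hπs, cj, map_map] at this
        refine (congrArg _ ?_).trans this
        rw [map_map]
        congr 1
        exact MonoidHom.ext fun z => by simp }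
  obtain ⟨F, iF, iFf, hF, -, ρ₀, ψ₀, hψs, hψ0, hψ⟩ := hd.natural
  haveI : CharP F p := by
    refine (CharP.charP_iff_prime_eq_zero hpp).2 ?_
    obtain ⟨v, hv⟩ := hψs (Pi.single 0 1)
    have h1 : p • v = 0 := hval _ _ (by
      show ((Additive.toMul (p • v) : ↥(Vo p H)) : Γ) = 1
      rw [toMul_nsmul, SubgroupClass.coe_pow]
      exact m.elemV (Additive.toMul v).2)
    have h2 := congrArg (fun f : Fin 2 → F => f 0) (congrArg ψ₀ h1)
    simpa [map_nsmul, hv, map_zero] using h2
  -- move the image of `T` to the upper unitriangular group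
  obtain ⟨R₀, hR₀⟩ : ∃ R₀ : Sylow p SL(2, F),
      (R₀ : Subgroup SL(2, F)) = (T.subgroupOf H).map (ρ₀.toMonoidHom.comp π) :=
    ⟨(P.mapSurjective hπs).mapSurjective (f := ρ₀.toMonoidHom) ρ₀.surjective, by
      refine (Sylow.coe_mapSurjective _ _).trans ?_
      rw [hTsyl, map_map]⟩
  have hcardR : Nat.card ↥(R₀ : Subgroup SL(2, F)) = Nat.card F := by
    rw [hR₀, ← map_map, card_map_of_injective (f := ρ₀.toMonoidHom) ρ₀.injective,
      Nat.card_eq_fintype_card (α := F), hF]
  have hUp : IsPGroup p (CfsgLib.PushUpTwo.upGroup F) := by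
    obtain ⟨n, -, hn⟩ := FiniteField.card F p
    refine IsPGroup.of_card (n := n) ?_
    rw [CfsgLib.PushUpTwo.card_upGroup, Nat.card_eq_fintype_card, hn]
  obtain ⟨R, hR⟩ := hUp.exists_le_sylow
  obtain ⟨g, hg⟩ := MulAction.exists_smul_eq SL(2, F) R₀ R
  have hRU : CfsgLib.PushUpTwo.upGroup F = ((R₀ : Subgroup SL(2, F)).map (MulAut.conj g).toMonoidHom) := by
    have hRc : (R : Subgroup SL(2, F)) = (R₀ : Subgroup SL(2, F)).map (MulAut.conj g).toMonoidHom := by
      rw [← hg, Sylow.coe_subgroup_smul]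
      rfl
    rw [← hRc]
    refine eq_of_le_of_card_ge hR ?_
    rw [CfsgLib.PushUpTwo.card_upGroup, hRc, card_map_of_injective (MulAut.conj g).injective, hcardR]
  refine ⟨F, iF, iFf, inferInstance, by rw [hF, hqT],
    ((MulAut.conj g).toMonoidHom.comp ρ₀.toMonoidHom).comp π,
    MonoidHom.mk' (fun v => Multiplicative.ofAdd
      ((g : Matrix (Fin 2) (Fin 2) F).mulVec (ψ₀ (Additive.ofMul v))))
      (fun u v => by rw [← ofAdd_add, ← Matrix.mulVec_add, ← map_add]; rfl), ?_, ?_, ?_, ?_, ?_, ?_, ?_⟩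
  · exact ((MulAut.conj g).surjective.comp ρ₀.surjective).comp hπs
  · rw [← hπker]
    refine Subgroup.ext fun x => ?_
    simp only [MonoidHom.mem_ker, MonoidHom.coe_comp, Function.comp_apply, MulEquiv.coe_toMonoidHom,
      EmbeddingLike.map_eq_one_iff]
  · rw [MonoidHom.comp_assoc, ← map_map, hRU, hR₀]
  · intro y
    obtain ⟨v, hv⟩ := hψs ((g⁻¹ : SL(2, F)).1.mulVec (Multiplicative.toAdd y))
    refine ⟨Additive.toMul v, ?_⟩
    show Multiplicative.ofAdd ((g : Matrix (Fin 2) (Fin 2) F).mulVec (ψ₀ v)) = y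
    rw [hv, Matrix.mulVec_mulVec, ← Matrix.SpecialLinearGroup.coe_mul, mul_inv_cancel,
      Matrix.SpecialLinearGroup.coe_one, Matrix.one_mulVec]
    rfl
  · intro v
    show Multiplicative.ofAdd ((g : Matrix (Fin 2) (Fin 2) F).mulVec (ψ₀ (Additive.ofMul v))) = 1 ↔ _
    rw [ofAdd_eq_one]
    have hinj : (g : Matrix (Fin 2) (Fin 2) F).mulVec (ψ₀ (Additive.ofMul v)) = 0 ↔
        ψ₀ (Additive.ofMul v) = 0 := by
      refine ⟨fun h => ?_, fun h => by rw [h, Matrix.mulVec_zero]⟩
      have := congrArg ((g⁻¹ : SL(2, F)).1.mulVec) h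
      rwa [Matrix.mulVec_mulVec, ← Matrix.SpecialLinearGroup.coe_mul, inv_mul_cancel,
        Matrix.SpecialLinearGroup.coe_one, Matrix.one_mulVec, Matrix.mulVec_zero] at this
    rw [hinj, hψ0, ← map_top_of_surjective π hπs, hfix, mem_centralizer_iff]
    exact ⟨fun h x hx => (h ⟨x, hx⟩ (mem_top _)).eq, fun h x _ => h x x.2⟩
  · intro h v w hw
    have hwv : Additive.ofMul w = π h • Additive.ofMul v := hval _ _ (hw.trans (hsmul h (Additive.ofMul v)).symm)
    show (g : Matrix (Fin 2) (Fin 2) F).mulVec (ψ₀ (Additive.ofMul w)) =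
      ((g * ρ₀ (π h) * g⁻¹ : SL(2, F)) : Matrix (Fin 2) (Fin 2) F).mulVec
        ((g : Matrix (Fin 2) (Fin 2) F).mulVec (ψ₀ (Additive.ofMul v)))
    rw [hwv, hψ, Matrix.mulVec_mulVec, Matrix.mulVec_mulVec, ← Matrix.SpecialLinearGroup.coe_mul,
      ← Matrix.SpecialLinearGroup.coe_mul, inv_mul_cancel_right]
  · intro v hv
    show (g : Matrix (Fin 2) (Fin 2) F).mulVec (ψ₀ (Additive.ofMul v)) 1 = 0
    have hup : CfsgLib.PushUpTwo.up (1 : F) ∈ CfsgLib.PushUpTwo.upGroup F := CfsgLib.PushUpTwo.up_mem 1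
    rw [hRU, hR₀, ← map_map, map_map, map_map] at hup
    obtain ⟨t, ht, e⟩ := hup
    have e' : g * ρ₀ (π t) * g⁻¹ = CfsgLib.PushUpTwo.up (1 : F) := e
    have hfx : π t • Additive.ofMul v = Additive.ofMul v :=
      ((hfixT (Additive.ofMul v)).2 hv) _ (mem_map_of_mem π ht)
    have h1 := congrArg (fun a => (g : Matrix (Fin 2) (Fin 2) F).mulVec (ψ₀ a)) hfx
    simp only [hψ, Matrix.mulVec_mulVec] at h1
    rw [show (g : Matrix (Fin 2) (Fin 2) F) * ((ρ₀ (π t) : SL(2, F)) : Matrix (Fin 2) (Fin 2) F) =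
        (CfsgLib.PushUpTwo.up (1 : F)).1 * (g : Matrix (Fin 2) (Fin 2) F) from by
      rw [← Matrix.SpecialLinearGroup.coe_mul, ← Matrix.SpecialLinearGroup.coe_mul, ← e', inv_mul_cancel_right],
      ← Matrix.mulVec_mulVec] at h1
    have h2 := congrFun h1 0
    simpa [CfsgLib.PushUpTwo.up_val, Matrix.mulVec, dotProduct, Fin.sum_univ_two] using h2

end CfsgLib.PushAmalgam
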