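import Cfsg.Agent.Lib.PushAmalgam.Shape
import Cfsg.Agent.Lib.PushAmalgam.Natural
import Cfsg.Agent.Lib.PushAmalgam.Graph

/-!
# Pushing up in rank one: no invariant subgroup; common facts for the structure theorem
-/

set_option autoImplicit false
set_option linter.style.haveILetI false
set_option linter.unusedSectionVars false

open Subgroup
open scoped MatrixGroups commutatorElement Pointwise
open CfsgLib.PushUp (MA cj mem_cj conj_mem_cj cj_mono card_cj ctr Fr)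

namespace CfsgLib.PushAmalgam

universe u

variable {Γ : Type u} [Group Γ] {p : ℕ} [Fact p.Prime] {T H : Subgroup Γ}

/-- No nontrivial subgroup of `T` is invariant under `N(T)` and under `H`. -/
def Prim (T H : Subgroup Γ) : Prop :=
  ∀ Y : Subgroup Γ, Y ≤ T → normalizer (T : Set Γ) ≤ normalizer (Y : Set Γ) →
    H ≤ normalizer (Y : Set Γ) → Y = ⊥

/-- The conditions on the deviation from the exceptional class, in the ambient group. -/
structure Small (p : ℕ) (T : Subgroup Γ) : Prop where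
  comm : p ≠ 3 → ⁅Fr T, T⁆ = ⊥
  three : p = 3 → ⁅⁅Fr T, T⁆, T⁆ = ⊥ ∧ Fr (Fr T) = ⊥
  pow : p ≠ 2 → p ≠ 3 → ∀ t ∈ T, t ^ p = 1

theorem comm_eq_one_of_coprime {G : Type*} [Group G] {r q : G}
    (hy : Commute r ⁅r, q⁆) (hyp : ⁅r, q⁆ ^ p = 1) (hr : (orderOf r).Coprime p) : ⁅r, q⁆ = 1 := by
  obtain ⟨y, hydef⟩ : ∃ y, y = ⁅r, q⁆ := ⟨_, rfl⟩
  rw [← hydef] at hy hyp ⊢
  have hstep : r * q * r⁻¹ = y * q := by rw [hydef, commutatorElement_def]; group
  have hiter : ∀ i : ℕ, r ^ i * q * (r ^ i)⁻¹ = y ^ i * q := by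
    intro i
    induction i with
    | zero => simp
    | succ i ih =>
      calc r ^ (i + 1) * q * (r ^ (i + 1))⁻¹ = r * (r ^ i * q * (r ^ i)⁻¹) * r⁻¹ := by
            rw [pow_succ']; group
        _ = r * (y ^ i * q) * r⁻¹ := by rw [ih]
        _ = (r * y ^ i * r⁻¹) * (r * q * r⁻¹) := by group
        _ = _ := by rw [(hy.pow_right i).eq, mul_inv_cancel_right, hstep, pow_succ, mul_assoc]
  have h1 := hiter (orderOf r)
  rw [pow_orderOf_eq_one, one_mul, inv_one, mul_one] at h1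
  have h2 : y ^ orderOf r = 1 := mul_eq_right.1 h1.symm
  exact orderOf_eq_one_iff.1 (Nat.eq_one_of_dvd_coprimes hr (orderOf_dvd_of_pow_eq_one h2)
    (orderOf_dvd_of_pow_eq_one hyp))

/-- A subgroup containing `T` and all elements of order prime to `p` contains the member. -/
theorem Good.le_of_coprime (h : Good p T H) {W : Subgroup Γ} (hTW : T ≤ W)
    (hW : ∀ x ∈ H, (orderOf x).Coprime p → x ∈ W) : H ≤ W := by
  classical
  haveI := h.fin
  obtain ⟨P, hP⟩ := h.sit.sylow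
  suffices e : W.subgroupOf H = ⊤ from subgroupOf_eq_top.1 e
  rw [← index_eq_one, Nat.eq_one_iff_not_exists_prime_dvd]
  intro r hr hd
  haveI := Fact.mk hr
  by_cases hrp : r = p
  · subst hrp
    refine P.not_dvd_index (hd.trans (index_dvd_of_le ?_))
    rw [hP]
    exact comap_mono hTW
  · obtain ⟨R⟩ := (inferInstance : Nonempty (Sylow r ↥H))
    refine R.not_dvd_index (hd.trans (index_dvd_of_le fun x hx => mem_subgroupOf.2 (hW x x.2 ?_)))
    obtain ⟨k, hk⟩ := R.2 ⟨x, hx⟩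
    have h1 : orderOf (x : Γ) ∣ r ^ k := by
      rw [Subgroup.orderOf_coe]
      exact orderOf_dvd_of_pow_eq_one (congrArg Subtype.val hk)
    exact Nat.Coprime.coprime_dvd_left h1
      (((Nat.coprime_primes hr Fact.out).2 hrp).pow_left k)

/-- An element of `p`-power order in a subgroup normalized by `H` meeting `T` in `Q` lies in `Q`. -/
theorem Good.pElem_mem (h : Good p T H) {K : Subgroup Γ} (hK : K ≤ H)
    (hn : H ≤ normalizer (K : Set Γ)) (hKT : T ⊓ K ≤ Qo p H) {x : Γ} (hx : x ∈ K) {k : ℕ}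
    (hk : x ^ p ^ k = 1) : x ∈ Qo p H := by
  haveI := h.fin
  obtain ⟨P, hP⟩ := h.sit.sylow
  have hz : IsPGroup p (zpowers (⟨x, hK hx⟩ : ↥H)) := by
    rintro ⟨_, j, rfl⟩
    refine ⟨k, Subtype.ext ?_⟩
    rw [SubgroupClass.coe_pow, ← zpow_natCast, ← zpow_mul, mul_comm, zpow_mul, zpow_natCast,
      show (⟨x, hK hx⟩ : ↥H) ^ p ^ k = 1 from Subtype.ext hk, one_zpow]
    rfl
  obtain ⟨P', hP'⟩ := hz.exists_le_sylow
  obtain ⟨g, hg⟩ := MulAction.exists_smul_eq ↥H P' P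
  have h1 : g * ⟨x, hK hx⟩ * g⁻¹ ∈ (P : Subgroup ↥H) := by
    rw [← hg]
    exact ⟨_, hP' (mem_zpowers _), rfl⟩
  rw [hP] at h1
  have h2 : (g : Γ) * x * (g : Γ)⁻¹ ∈ Qo p H :=
    hKT (mem_inf.2 ⟨h1, mem_normalizer_conj (hn g.2) hx⟩)
  have h3 := mem_normalizer_conj' (h.normQ g.2) h2
  simpa [mul_assoc] using h3

/-- A normal subgroup meeting `T` in `Q` whose elements of order prime to `p` centralize `Q`. -/
theorem Good.kernel_le (h : Good p T H) {K : Subgroup Γ} (hK : K ≤ H)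
    (hn : H ≤ normalizer (K : Set Γ)) (hKT : T ⊓ K ≤ Qo p H)
    (hc : ∀ x ∈ K, (orderOf x).Coprime p → ∀ q ∈ Qo p H, Commute x q) : K ≤ Qo p H := by
  haveI := h.fin
  intro x hx
  have ho : orderOf x ≠ 0 := by
    rw [← Subgroup.orderOf_mk x (hK hx)]
    exact (orderOf_pos _).ne'
  obtain ⟨k, m, hm, e⟩ := Nat.exists_eq_pow_mul_and_not_dvd ho p (Fact.out : p.Prime).ne_one
  have hcop : m.Coprime p := ((Fact.out : p.Prime).coprime_iff_not_dvd.2 hm).symm
  have h1 : x ^ m ∈ Qo p H := h.pElem_mem hK hn hKT (pow_mem hx m) (k := k)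
    (by rw [← pow_mul, mul_comm, ← e, pow_orderOf_eq_one])
  have h2 : x ^ p ^ k ∈ Qo p H := by
    refine h.self_cent ⟨pow_mem (hK hx) _, mem_centralizer_iff.2 fun q hq => ?_⟩
    refine (hc _ (pow_mem hx _) ?_ q hq).symm.eq
    refine Nat.Coprime.coprime_dvd_left (orderOf_dvd_of_pow_eq_one ?_) hcop
    rw [← pow_mul, ← e, pow_orderOf_eq_one]
  have hb := Nat.gcd_eq_gcd_ab m (p ^ k)
  rw [hcop.pow_right k] at hb
  rw [← zpow_one x, show (1 : ℤ) = _ from hb, zpow_add, zpow_mul, zpow_mul, zpow_natCast, zpow_natCast]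
  exact mul_mem (zpow_mem h1 _) (zpow_mem h2 _)

theorem pCore_eq (H : Subgroup Γ) : Cfsg.pCore p ↥H = (Qo p H).subgroupOf H :=
  (comap_map_eq_self_of_injective H.subtype_injective _).symm

/-- A natural step from data in the ambient group. -/
theorem natStep_mk {F : Type} [Field F] [Fintype F] {Y Y' : Subgroup Γ} (hY : Y ≤ Qo p H)
    (hle : Y' ≤ Y) (hn : H ≤ normalizer (Y : Set Γ)) (hn' : H ≤ normalizer (Y' : Set Γ))
    (ρ : ↥H →* SL(2, F)) (ψ : ↥Y →* Multiplicative (Fin 2 → F)) (hρ : Function.Surjective ρ)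
    (hker : ρ.ker = (Qo p H).subgroupOf H) (hψ : Function.Surjective ψ)
    (hψ1 : ∀ v : ↥Y, ψ v = 1 ↔ (v : Γ) ∈ Y')
    (heq : ∀ (h : ↥H) (v w : ↥Y), (w : Γ) = (h : Γ) * v * (h : Γ)⁻¹ →
      Multiplicative.toAdd (ψ w) =
        ((ρ h : SL(2, F)) : Matrix (Fin 2) (Fin 2) F).mulVec (Multiplicative.toAdd (ψ v))) :
    NatStep F p (Y.subgroupOf H) (Y'.subgroupOf H) := by
  have hYH : Y ≤ H := hY.trans (Qo_le H)
  refine ⟨comap_mono hle, (comap_mono hY).trans (pCore_eq H).ge,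
    (normal_subgroupOf_iff_le_normalizer hYH).2 hn,
    (normal_subgroupOf_iff_le_normalizer (hle.trans hYH)).2 hn', ρ,
    ψ.comp (subgroupOfEquivOfLe hYH).toMonoidHom, hρ, hker.trans (pCore_eq H).symm,
    hψ.comp (subgroupOfEquivOfLe hYH).surjective, fun v => hψ1 _, fun g v w hw => ?_⟩
  exact heq g _ _ (congrArg Subtype.val hw)

theorem commutator_top_subgroupOf {Y Y' : Subgroup Γ} (h : ∀ y ∈ Y, ∀ g ∈ H, ⁅y, g⁆ ∈ Y') :
    ⁅Y.subgroupOf H, (⊤ : Subgroup ↥H)⁆ ≤ Y'.subgroupOf H :=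
  commutator_le.2 fun y hy g _ => h y hy g g.2

end CfsgLib.PushAmalgam
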