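import Cfsg.Agent.Lib.PushAmalgam.Two
import Cfsg.Agent.Lib.PushAmalgam.Natural

/-!
# Pushing up in rank one: generation seen in `SL₂`, and normality of `Q ∩ Q'`
-/

set_option autoImplicit false
set_option linter.style.haveILetI false
set_option linter.unusedSectionVars false

open Subgroup
open scoped MatrixGroups commutatorElement Pointwise
open CfsgLib.PushUp (cj mem_cj conj_mem_cj cj_mono ctr Fr)
open CfsgLib.PushUpTwo (up lo upGroup)

namespace CfsgLib.PushAmalgam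

universe u

section SL

variable {F : Type*} [Field F]

theorem sl_conj_up {g : SL(2, F)} {t : F} :
    (g * up t * g⁻¹).1 1 0 = -(t * g.1 1 0 * g.1 1 0) := by
  simp [CfsgLib.PushUpTwo.up_val, Matrix.SpecialLinearGroup.coe_mul,
    Matrix.SpecialLinearGroup.coe_inv, Matrix.adjugate_fin_two, Matrix.mul_apply, Fin.sum_univ_two]
  ring

theorem sl_of_mem_normalizer {g : SL(2, F)} (hg : g ∈ normalizer (upGroup F : Set SL(2, F))) :
    g.1 1 0 = 0 := by
  have h := ((mem_normalizer_iff.1 hg) (up 1)).1 (CfsgLib.PushUpTwo.up_mem 1)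
  have h3 : (g * up 1 * g⁻¹).1 1 0 = 0 := h.2.1
  rw [sl_conj_up] at h3
  simpa using h3

theorem sl_mem_normalizer {g : SL(2, F)} (hg : g.1 1 0 = 0) :
    g ∈ normalizer (upGroup F : Set SL(2, F)) := by
  have hd := CfsgLib.PushUpTwo.slDet g
  rw [hg, mul_zero, sub_zero] at hd
  refine CfsgLib.PushUpTwo.normalizes_of_meet (u := up 1) (CfsgLib.PushUpTwo.up_mem 1)
    (fun h => ?_) ?_
  · have := congrArg (fun y : SL(2, F) => y.1 0 1) h
    simp [CfsgLib.PushUpTwo.up_val] at this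
  · refine ⟨?_, ?_, ?_⟩ <;>
      simp [CfsgLib.PushUpTwo.up_val, Matrix.SpecialLinearGroup.coe_mul,
        Matrix.SpecialLinearGroup.coe_inv, Matrix.adjugate_fin_two, Matrix.mul_apply,
        Fin.sum_univ_two, hg] <;> linear_combination hd

end SL

variable {Γ : Type u} [Group Γ] {p : ℕ} [Fact p.Prime] {T H K : Subgroup Γ}

/-- Two subgroups over `T` generating `H`: one of them is `H`. -/
theorem Good.eq_of_sup (g : Good p T H) {Y Z : Subgroup Γ} (hTY : T ≤ Y) (hTZ : T ≤ Z)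
    (e : Y ⊔ Z = H) : Y = H ∨ Z = H := by
  haveI := g.fin
  obtain ⟨M, ⟨hM, hTM⟩, huniq⟩ := g.sit.uniq
  have key : ∀ W : Subgroup Γ, T ≤ W → W ≤ H → W ≠ H → W ≤ M.map H.subtype := by
    intro W hTW hWH hne
    have h' : W.subgroupOf H ≠ ⊤ := fun h => hne (le_antisymm hWH (subgroupOf_eq_top.1 h))
    obtain ⟨M', hM', hle⟩ := (eq_top_or_exists_le_coatom _).resolve_left h'
    have hMM : M' = M := huniq M' ⟨hM', (comap_mono hTW).trans hle⟩
    have h2 := map_mono (f := H.subtype) hle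
    rwa [map_subgroupOf_eq_of_le hWH, hMM] at h2
  by_contra! h
  have hle : H ≤ M.map H.subtype := e.ge.trans
    (sup_le (key Y hTY (le_sup_left.trans e.le) h.1) (key Z hTZ (le_sup_right.trans e.le) h.2))
  refine hM.1 (eq_top_iff.2 fun x _ => ?_)
  obtain ⟨y, hy, hyx⟩ := hle x.2
  rwa [← Subtype.ext hyx]

/-- A subgroup over `T` with an element of nonzero lower left entry is `H`. -/
theorem Mem.eq_of_entry (m : Mem p T H) {F : Type} [Field F] {ρ : ↥H →* SL(2, F)}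
    (hker : ρ.ker = (centralizer (Vo p H : Set Γ)).subgroupOf H)
    (hT : (T.subgroupOf H).map ρ = upGroup F) {Y : Subgroup Γ} (hTY : T ≤ Y) (hYH : Y ≤ H) {x : ↥H}
    (hx : (x : Γ) ∈ Y) (hx0 : (ρ x).1 1 0 ≠ 0) : Y = H := by
  have htop : (Y.subgroupOf H).map ρ = ⊤ :=
    CfsgLib.PushUpTwo.eq_top_of_upGroup_le (hT.ge.trans (map_mono (comap_mono hTY)))
      (mem_map_of_mem ρ (show x ∈ Y.subgroupOf H from hx))
      fun hn => hx0 (sl_of_mem_normalizer hn)
  obtain ⟨C, hC⟩ : ∃ C, C = H ⊓ centralizer (Vo p H : Set Γ) := ⟨_, rfl⟩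
  have hkerC : ∀ w : ↥H, ρ w = 1 → (w : Γ) ∈ C := fun w hw =>
    hC ▸ mem_inf.2 ⟨w.2, hker.le (MonoidHom.mem_ker.2 hw)⟩
  have hYC : Y ⊔ (C ⊔ T) = H := by
    refine le_antisymm (sup_le hYH (sup_le (hC ▸ inf_le_left) m.good.le)) fun h hh => ?_
    obtain ⟨w, hw, e⟩ := htop.ge (mem_top (ρ ⟨h, hh⟩))
    have h1 : (((w⁻¹ * ⟨h, hh⟩ : ↥H)) : Γ) ∈ C := hkerC _ (by rw [map_mul, map_inv, e, inv_mul_cancel])
    rw [show h = (w : Γ) * (((w⁻¹ * ⟨h, hh⟩ : ↥H)) : Γ) by simp]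
    exact mul_mem (mem_sup_left hw) (mem_sup_right (mem_sup_left h1))
  rcases m.good.eq_of_sup hTY le_sup_right hYC with h | h
  · exact h
  exfalso
  refine hx0 ?_
  have h1 : x ∈ (C ⊔ T).subgroupOf H := by rw [h]; exact x.2
  rw [subgroupOf_sup (hC ▸ inf_le_left) m.good.le] at h1
  have h2 : (C.subgroupOf H ⊔ T.subgroupOf H).map ρ ≤ upGroup F := by
    rw [Subgroup.map_sup, sup_le_iff]
    refine ⟨map_le_iff_le_comap.2 fun w hw => ?_, hT.le⟩
    have : w ∈ ρ.ker := hker.ge (hC ▸ hw : w ∈ (H ⊓ centralizer (Vo p H : Set Γ)).subgroupOf H).2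
    rw [mem_comap, MonoidHom.mem_ker.1 this]
    exact one_mem _
  exact (h2 (mem_map_of_mem ρ h1)).2.1

/-- Commuting neighbours: `C_T(Q_H ∩ Q_K) = V_H V_K`. -/
theorem Mem.cent_P (mH : Mem p T H) (mK : Mem p T K) :
    T ⊓ centralizer ((Qo p H ⊓ Qo p K : Subgroup Γ) : Set Γ) = Vo p H ⊔ Vo p K := by
  refine le_antisymm (fun t ht => ?_) (sup_le (le_inf mH.V_le
    (mH.V_cent_Q.trans (centralizer_le (SetLike.coe_subset_coe.2 inf_le_left))))
    (le_inf mK.V_le (mK.V_cent_Q.trans (centralizer_le (SetLike.coe_subset_coe.2 inf_le_right)))))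
  obtain ⟨a, ha, c, hc, rfl⟩ := (mH.base.lg_inf mH.lgQ.1 mK.lgQ.1).2 t ht.1 ht.2
  exact mul_mem (mem_sup_left (mH.lgQ.2.le ha)) (mem_sup_right (mK.lgQ.2.le hc))

theorem Mem.P_not_normal (mH : Mem p T H) (mK : Mem p T K) (hle : Vo p K ≤ Qo p H)
    (hnf : ¬ H ≤ normalizer ((Vo p H ⊔ Vo p K : Subgroup Γ) : Set Γ)) :
    ¬ H ≤ normalizer ((Qo p H ⊓ Qo p K : Subgroup Γ) : Set Γ) := by
  intro hn
  refine hnf ?_
  have e : Vo p H ⊔ Vo p K = Qo p H ⊓ centralizer ((Qo p H ⊓ Qo p K : Subgroup Γ) : Set Γ) := by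
    refine le_antisymm (le_inf (sup_le mH.V_le_Q hle) ((mH.cent_P mK).ge.trans inf_le_right)) ?_
    exact (inf_le_inf_right _ mH.good.Q_le).trans (mH.cent_P mK).le
  rw [e]
  refine le_normalizer_inf mH.good.normQ fun g hg => mem_normalizer_of_cj ?_
  rw [cj_centralizer, CfsgLib.PushUp.cj_eq_of_mem_normalizer (hn hg)]

end CfsgLib.PushAmalgam
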