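import Cfsg.Agent.Lib.PushAmalgam.Member
import Cfsg.Agent.Lib.Char.NatSL.Natural

/-!
# Pushing up in rank one: a quadratic module with small index of the fixed points

If the Sylow subgroup acts quadratically on `M` and fixes a subgroup of index at most `|S : O_p(G)|`,
and the action is not quadratic for every element, then `M` has a natural section.
-/

set_option autoImplicit false
set_option linter.style.haveILetI false
set_option linter.unusedSectionVars false

open Subgroup
open scoped MatrixGroups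
open CfsgLib.Char.NatSL (fixS mem_fixS fixS_mono tr mem_tr smul_mem_tr fixS_conj mem_fixS_top_of_sup
  card_sup_mul_card_inf OffData)
open CfsgLib.PushUp (cj mem_cj conj_mem_cj Sit)
open CfsgLib.PushUpTwo (upGroup)

namespace CfsgLib.PushAmalgam

universe u

variable {L : Type u} [Group L] [Finite L] {p : ℕ} [Fact p.Prime] {T : Subgroup L}

theorem exists_natural_section (sit : Sit p T) {M : Type u} [AddCommGroup M] [Finite M]
    [DistribMulAction L M] (hM : ∀ x : M, p • x = 0)
    (hQ : ∀ g ∈ Cfsg.pCore p L, ∀ x : M, g • x = x) {I : AddSubgroup M}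
    (hI : ∀ t ∈ T, ∀ x : M, t • x - x ∈ I) (hfix : ∀ t ∈ T, ∀ x ∈ I, t • x = x)
    (hcardM : Nat.card M ≤ Nat.card I * (Cfsg.pCore p L).relIndex T)
    (hnt : ¬ ∀ g : L, ∀ x : M, g • (g • x - x) = g • x - x) :
    ∃ (F : Type) (_ : Field F) (_ : Fintype F), CharP F p ∧
      Fintype.card F = (Cfsg.pCore p L).relIndex T ∧
      ∃ (Nt Zt : AddSubgroup M) (ρ : L →* SL(2, F)) (ψ : ↥Nt →+ (Fin 2 → F)),
        Zt ≤ Nt ∧ (∀ g : L, ∀ x ∈ Nt, g • x ∈ Nt) ∧ (∀ g : L, ∀ x : M, g • x - x ∈ Nt) ∧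
        (∀ g : L, ∀ x ∈ Zt, g • x = x) ∧
        Function.Surjective ρ ∧ (∀ g : L, ρ g = 1 ↔ ∀ x ∈ Nt, g • x = x) ∧
        (∀ t ∈ T, ρ t = 1 → t ∈ Cfsg.pCore p L) ∧ T.map ρ = upGroup F ∧
        Function.Surjective ψ ∧ (∀ x : ↥Nt, ψ x = 0 ↔ (x : M) ∈ Zt) ∧
        ∀ (g : L) (v w : ↥Nt), (w : M) = g • (v : M) →
          ψ w = ((ρ g : SL(2, F)) : Matrix (Fin 2) (Fin 2) F).mulVec (ψ v) := by
  classical
  have hpp : p.Prime := Fact.out
  obtain ⟨q, hq⟩ : ∃ q, q = (Cfsg.pCore p L).relIndex T := ⟨_, rfl⟩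
  obtain ⟨M₀, ⟨hM₀, hTM₀⟩, huniq⟩ := sit.uniq
  have hIfix : I ≤ fixS M T := fun x hx t ht => hfix t ht x hx
  have hgenT : ∀ x : L, x ∉ M₀ → T ⊔ cj x T = ⊤ := by
    intro x hx
    by_contra hne
    obtain ⟨W, hW, hle⟩ := (eq_top_or_exists_le_coatom _).resolve_left hne
    have hWM := huniq W ⟨hW, le_sup_left.trans hle⟩
    exact hx (Sit.mem_of_cj_le sit hM₀ hTM₀ (hWM ▸ le_sup_right.trans hle))
  obtain ⟨x₀, hx₀⟩ : ∃ x : L, x ∉ M₀ := by
    by_contra! hall
    exact hM₀.1 (eq_top_iff.2 fun x _ => hall x)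
  -- the sum of two fixed spaces
  have hinvT : ∀ x : L, ∀ t ∈ T, ∀ m ∈ fixS M T ⊔ tr x (fixS M T),
      t • m ∈ fixS M T ⊔ tr x (fixS M T) := by
    intro x t ht m hm
    have := AddSubgroup.add_mem _ hm (AddSubgroup.mem_sup_left (hIfix (hI t ht m)))
    rwa [add_sub_cancel] at this
  have hinvx : ∀ x : L, ∀ t ∈ cj x T, ∀ m ∈ fixS M T ⊔ tr x (fixS M T),
      t • m ∈ fixS M T ⊔ tr x (fixS M T) := by
    rintro x _ ⟨t, ht, rfl⟩ m hm
    have e : (MulAut.conj x).toMonoidHom t • m - m = x • (t • (x⁻¹ • m) - x⁻¹ • m) := by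
      rw [smul_sub, smul_inv_smul]
      simp [mul_smul]
    have := AddSubgroup.add_mem _ hm
      (AddSubgroup.mem_sup_right (smul_mem_tr (x := x) (hIfix (hI t ht (x⁻¹ • m)))))
    rwa [← e, add_sub_cancel] at this
  have hinv : ∀ x : L, x ∉ M₀ → ∀ g : L, ∀ m ∈ fixS M T ⊔ tr x (fixS M T),
      g • m ∈ fixS M T ⊔ tr x (fixS M T) := by
    intro x hx g
    have h := closure_induction (k := ((T : Set L) ∪ (cj x T : Set L)))
      (p := fun g _ => (∀ m ∈ fixS M T ⊔ tr x (fixS M T), g • m ∈ fixS M T ⊔ tr x (fixS M T)) ∧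
        ∀ m ∈ fixS M T ⊔ tr x (fixS M T), g⁻¹ • m ∈ fixS M T ⊔ tr x (fixS M T))
      ?_ ?_ ?_ ?_ (x := g) (by rw [Subgroup.closure_union, Subgroup.closure_eq, Subgroup.closure_eq, hgenT x hx]; exact mem_top g)
    · exact h.1
    · rintro y (hy | hy)
      · exact ⟨hinvT x y hy, hinvT x _ (inv_mem hy)⟩
      · exact ⟨hinvx x y hy, hinvx x _ (inv_mem hy)⟩
    · exact ⟨fun m hm => by rwa [one_smul], fun m hm => by rwa [inv_one, one_smul]⟩
    · intro a b _ _ ha hb
      refine ⟨fun m hm => ?_, fun m hm => ?_⟩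
      · rw [mul_smul]; exact ha.1 _ (hb.1 m hm)
      · rw [mul_inv_rev, mul_smul]; exact hb.2 _ (ha.2 m hm)
    · intro a _ ha
      exact ⟨ha.2, by rw [inv_inv]; exact ha.1⟩
  obtain ⟨Nt, hNt⟩ : ∃ Nt, Nt = fixS M T ⊔ tr x₀ (fixS M T) := ⟨_, rfl⟩
  have hN : ∀ g : L, ∀ m ∈ Nt, g • m ∈ Nt := hNt ▸ hinv x₀ hx₀
  have hFN : fixS M T ≤ Nt := hNt ▸ le_sup_left
  have hNeq : ∀ x : L, x ∉ M₀ → fixS M T ⊔ tr x (fixS M T) = Nt := by
    intro x hx
    refine le_antisymm (sup_le hFN ?_) (hNt ▸ sup_le le_sup_left ?_)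
    · rintro _ ⟨m, hm, rfl⟩
      exact hN x m (hFN hm)
    · rintro _ ⟨m, hm, rfl⟩
      exact hinv x hx x₀ m (AddSubgroup.mem_sup_left hm)
  have hIN : ∀ g : L, ∀ x : M, g • x - x ∈ Nt := by
    intro g
    refine closure_induction (k := ((T : Set L) ∪ (cj x₀ T : Set L)))
      (p := fun g _ => ∀ x : M, g • x - x ∈ Nt) ?_ ?_ ?_ ?_
      (x := g) (by rw [Subgroup.closure_union, Subgroup.closure_eq, Subgroup.closure_eq, hgenT x₀ hx₀]; exact mem_top g)
    · rintro y (hy | hy) x
      · exact hFN (hIfix (hI y hy x))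
      · obtain ⟨t, ht, rfl⟩ := hy
        have e : (MulAut.conj x₀).toMonoidHom t • x - x = x₀ • (t • (x₀⁻¹ • x) - x₀⁻¹ • x) := by
          rw [smul_sub, smul_inv_smul]
          simp [mul_smul]
        rw [e]
        exact hN x₀ _ (hFN (hIfix (hI t ht _)))
    · exact fun x => by simp
    · intro a b _ _ ha hb x
      rw [mul_smul, show a • b • x - x = (a • b • x - b • x) + (b • x - x) by abel]
      exact Nt.add_mem (ha _) (hb x)
    · intro a _ ha x
      have h1 := Nt.neg_mem (ha (a⁻¹ • x))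
      rwa [smul_inv_smul, neg_sub] at h1
  have hnfix : ¬ ∀ g : L, ∀ m ∈ Nt, g • m = m := fun hall =>
    hnt fun g x => hall g _ (hIN g x)
  -- an element outside `O_p` fixes no more than `T`
  have hfixu : ∀ u ∈ T, u ∉ Cfsg.pCore p L → ∀ m ∈ Nt, u • m = m → m ∈ fixS M T := by
    intro u hu huQ m hm hum
    obtain ⟨x, hx⟩ := Sit.gen sit hu huQ
    have hxM : x ∉ M₀ := by
      intro hxM
      refine hM₀.1 (top_le_iff.1 (hx ▸ sup_le ?_ ?_))
      · rintro _ ⟨t, ht, rfl⟩
        exact M₀.mul_mem (M₀.mul_mem hxM (hTM₀ ht)) (M₀.inv_mem hxM)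
      · rintro _ ⟨_, ⟨t, ht, rfl⟩, rfl⟩
        exact M₀.mul_mem (M₀.mul_mem (hTM₀ hu) (M₀.mul_mem (M₀.mul_mem hxM (hTM₀ ht)) (M₀.inv_mem hxM)))
          (M₀.inv_mem (hTM₀ hu))
    rw [← hNeq x hxM] at hm
    obtain ⟨a, ha, b, hb, rfl⟩ := AddSubgroup.mem_sup.1 hm
    have hub : u • b = b := by
      rw [smul_add, ha u hu] at hum
      exact add_left_cancel hum
    have hb1 : b ∈ fixS M (cj x T) := by
      rw [cj, fixS_conj]; exact hb
    have hb2 : b ∈ fixS M (cj u (cj x T)) := by
      rw [cj, fixS_conj, mem_tr]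
      rwa [show u⁻¹ • b = b from inv_smul_eq_iff.2 hub.symm]
    exact AddSubgroup.add_mem _ ha (fixS_mono le_top (mem_fixS_top_of_sup hx hb1 hb2))
  -- the group induced on `N`
  letI actN : DistribMulAction L ↥Nt :=
    { smul := fun g m => ⟨g • (m : M), hN g m m.2⟩
      one_smul := fun m => Subtype.ext (one_smul L (m : M))
      mul_smul := fun g h m => Subtype.ext (mul_smul g h (m : M))
      smul_zero := fun g => Subtype.ext (smul_zero g)
      smul_add := fun g a b => Subtype.ext (smul_add g (a : M) (b : M)) }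
  have hco : ∀ (g : L) (m : ↥Nt), ((g • m : ↥Nt) : M) = g • (m : M) := fun _ _ => rfl
  obtain ⟨θ, hθ⟩ : ∃ θ : L →* MulAut (Multiplicative ↥Nt),
      ∀ (g : L) (m : ↥Nt), θ g (Multiplicative.ofAdd m) = Multiplicative.ofAdd (g • m) := by
    refine ⟨MonoidHom.mk' (fun g =>
      { toFun := fun m => Multiplicative.ofAdd (g • Multiplicative.toAdd m)
        invFun := fun m => Multiplicative.ofAdd (g⁻¹ • Multiplicative.toAdd m)
        left_inv := fun m => by simp
        right_inv := fun m => by simp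
        map_mul' := fun a b => by simp [smul_add] }) fun g h => MulEquiv.ext fun m => ?_, fun _ _ => rfl⟩
    show Multiplicative.ofAdd ((g * h) • Multiplicative.toAdd m) = Multiplicative.ofAdd (g • h • Multiplicative.toAdd m)
    rw [mul_smul]
  haveI : Finite (MulAut (Multiplicative ↥Nt)) :=
    Finite.of_injective (fun e => (e : Multiplicative ↥Nt → Multiplicative ↥Nt)) DFunLike.coe_injective
  obtain ⟨π, hπ⟩ : ∃ π, π = θ.rangeRestrict := ⟨_, rfl⟩
  have hπs : Function.Surjective π := hπ ▸ θ.rangeRestrict_surjective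
  letI act : DistribMulAction ↥θ.range ↥Nt :=
    { smul := fun g a => Multiplicative.toAdd ((g : MulAut (Multiplicative ↥Nt)) (Multiplicative.ofAdd a))
      one_smul := fun _ => rfl
      mul_smul := fun _ _ _ => rfl
      smul_zero := fun g => congrArg Multiplicative.toAdd (map_one (g : MulAut (Multiplicative ↥Nt)))
      smul_add := fun g a b => congrArg Multiplicative.toAdd
        (map_mul (g : MulAut (Multiplicative ↥Nt)) (Multiplicative.ofAdd a) (Multiplicative.ofAdd b)) }
  have hsmul : ∀ (g : L) (a : ↥Nt), π g • a = g • a := by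
    subst hπ
    intro g a
    exact congrArg Multiplicative.toAdd (hθ g a)
  have hπker : ∀ g : L, π g = 1 ↔ ∀ m ∈ Nt, g • m = m := by
    intro g
    constructor
    · intro h m hm
      have := hsmul g ⟨m, hm⟩
      rw [h, one_smul] at this
      exact (congrArg Subtype.val this).symm
    · intro h
      subst hπ
      refine Subtype.ext (MulEquiv.ext fun a => ?_)
      show θ g a = a
      rw [show a = Multiplicative.ofAdd (Multiplicative.toAdd a) from rfl, hθ]
      exact congrArg Multiplicative.ofAdd (Subtype.ext (h _ (Multiplicative.toAdd a).2))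
  have hfixπ : ∀ (X : Subgroup L) (a : ↥Nt),
      a ∈ fixS ↥Nt (X.map π) ↔ (a : M) ∈ fixS M X := by
    intro X a
    constructor
    · intro h g hg
      have := h _ (mem_map_of_mem π hg)
      rw [hsmul] at this
      exact congrArg Subtype.val this
    · rintro h _ ⟨g, hg, rfl⟩
      rw [hsmul]
      exact Subtype.ext (h g hg)
  have hNtriv : ¬ ∀ m ∈ Nt, m ∈ fixS M T := by
    intro hall
    refine hnfix fun g m hm => ?_
    have h2 : m ∈ fixS M (cj x₀ T) := by
      rw [cj, fixS_conj, mem_tr]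
      exact hall _ (hN _ m hm)
    exact mem_fixS_top_of_sup (hgenT x₀ hx₀) (hall m hm) h2 g (mem_top g)
  have hkerT : ∀ t ∈ T, π t = 1 → t ∈ Cfsg.pCore p L := by
    intro t ht h1
    by_contra htQ
    exact hNtriv fun m hm => hfixu t ht htQ m hm ((hπker t).1 h1 m hm)
  have hinfT : π.ker ⊓ T = Cfsg.pCore p L := by
    refine le_antisymm (fun t ht => hkerT t ht.2 ht.1) (le_inf (fun g hg => ?_) sit.pCore_le)
    exact (hπker g).2 fun m _ => hQ g hg m
  have hqT : Nat.card ↥(T.map π) = q := by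
    rw [← relIndex_ker, ← inf_relIndex_right, hinfT, hq]
  have hTker : T ⊔ π.ker ≠ ⊤ := by
    intro htop
    refine hnfix fun g m hm => ?_
    have hsub : ∀ a ∈ fixS M T, a ∈ Nt → ∀ g : L, g • a = a := by
      intro a ha haN g
      have hle : T ⊔ π.ker ≤ MulAction.stabilizer L a :=
        sup_le (fun t ht => ha t ht) fun c hc => (hπker c).1 hc a haN
      exact hle (htop.ge (mem_top g))
    rw [hNt] at hm
    obtain ⟨a, ha, b, ⟨c, hc, rfl⟩, rfl⟩ := AddSubgroup.mem_sup.1 hm
    rw [smul_add, hsub a ha (hFN ha) g]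
    refine congrArg (a + ·) ?_
    show g • x₀ • c = x₀ • c
    rw [hsub c hc (hFN hc) x₀, hsub c hc (hFN hc) g]
  have hkerM : π.ker ≤ M₀ := by
    obtain ⟨W, hW, hle⟩ := (eq_top_or_exists_le_coatom _).resolve_left hTker
    rw [← huniq W ⟨hW, le_sup_left.trans hle⟩]
    exact le_sup_right.trans hle
  obtain ⟨P, hP⟩ := sit.sylow
  have hTsyl : ((P.mapSurjective hπs : Sylow p ↥θ.range) : Subgroup ↥θ.range) = T.map π := by
    rw [Sylow.coe_mapSurjective, hP]
  -- size of `N`
  have hoff : Nat.card ↥Nt ≤ Nat.card ↥(T.map π) * Nat.card ↥(fixS ↥Nt (T.map π)) := by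
    have e : Nat.card ↥(fixS ↥Nt (T.map π)) = Nat.card ↥(fixS M T ⊓ Nt) :=
      Nat.card_congr
        { toFun := fun a => ⟨((a : ↥Nt) : M), (hfixπ T _).1 a.2, (a : ↥Nt).2⟩
          invFun := fun b => ⟨⟨b, b.2.2⟩, (hfixπ T _).2 b.2.1⟩
          left_inv := fun _ => rfl
          right_inv := fun _ => rfl }
    rw [e, inf_eq_left.2 hFN, hqT, mul_comm]
    calc Nat.card ↥Nt ≤ Nat.card M := Nat.card_le_card_of_injective _ Subtype.val_injective
      _ ≤ Nat.card I * q := hq ▸ hcardM
      _ ≤ _ := Nat.mul_le_mul_right _ (Nat.card_le_card_of_injective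
          (fun a => (⟨a, hIfix a.2⟩ : ↥(fixS M T))) fun a b h => Subtype.ext (congrArg Subtype.val h :))
  have hd : OffData ↥Nt p (P.mapSurjective hπs) (M₀.map π) (T.map π) :=
    { faith := fun g hg => Subtype.ext (MulEquiv.ext fun v =>
        congrArg Multiplicative.ofAdd (hg (Multiplicative.toAdd v)))
      vp := ⟨1, fun a => Subtype.ext (by rw [pow_one, AddSubgroupClass.coe_nsmul, hM]; rfl)⟩
      acomm := by
        rintro _ ⟨t, ht, rfl⟩ _ ⟨s, hs, rfl⟩
        rw [← map_mul, ← map_mul]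
        refine mul_inv_eq_one.1 ?_
        rw [← map_inv, ← map_mul, hπker]
        intro m _
        have key : ∀ a ∈ T, ∀ b ∈ T, ∀ x : M, a • b • x = (b • x - x) + ((a • x - x) + x) := by
          intro a ha b hb x
          conv_lhs => rw [show b • x = (b • x - x) + x by abel, smul_add, hfix a ha _ (hI b hb x)]
          abel
        obtain ⟨x, hx⟩ : ∃ x, x = (s * t)⁻¹ • m := ⟨_, rfl⟩
        rw [mul_smul, ← hx, mul_smul, key t ht s hs]
        have h2 : (s * t) • x = m := by rw [hx, smul_inv_smul]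
        rw [← h2, mul_smul, key s hs t ht]
        abel
      apow := by
        rintro _ ⟨t, ht, rfl⟩
        rw [← map_pow, hπker]
        intro m _
        have hiter : ∀ i : ℕ, t ^ i • m = m + i • (t • m - m) := by
          intro i
          induction i with
          | zero => simp
          | succ i ih =>
            rw [pow_succ', mul_smul, ih, smul_add, succ_nsmul,
              show t • (i • (t • m - m)) = i • (t • m - m) from
                hfix t ht _ (AddSubgroup.nsmul_mem _ (hI t ht m) i)]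
            abel
        rw [hiter, hM, add_zero]
      aT := hTsyl.ge
      coatom := by
        obtain ⟨W, hW, hle⟩ := (eq_top_or_exists_le_coatom (M₀.map π)).resolve_left fun htop =>
          hM₀.1 (by rw [← sup_eq_left.2 hkerM, ← comap_map_eq, htop, comap_top])
        have h1 : M₀ ≤ W.comap π := map_le_iff_le_comap.1 hle
        rcases h1.eq_or_lt with h2 | h2
        · rwa [h2, map_comap_eq_self_of_surjective hπs]
        · refine absurd ?_ hW.1
          rw [← map_comap_eq_self_of_surjective hπs W, hM₀.2 _ h2, map_top_of_surjective π hπs]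
      tM := hTsyl.le.trans (map_mono hTM₀)
      uniq := fun N hN' hTN => by
        have hc : IsCoatom (N.comap π) := by
          refine ⟨fun htop => hN'.1 ?_, fun W hW => ?_⟩
          · rw [← map_comap_eq_self_of_surjective hπs N, htop, map_top_of_surjective π hπs]
          · have hkW : π.ker ≤ W := (ker_le_comap π N).trans hW.le
            have h1 : N < W.map π := by
              refine lt_of_le_of_ne ?_ fun e => hW.ne ?_
              · rw [← map_comap_eq_self_of_surjective hπs N]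
                exact map_mono hW.le
              · rw [e, comap_map_eq, sup_eq_left.2 hkW]
            rw [← sup_eq_left.2 hkW, ← comap_map_eq, hN'.2 _ h1, comap_top]
        rw [← map_comap_eq_self_of_surjective hπs N, huniq _ ⟨hc, ?_⟩]
        exact map_le_iff_le_comap.1 (hTsyl.ge.trans hTN)
      notNormal := fun hn => by
        rw [hTsyl] at hn
        haveI := hn.comap π
        rw [comap_map_eq] at this
        haveI := this
        rcases sit.sup_or (T ⊔ π.ker) with h | h
        · refine Sit.not_le_pCore sit ?_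
          rwa [inf_eq_left.2 (le_sup_left : T ≤ T ⊔ π.ker)] at h
        · rw [sup_assoc, sup_comm π.ker, ← sup_assoc, sup_idem] at h
          exact hTker h
      off := hoff
      strict := fun X hX hXne hXT => by
        obtain ⟨x, hx, hx1⟩ := (X.bot_or_exists_ne_one).resolve_left hXne
        obtain ⟨t, ht, rfl⟩ := hX hx
        have htQ : t ∉ Cfsg.pCore p L := fun h => hx1 ((hπker t).2 fun m _ => hQ t h m)
        have heq : fixS ↥Nt X = fixS ↥Nt (T.map π) := by
          refine le_antisymm (fun a ha => (hfixπ T a).2 ?_) (fixS_mono hX)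
          have := ha _ hx
          rw [hsmul] at this
          exact hfixu t ht htQ _ a.2 (congrArg Subtype.val this)
        rw [heq]
        refine Nat.mul_lt_mul_of_pos_right ?_ Nat.card_pos
        exact lt_of_not_ge fun hge => hXT (eq_of_le_of_card_ge hX hge)
      moved := by
        by_contra! hall
        refine hnfix fun g m hm => ?_
        have hsub : ∀ a ∈ fixS M T, a ∈ Nt → ∀ g : L, g • a = a := by
          intro a ha haN g
          have h1 : (⟨a, haN⟩ : ↥Nt) ∈ fixS ↥Nt (⊤ : Subgroup ↥θ.range) :=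
            hall _ (hTsyl ▸ (hfixπ T _).2 ha)
          have := h1 (π g) (mem_top _)
          rw [hsmul] at this
          exact congrArg Subtype.val this
        rw [hNt] at hm
        obtain ⟨a, ha, b, ⟨c, hc, rfl⟩, rfl⟩ := AddSubgroup.mem_sup.1 hm
        rw [smul_add, hsub a ha (hFN ha) g]
        refine congrArg (a + ·) ?_
        show g • x₀ • c = x₀ • c
        rw [hsub c hc (hFN hc) x₀, hsub c hc (hFN hc) g]
      gen := fun x hx => by
        obtain ⟨y, rfl⟩ := hπs x
        have hy : y ∉ M₀ := fun h => hx (mem_map_of_mem π h)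
        have := congrArg (Subgroup.map π) (hgenT y hy)
        rw [Subgroup.map_sup, map_top_of_surjective π hπs, cj, map_map] at this
        refine (congrArg _ ?_).trans this
        rw [map_map]
        congr 1
        exact MonoidHom.ext fun z => by simp }
  obtain ⟨F, iF, iFf, hF, -, ρ₀, ψ₀, hψs, hψ0, hψ⟩ := hd.natural
  haveI : CharP F p := by
    refine (CharP.charP_iff_prime_eq_zero hpp).2 ?_
    obtain ⟨v, hv⟩ := hψs (Pi.single 0 1)
    have h1 : p • v = 0 := Subtype.ext (by rw [AddSubgroupClass.coe_nsmul, hM]; rfl)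
    have h2 := congrArg (fun f : Fin 2 → F => f 0) (congrArg ψ₀ h1)
    simpa [map_nsmul, hv, map_zero] using h2
  obtain ⟨R₀, hR₀⟩ : ∃ R₀ : Sylow p SL(2, F),
      (R₀ : Subgroup SL(2, F)) = T.map (ρ₀.toMonoidHom.comp π) :=
    ⟨(P.mapSurjective hπs).mapSurjective (f := ρ₀.toMonoidHom) ρ₀.surjective, by
      refine (Sylow.coe_mapSurjective _ _).trans ?_
      rw [hTsyl, map_map]⟩
  have hcardR : Nat.card ↥(R₀ : Subgroup SL(2, F)) = Nat.card F := by
    rw [hR₀, ← map_map, card_map_of_injective (f := ρ₀.toMonoidHom) ρ₀.injective,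
      Nat.card_eq_fintype_card (α := F), hF]
  have hUp : IsPGroup p (upGroup F) := by
    obtain ⟨n, -, hn⟩ := FiniteField.card F p
    refine IsPGroup.of_card (n := n) ?_
    rw [CfsgLib.PushUpTwo.card_upGroup, Nat.card_eq_fintype_card, hn]
  obtain ⟨R, hR⟩ := hUp.exists_le_sylow
  obtain ⟨g, hg⟩ := MulAction.exists_smul_eq SL(2, F) R₀ R
  have hRU : upGroup F = ((R₀ : Subgroup SL(2, F)).map (MulAut.conj g).toMonoidHom) := by
    have hRc : (R : Subgroup SL(2, F)) = (R₀ : Subgroup SL(2, F)).map (MulAut.conj g).toMonoidHom := by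
      rw [← hg, Sylow.coe_subgroup_smul]
      rfl
    rw [← hRc]
    refine eq_of_le_of_card_ge hR ?_
    rw [CfsgLib.PushUpTwo.card_upGroup, hRc, card_map_of_injective (MulAut.conj g).injective, hcardR]
  have hρ1 : ∀ h : L, ((MulAut.conj g).toMonoidHom.comp ρ₀.toMonoidHom).comp π h = 1 ↔ π h = 1 :=
    fun h => by simp only [MonoidHom.coe_comp, Function.comp_apply, MulEquiv.coe_toMonoidHom,
      EmbeddingLike.map_eq_one_iff]
  refine ⟨F, iF, iFf, inferInstance, by rw [hF, hqT, hq], Nt,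
    (fixS ↥Nt (⊤ : Subgroup ↥θ.range)).map Nt.subtype,
    ((MulAut.conj g).toMonoidHom.comp ρ₀.toMonoidHom).comp π,
    AddMonoidHom.mk' (fun v => (g : Matrix (Fin 2) (Fin 2) F).mulVec (ψ₀ v))
      (fun u v => by rw [map_add, Matrix.mulVec_add]), ?_, hN, hIN, ?_, ?_, ?_, ?_, ?_, ?_, ?_, ?_⟩
  · rintro _ ⟨a, -, rfl⟩
    exact a.2
  · rintro h _ ⟨a, ha, rfl⟩
    have := ha (π h) (mem_top _)
    rw [hsmul] at this
    exact congrArg Subtype.val this
  · exact ((MulAut.conj g).surjective.comp ρ₀.surjective).comp hπs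
  · exact fun h => (hρ1 h).trans (hπker h)
  · exact fun t ht h => hkerT t ht ((hρ1 t).1 h)
  · rw [MonoidHom.comp_assoc, ← map_map, hRU, hR₀]
  · intro y
    obtain ⟨v, hv⟩ := hψs ((g⁻¹ : SL(2, F)).1.mulVec y)
    refine ⟨v, ?_⟩
    show (g : Matrix (Fin 2) (Fin 2) F).mulVec (ψ₀ v) = y
    rw [hv, Matrix.mulVec_mulVec, ← Matrix.SpecialLinearGroup.coe_mul, mul_inv_cancel,
      Matrix.SpecialLinearGroup.coe_one, Matrix.one_mulVec]
  · intro v
    show (g : Matrix (Fin 2) (Fin 2) F).mulVec (ψ₀ v) = 0 ↔ _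
    have hinj : (g : Matrix (Fin 2) (Fin 2) F).mulVec (ψ₀ v) = 0 ↔ ψ₀ v = 0 := by
      refine ⟨fun h => ?_, fun h => by rw [h, Matrix.mulVec_zero]⟩
      have := congrArg ((g⁻¹ : SL(2, F)).1.mulVec) h
      rwa [Matrix.mulVec_mulVec, ← Matrix.SpecialLinearGroup.coe_mul, inv_mul_cancel,
        Matrix.SpecialLinearGroup.coe_one, Matrix.one_mulVec, Matrix.mulVec_zero] at this
    rw [hinj, hψ0]
    exact ⟨fun h => ⟨v, h, rfl⟩, fun ⟨a, ha, e⟩ => Subtype.ext (e : (a : M) = v) ▸ ha⟩
  · intro h v w hw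
    show (g : Matrix (Fin 2) (Fin 2) F).mulVec (ψ₀ w) =
      ((g * ρ₀ (π h) * g⁻¹ : SL(2, F)) : Matrix (Fin 2) (Fin 2) F).mulVec
        ((g : Matrix (Fin 2) (Fin 2) F).mulVec (ψ₀ v))
    rw [show w = π h • v from Subtype.ext (by rw [hsmul, hco, hw]), hψ, Matrix.mulVec_mulVec,
      Matrix.mulVec_mulVec, ← Matrix.SpecialLinearGroup.coe_mul,
      ← Matrix.SpecialLinearGroup.coe_mul, inv_mul_cancel_right]

end CfsgLib.PushAmalgam
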