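import Cfsg.Agent.Lib.PushUpTwo.SLFacts

/-!
# Pushing up in rank one: two homomorphisms onto `SL₂` differ by a field automorphism

If two homomorphisms onto `SL₂(F)`, odd characteristic, agree on which elements of two opposite root
subgroups are trivial, and the kernel of the first goes to scalars under the second, then the first
kernel lies in the second.
-/

set_option autoImplicit false
set_option linter.style.haveILetI false
set_option linter.unusedSectionVars false

open Subgroup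
open scoped MatrixGroups
open CfsgLib.PushUpTwo (up lo upGroup slExt slDet up_val lo_val up_mem eq_up_of_mem)

namespace CfsgLib.PushAmalgam

variable {F : Type*} [Field F]

theorem up_add (a b : F) : up (a + b) = up a * up b := by
  refine slExt ?_ ?_ ?_ ?_ <;> simp [up_val, Matrix.mul_apply, Fin.sum_univ_two, add_comm]

theorem up_zero : up (0 : F) = 1 := by
  refine slExt ?_ ?_ ?_ ?_ <;> simp [up_val]

theorem up_inj {a b : F} (h : up a = up b) : a = b := by
  have := congrArg (fun g : SL(2, F) => g.1 0 1) h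
  simpa [up_val] using this

theorem lo_inj {a b : F} (h : lo a = lo b) : a = b := by
  have := congrArg (fun g : SL(2, F) => g.1 1 0) h
  simpa [lo_val] using this

/-- A central element is a scalar of square one. -/
theorem central_scalar {z : SL(2, F)} (hz : ∀ g, Commute z g) :
    z.1 0 1 = 0 ∧ z.1 1 0 = 0 ∧ z.1 1 1 = z.1 0 0 ∧ z.1 0 0 * z.1 0 0 = 1 := by
  have h1 := congrArg (fun x : SL(2, F) => x.1) (hz (up 1)).eq
  have h2 := congrArg (fun x : SL(2, F) => x.1) (hz (lo 1)).eq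
  have a := congrFun (congrFun h1 0) 0
  have b := congrFun (congrFun h1 0) 1
  have c := congrFun (congrFun h2 0) 0
  simp [up_val, lo_val, Matrix.SpecialLinearGroup.coe_mul, Matrix.mul_apply, Fin.sum_univ_two] at a b c
  have hd := slDet z
  rw [c, a] at hd
  have e : z.1 1 1 = z.1 0 0 := by linear_combination -b
  refine ⟨c, a, e, ?_⟩
  rw [e] at hd
  linear_combination hd

/-- The kernel of `ρ` lies in the kernel of `θ`. -/
theorem twist (h2 : (2 : F) ≠ 0) {E : Type*} [Group E] (ρ θ : E →* SL(2, F)) {X Y : Subgroup E}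
    (hgen : X ⊔ Y = ⊤) (hρX : X.map ρ = upGroup F) (hθX : X.map θ = upGroup F)
    (hρY : ∀ y ∈ Y, ∃ a, ρ y = lo a) (hρY' : ∀ a, ∃ y ∈ Y, ρ y = lo a)
    (hθY : ∀ y ∈ Y, ∃ a, θ y = lo a)
    (hX : ∀ x ∈ X, ρ x = 1 ↔ θ x = 1) (hY : ∀ y ∈ Y, ρ y = 1 → θ y = 1)
    (hsc : ∀ c, ρ c = 1 → ∀ g, Commute (θ c) g) : ∀ e, ρ e = 1 → θ e = 1 := by
  classical
  have hlift : ∀ a, ∃ x ∈ X, ρ x = up a := fun a => by
    obtain ⟨x, hx, e⟩ : up a ∈ X.map ρ := hρX ▸ up_mem a
    exact ⟨x, hx, e⟩
  choose xa hxa hρxa using hlift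
  choose ya hya hρya using hρY'
  obtain ⟨f, hf⟩ : ∃ f : F → F, ∀ a, θ (xa a) = up (f a) :=
    ⟨fun a => (θ (xa a)).1 0 1, fun a => eq_up_of_mem (hθX ▸ mem_map_of_mem θ (hxa a))⟩
  obtain ⟨g, hg⟩ : ∃ g : F → F, ∀ b, θ (ya b) = lo (g b) := by
    refine ⟨fun b => (θ (ya b)).1 1 0, fun b => ?_⟩
    obtain ⟨c, hc⟩ := hθY _ (hya b)
    show θ (ya b) = lo ((θ (ya b)).1 1 0)
    rw [hc]
    simp [lo_val]
  have hθx : ∀ x ∈ X, ∀ a, ρ x = up a → θ x = up (f a) := by
    intro x hx a e
    have h1 := (hX _ (mul_mem (inv_mem (hxa a)) hx)).1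
      (by rw [map_mul, map_inv, hρxa, e, inv_mul_cancel])
    rw [map_mul, map_inv, inv_mul_eq_one] at h1
    rw [← h1, hf]
  have hθy : ∀ y ∈ Y, ∀ b, ρ y = lo b → θ y = lo (g b) := by
    intro y hy b e
    have h1 := hY _ (mul_mem (inv_mem (hya b)) hy)
      (by rw [map_mul, map_inv, hρya, e, inv_mul_cancel])
    rw [map_mul, map_inv, inv_mul_eq_one] at h1
    rw [← h1, hg]
  have fadd : ∀ a b, f (a + b) = f a + f b := fun a b => up_inj (by
    rw [← hθx _ (mul_mem (hxa a) (hxa b)) (a + b) (by rw [map_mul, hρxa, hρxa, up_add]),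
      map_mul, hf, hf, up_add])
  have f0 : f 0 = 0 := by
    have := fadd 0 0
    rw [add_zero] at this
    linear_combination -this
  have fne : ∀ a, a ≠ 0 → f a ≠ 0 := fun a ha h => ha (up_inj (by
    rw [← hρxa a, (hX _ (hxa a)).2 (by rw [hf, h, up_zero]), up_zero]))
  have fneg : ∀ a, f (-a) = -f a := fun a => by
    have := fadd a (-a)
    rw [add_neg_cancel, f0] at this
    linear_combination -this
  -- the relations coming from the Weyl elements
  have key : ∀ a, a ≠ 0 → ∀ s, g (-1 / a) = -1 / f a ∧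
      g (-s / (a * a)) = -f s / (f a * f a) := by
    intro a ha
    obtain ⟨e, he⟩ : ∃ e, e = xa a * ya (-1 / a) * xa a := ⟨_, rfl⟩
    have hsr : ∀ s, ρ (e * xa s * e⁻¹ * (ya (-s / (a * a)))⁻¹) = 1 := by
      intro s
      rw [map_mul, map_inv, mul_inv_eq_one, map_mul, map_mul, map_inv, mul_inv_eq_iff_eq_mul, he]
      simp only [map_mul, hρxa, hρya]
      refine slExt ?_ ?_ ?_ ?_ <;>
        simp [up_val, lo_val, Matrix.SpecialLinearGroup.coe_mul, Matrix.mul_apply, Fin.sum_univ_two] <;>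
        field_simp <;> (try simp) <;> ring
    have heq : ∀ s, ∃ z : SL(2, F), (∀ w, Commute z w) ∧
        θ e * up (f s) = z * lo (g (-s / (a * a))) * θ e := by
      intro s
      refine ⟨_, hsc _ (hsr s), ?_⟩
      rw [← hf s, ← hg]
      simp only [map_mul, map_inv]
      group
    obtain ⟨A, hA⟩ : ∃ A, A = f a := ⟨_, rfl⟩
    obtain ⟨B, hB⟩ : ∃ B, B = g (-1 / a) := ⟨_, rfl⟩
    have hM : θ e = up A * lo B * up A := by rw [he, map_mul, map_mul, hf, hg, ← hA, ← hB]
    have hA0 : A ≠ 0 := hA ▸ fne a ha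
    have main : ∀ s, (1 + A * B) * f s = 0 ∧ B * f s = g (-s / (a * a)) * (A * (2 + A * B)) := by
      intro s
      obtain ⟨z, hz, e1⟩ := heq s
      obtain ⟨z01, z10, z11, zsq⟩ := central_scalar hz
      rw [hM] at e1
      have p00 := congrArg (fun x : SL(2, F) => x.1 0 0) e1
      have p01 := congrArg (fun x : SL(2, F) => x.1 0 1) e1
      have p10 := congrArg (fun x : SL(2, F) => x.1 1 0) e1
      have p11 := congrArg (fun x : SL(2, F) => x.1 1 1) e1
      simp [up_val, lo_val, Matrix.SpecialLinearGroup.coe_mul, Matrix.mul_apply, Fin.sum_univ_two,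
        z01, z10, z11] at p00 p01 p10 p11
      have hz1 : z.1 0 0 = 1 := by
        rcases mul_self_eq_one_iff.1 zsq with h | h
        · exact h
        exfalso
        rw [h] at p00 p01
        have h0 : 1 + A * B = 0 := mul_left_cancel₀ h2 (by linear_combination p00)
        have h3 : A * (2 + A * B) = 0 :=
          mul_left_cancel₀ h2 (by linear_combination p01 - f s * h0)
        exact hA0 (by linear_combination h3 - A * h0)
      rw [hz1] at p00 p01 p10 p11
      exact ⟨by linear_combination p01, by linear_combination p11⟩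
    have hAB : 1 + A * B = 0 := (mul_eq_zero.1 (main 1).1).resolve_right (fne 1 one_ne_zero)
    have hB' : B = -1 / A := by field_simp; linear_combination hAB
    intro s
    refine ⟨by rw [← hB, hB', hA], ?_⟩
    have h3 := (main s).2
    rw [← hA, eq_div_iff (mul_ne_zero hA0 hA0)]
    linear_combination (-A) * h3 + (f s - g (-s / (a * a)) * A * A) * hAB
  -- the field automorphism
  obtain ⟨c, hc⟩ : ∃ c, c = f 1 := ⟨_, rfl⟩
  have hc0 : c ≠ 0 := hc ▸ fne 1 one_ne_zero
  obtain ⟨σ, hσ⟩ : ∃ σ : F → F, ∀ a, σ a = f a / c := ⟨_, fun _ => rfl⟩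
  have σadd : ∀ a b, σ (a + b) = σ a + σ b := fun a b => by rw [hσ, hσ, hσ, fadd, add_div]
  have σ0 : σ 0 = 0 := by rw [hσ, f0, zero_div]
  have σ1 : σ 1 = 1 := by rw [hσ, ← hc, div_self hc0]
  have σneg : ∀ a, σ (-a) = -σ a := fun a => by rw [hσ, hσ, fneg, neg_div]
  have σne : ∀ a, a ≠ 0 → σ a ≠ 0 := fun a ha => by
    rw [hσ]; exact div_ne_zero (fne a ha) hc0
  have gσ : ∀ x, g x = σ x / c := by
    intro x
    have h := (key 1 one_ne_zero (-x)).2
    rw [neg_neg, mul_one, div_one, fneg, neg_neg, ← hc] at h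
    rw [h, hσ, div_div]
  have σdiv : ∀ a, a ≠ 0 → ∀ s, σ (s / (a * a)) = σ s / (σ a * σ a) := by
    intro a ha s
    have h := (key a ha s).2
    rw [gσ, show -s / (a * a) = -(s / (a * a)) by ring, σneg] at h
    have hfa := fne a ha
    rw [hσ s, hσ a]
    field_simp at h ⊢
    linear_combination -h
  have σinv : ∀ a, a ≠ 0 → σ (1 / a) = 1 / σ a := by
    intro a ha
    have h := σdiv a ha a
    have hσa := σne a ha
    rw [show a / (a * a) = 1 / a by field_simp] at h
    rw [h]
    field_simp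
  have σsq : ∀ s a, σ (s * (a * a)) = σ s * (σ a * σ a) := by
    intro s a
    by_cases ha : a = 0
    · simp [ha, σ0]
    · have h := σdiv (1 / a) (one_div_ne_zero ha) s
      have hσa := σne a ha
      rw [σinv a ha, show s / (1 / a * (1 / a)) = s * (a * a) by field_simp] at h
      rw [h]
      field_simp
  have σmul : ∀ s a, σ (s * a) = σ s * σ a := by
    intro s a
    have h := σsq s (a + 1)
    rw [show s * ((a + 1) * (a + 1)) = s * (a * a) + (s * a + s * a) + s by ring, σadd, σadd, σadd,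
      σsq, σadd a 1, σ1] at h
    exact mul_left_cancel₀ h2 (by linear_combination h)
  obtain ⟨Φ, hΦ⟩ : ∃ Φ : SL(2, F) →* SL(2, F), ∀ M : SL(2, F),
      (Φ M).1 = !![σ (M.1 0 0), c * σ (M.1 0 1); σ (M.1 1 0) / c, σ (M.1 1 1)] := by
    refine ⟨MonoidHom.mk' (fun M =>
      ⟨!![σ (M.1 0 0), c * σ (M.1 0 1); σ (M.1 1 0) / c, σ (M.1 1 1)], ?_⟩) ?_, fun M => rfl⟩
    · have hd := slDet M
      have e := σadd (M.1 0 0 * M.1 1 1 - M.1 0 1 * M.1 1 0) (M.1 0 1 * M.1 1 0)
      rw [sub_add_cancel, hd, σ1, σmul, σmul] at e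
      simp [Matrix.det_fin_two]
      field_simp
      linear_combination e
    · intro M N
      refine Subtype.ext ?_
      show _ = (!![σ (M.1 0 0), c * σ (M.1 0 1); σ (M.1 1 0) / c, σ (M.1 1 1)] : Matrix (Fin 2) (Fin 2) F) *
        !![σ (N.1 0 0), c * σ (N.1 0 1); σ (N.1 1 0) / c, σ (N.1 1 1)]
      ext i j
      fin_cases i <;> fin_cases j <;>
        simp [Matrix.SpecialLinearGroup.coe_mul, Matrix.mul_apply, Fin.sum_univ_two, σadd, σmul] <;>
        field_simp <;> (try ring)
  have e : θ = Φ.comp ρ := by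
    refine MonoidHom.eq_of_eqOn_dense (s := ((X : Set E) ∪ Y)) ?_ ?_
    · rw [Subgroup.closure_union, Subgroup.closure_eq, Subgroup.closure_eq, hgen]
    rintro x (hx | hx)
    · have hu : ρ x ∈ upGroup F := hρX ▸ mem_map_of_mem ρ hx
      rw [MonoidHom.comp_apply, hθx x hx _ (eq_up_of_mem hu)]
      conv_rhs => rw [eq_up_of_mem hu]
      refine slExt ?_ ?_ ?_ ?_ <;> simp [hΦ, up_val, σ0, σ1, hσ]
      field_simp
    · obtain ⟨b, hb⟩ := hρY x hx
      rw [MonoidHom.comp_apply, hθy x hx b hb, hb, gσ]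
      refine slExt ?_ ?_ ?_ ?_ <;> simp [hΦ, lo_val, σ0, σ1]
  intro x hx
  rw [e, MonoidHom.comp_apply, hx, map_one]

end CfsgLib.PushAmalgam
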