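import Cfsg.Agent.Lib.PushAmalgam.Common
import Cfsg.Agent.Lib.PushAmalgam.Module
import Cfsg.Agent.Lib.PushAmalgam.Twist
import Cfsg.Agent.Lib.PushAmalgam.Gen
import Mathlib.FieldTheory.Finite.GaloisField

/-!
# Pushing up in rank one: two natural factors
-/

set_option autoImplicit false
set_option linter.style.haveILetI false
set_option linter.unusedSectionVars false

open Subgroup
open scoped MatrixGroups commutatorElement Pointwise
open CfsgLib.PushUp (MA cj mem_cj conj_mem_cj cj_mono card_cj ctr Fr Sit)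
open CfsgLib.PushUpTwo (up lo upGroup slExt slDet up_val lo_val up_mem eq_up_of_mem)

namespace CfsgLib.PushAmalgam

universe u

variable {Γ : Type u} [Group Γ] {p : ℕ} [Fact p.Prime]

theorem com_conj {H K : Subgroup Γ} [Finite H] [Finite K] (γ : Γ) (h : Com p H K) :
    Com p (cj γ H) (cj γ K) := by
  intro v hv w hw
  rw [Vo_cj] at hv hw
  obtain ⟨v, hv, rfl⟩ := hv
  obtain ⟨w, hw, rfl⟩ := hw
  exact (h v hv w hw).map _

/-- Conjugates of the four members. -/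
theorem Quad.conj {A B C D e₀ e₁ e₂ : Subgroup Γ} (d : Quad p A B C D e₀ e₁ e₂) (γ : Γ) :
    Quad p (cj γ A) (cj γ B) (cj γ C) (cj γ D) (cj γ e₀) (cj γ e₁) (cj γ e₂) := by
  haveI := d.mA.good.fin
  haveI := d.mB.good.fin
  haveI := d.mC.good.fin
  haveI := d.mD.good.fin
  haveI := finite_cj γ A
  haveI := finite_cj γ B
  haveI := finite_cj γ C
  haveI := finite_cj γ D
  have hn : ∀ {X Y : Subgroup Γ}, ¬ X ≤ normalizer (Y : Set Γ) →
      ¬ cj γ X ≤ normalizer (cj γ Y : Set Γ) := by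
    intro X Y h hle
    refine h fun x hx => mem_normalizer_of_cj ?_
    have h1 := CfsgLib.PushUp.cj_eq_of_mem_normalizer (hle (conj_mem_cj (g := γ) hx))
    rw [← cj_mul, show γ * x * γ⁻¹ * γ = γ * x by group, cj_mul] at h1
    exact map_injective (MulAut.conj γ).injective h1
  have hback : ∀ {X Y : Subgroup Γ} [Finite X] [Finite Y], ¬ Com p X Y → ¬ Com p (cj γ X) (cj γ Y) := by
    intro X Y _ _ h hc
    haveI := finite_cj γ X
    haveI := finite_cj γ Y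
    have h1 := com_conj γ⁻¹ hc
    rw [cj_inv_cj, cj_inv_cj] at h1
    exact h h1
  exact
    { mA := d.mA.conj γ
      mB₀ := d.mB₀.conj γ
      mB := d.mB.conj γ
      mC := d.mC.conj γ
      mC₂ := d.mC₂.conj γ
      mD := d.mD.conj γ
      cAB := com_conj γ d.cAB
      cBC := com_conj γ d.cBC
      cCD := com_conj γ d.cCD
      nAC := hback d.nAC
      nBD := hback d.nBD
      joinB := by rw [← cj_sup, d.joinB]
      joinC := by rw [← cj_sup, d.joinC]
      nfBA := by rw [Vo_cj, Vo_cj, ← cj_sup]; exact hn d.nfBA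
      nfBC := by rw [Vo_cj, Vo_cj, ← cj_sup]; exact hn d.nfBC
      nfCB := by rw [Vo_cj, Vo_cj, ← cj_sup]; exact hn d.nfCB
      nfCD := by rw [Vo_cj, Vo_cj, ← cj_sup]; exact hn d.nfCD
      inner := fun n hn y hy => by
        rw [Vo_cj] at hn hy
        rw [Vo_cj, Vo_cj, ← cj_sup]
        obtain ⟨n, hn, rfl⟩ := hn
        obtain ⟨y, hy, rfl⟩ := hy
        rw [← map_commutatorElement]
        exact mem_map_of_mem _ (d.inner n hn y hy) }

/-- `Q / D` as a module for a group normalizing `Q` and `D ≥ Φ(Q)`. -/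
theorem exists_quotient_layer {L Q D : Subgroup Γ} [Finite Q] (hQp : IsPGroup p Q)
    (hn : L ≤ normalizer (Q : Set Γ)) (hD : Fr Q ≤ D) (hDQ : D ≤ Q)
    (hQD : Q ≤ normalizer (D : Set Γ)) (hLD : L ≤ normalizer (D : Set Γ)) :
    ∃ (M : Type u) (_ : AddCommGroup M) (_ : Finite M) (_ : DistribMulAction ↥L M)
      (π : ↥Q →* Multiplicative M), Function.Surjective π ∧
        (∀ q : ↥Q, π q = 1 ↔ (q : Γ) ∈ D) ∧ (∀ x : M, p • x = 0) ∧
        ∀ (g : ↥L) (q q' : ↥Q), (q' : Γ) = (g : Γ) * q * (g : Γ)⁻¹ →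
          Multiplicative.toAdd (π q') = g • Multiplicative.toAdd (π q) := by
  haveI : (D.subgroupOf Q).Normal := (normal_subgroupOf_iff_le_normalizer hDQ).2 hQD
  have hc : ∀ a b : ↥Q ⧸ D.subgroupOf Q, a * b = b * a := by
    intro a b
    obtain ⟨x, rfl⟩ := QuotientGroup.mk_surjective a
    obtain ⟨y, rfl⟩ := QuotientGroup.mk_surjective b
    rw [← QuotientGroup.mk_mul, ← QuotientGroup.mk_mul, QuotientGroup.eq]
    have := hD (comm_mem_Fr hQp (inv_mem y.2) (inv_mem x.2))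
    simpa [commutatorElement_def, mul_assoc, mem_subgroupOf] using this
  letI : CommGroup (↥Q ⧸ D.subgroupOf Q) :=
    { (inferInstance : Group (↥Q ⧸ D.subgroupOf Q)) with mul_comm := hc }
  obtain ⟨φ, hφ⟩ : ∃ φ : ↥L → ↥Q ≃* ↥Q, ∀ g q, ((φ g q : ↥Q) : Γ) = (g : Γ) * q * (g : Γ)⁻¹ := by
    refine ⟨fun g =>
      { toFun := fun q => ⟨(g : Γ) * q * (g : Γ)⁻¹, mem_normalizer_conj (hn g.2) q.2⟩
        invFun := fun q => ⟨(g : Γ)⁻¹ * q * (g : Γ), mem_normalizer_conj' (hn g.2) q.2⟩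
        left_inv := fun q => Subtype.ext (by simp [mul_assoc])
        right_inv := fun q => Subtype.ext (by simp [mul_assoc])
        map_mul' := fun q r => Subtype.ext (by simp [mul_assoc]) }, fun _ _ => rfl⟩
  obtain ⟨ψ, hψ⟩ : ∃ ψ : ↥L → (↥Q ⧸ D.subgroupOf Q) →* (↥Q ⧸ D.subgroupOf Q),
      ∀ g q, ψ g (QuotientGroup.mk q) = QuotientGroup.mk (φ g q) := by
    refine ⟨fun g => QuotientGroup.map _ _ (φ g).toMonoidHom ?_, fun g q => rfl⟩
    intro x hx
    show ((φ g x : ↥Q) : Γ) ∈ D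
    rw [hφ]
    exact mem_normalizer_conj (hLD g.2) hx
  letI : SMul ↥L (Additive (↥Q ⧸ D.subgroupOf Q)) :=
    ⟨fun g x => Additive.ofMul (ψ g (Additive.toMul x))⟩
  have hs : ∀ (g : ↥L) (x : Additive (↥Q ⧸ D.subgroupOf Q)),
      g • x = Additive.ofMul (ψ g (Additive.toMul x)) := fun _ _ => rfl
  letI : DistribMulAction ↥L (Additive (↥Q ⧸ D.subgroupOf Q)) :=
    { one_smul := fun x => by
        obtain ⟨q, hq⟩ := QuotientGroup.mk_surjective (Additive.toMul x)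
        rw [hs, ← hq, hψ, show φ 1 q = q from Subtype.ext (by simp [hφ]), hq]
        rfl
      mul_smul := fun g h x => by
        obtain ⟨q, hq⟩ := QuotientGroup.mk_surjective (Additive.toMul x)
        rw [hs, hs, hs, ← hq, hψ, hψ, toMul_ofMul, hψ]
        exact congrArg (fun y : ↥Q => Additive.ofMul (QuotientGroup.mk y : ↥Q ⧸ D.subgroupOf Q))
          (Subtype.ext (by simp [hφ, mul_assoc]))
      smul_zero := fun g => by rw [hs, toMul_zero, map_one, ofMul_one]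
      smul_add := fun g x y => by rw [hs, hs, hs, toMul_add, map_mul, ofMul_mul] }
  refine ⟨Additive (↥Q ⧸ D.subgroupOf Q), inferInstance, Finite.of_equiv _ Additive.ofMul, inferInstance,
    MonoidHom.mk' (fun q => Multiplicative.ofAdd (Additive.ofMul (QuotientGroup.mk q : ↥Q ⧸ D.subgroupOf Q)))
      (fun x y => by rw [QuotientGroup.mk_mul, ofMul_mul, ofAdd_add]), fun x => ?_, fun q => ?_, fun x => ?_, fun g q q' h => ?_⟩
  · obtain ⟨q, hq⟩ := QuotientGroup.mk_surjective (Additive.toMul (Multiplicative.toAdd x))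
    refine ⟨q, ?_⟩
    rw [MonoidHom.mk'_apply, hq]
    rfl
  · rw [MonoidHom.mk'_apply, ofAdd_eq_one, ofMul_eq_zero, QuotientGroup.eq_one_iff]
    rfl
  · obtain ⟨q, hq⟩ := QuotientGroup.mk_surjective (Additive.toMul x)
    refine Additive.toMul.injective ?_
    rw [toMul_nsmul, toMul_zero, ← hq, ← QuotientGroup.mk_pow, QuotientGroup.eq_one_iff, mem_subgroupOf,
      SubgroupClass.coe_pow]
    exact hD (pow_mem_Fr hQp q.2)
  · show Additive.ofMul (QuotientGroup.mk q' : ↥Q ⧸ D.subgroupOf Q) =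
      Additive.ofMul (ψ g (QuotientGroup.mk q))
    rw [hψ, show φ g q = q' from Subtype.ext ((hφ g q).trans h.symm)]

section SL

variable {F : Type*} [Field F]

/-- The element exchanging the two root subgroups. -/
def swapSL (F : Type*) [Field F] : SL(2, F) := ⟨!![0, 1; -1, 0], by simp [Matrix.det_fin_two]⟩

theorem swapSL_val : (swapSL F).1 = !![0, 1; -1, 0] := rfl

theorem swapSL_conj (t : F) : swapSL F * up t * (swapSL F)⁻¹ = lo (-t) := by
  refine slExt ?_ ?_ ?_ ?_ <;>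
    simp [swapSL_val, up_val, lo_val, Matrix.SpecialLinearGroup.coe_mul, Matrix.SpecialLinearGroup.coe_inv,
      Matrix.adjugate_fin_two, Matrix.mul_apply, Fin.sum_univ_two]

theorem conj_up_of_zero {g : SL(2, F)} (h : g.1 0 0 = 0) (t : F) :
    g * up t * g⁻¹ = lo (-(t * g.1 1 0 * g.1 1 0)) := by
  have hd := slDet g
  rw [h, zero_mul, zero_sub] at hd
  refine slExt ?_ ?_ ?_ ?_ <;>
    simp [up_val, lo_val, Matrix.SpecialLinearGroup.coe_mul, Matrix.SpecialLinearGroup.coe_inv,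
      Matrix.adjugate_fin_two, Matrix.mul_apply, Fin.sum_univ_two, h] <;>
    (try ring_nf) <;> (try linear_combination hd)

/-- A normal subgroup of `SL₂` meeting `U` trivially inside a proper overgroup of `U` is central. -/
theorem central_of_normal {K W : Subgroup SL(2, F)} (hKn : K.Normal) (hK : K ≤ W)
    (hU : upGroup F ≤ W) (hW : W ≠ ⊤) (hKU : K ⊓ upGroup F = ⊥) {k : SL(2, F)} (hk : k ∈ K)
    (g : SL(2, F)) : Commute k g := by
  have hcomm : ∀ l ∈ K, ∀ t : F, Commute l (up t) := by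
    intro l hl t
    have hN : l ∈ normalizer (upGroup F : Set SL(2, F)) := by
      by_contra hN
      exact hW (CfsgLib.PushUpTwo.eq_top_of_upGroup_le hU (hK hl) hN)
    refine commutatorElement_eq_one_iff_commute.1 (mem_bot.1 (hKU.le (mem_inf.2 ⟨?_, ?_⟩)))
    · rw [show ⁅l, up t⁆ = l * (up t * l⁻¹ * (up t)⁻¹) by rw [commutatorElement_def]; group]
      exact mul_mem hl (hKn.conj_mem _ (inv_mem hl) _)
    · rw [commutatorElement_def]
      exact mul_mem (((mem_normalizer_iff.1 hN) _).1 (up_mem t)) (inv_mem (up_mem t))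
  have hlo : Commute k (lo 1) := by
    have h1 := (hcomm _ (hKn.conj_mem _ hk (swapSL F)⁻¹) (-1)).map (MulAut.conj (swapSL F)).toMonoidHom
    simp only [MulEquiv.coe_toMonoidHom, MulAut.conj_apply, inv_inv] at h1
    rw [swapSL_conj, neg_neg] at h1
    simpa [mul_assoc] using h1
  have htop : centralizer ({k} : Set SL(2, F)) = ⊤ := by
    refine CfsgLib.PushUpTwo.eq_top_of_upGroup_le (fun x hx => ?_) (x := lo 1) ?_
      CfsgLib.PushUpTwo.lo_not_normalizes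
    · rw [eq_up_of_mem hx]
      exact mem_centralizer_singleton_iff.2 (hcomm k hk _).symm.eq
    · exact mem_centralizer_singleton_iff.2 hlo.symm.eq
  exact (mem_centralizer_singleton_iff.1 (htop.ge (mem_top g))).symm

end SL

variable {T H K A B C D e₀ e₂ : Subgroup Γ}

/-- A member of a critical quadruple has two natural factors. -/
theorem case_two (d : Quad p A B C D e₀ T e₂) (mH : Mem p T H) (hV : Vo p H = Vo p B)
    (mK : Mem p T K) (hKQ : Vo p K ≤ Qo p H)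
    (hnf : ¬ H ≤ normalizer ((Vo p H ⊔ Vo p K : Subgroup Γ) : Set Γ))
    (hcard : (Qo p C).relIndex T = (Qo p H).relIndex T) (hp2 : p ≠ 2)
    (hcomm3 : ⁅⁅Fr T, T⁆, T⁆ = ⊥) (hFF : Fr (Fr T) = ⊥) :
    ∃ (F : Type) (_ : Field F) (_ : Fintype F), CharP F p ∧
      Fintype.card F = (Qo p H).relIndex T ∧ ShapeTwo F p ↥H := by
  classical
  have hpp : p.Prime := Fact.out
  haveI := mH.good.fin
  haveI := mH.base.fin
  haveI : Finite ↥(Qo p H) := finite_of_le mH.good.Q_le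
  haveI : Finite ↥(Fr T) := finite_of_le (Fr_le_self T)
  have hQp : IsPGroup p ↥(Qo p H) := mH.base.isp.to_le mH.good.Q_le
  have hQB : Qo p B = Qo p H := by rw [← d.mB.centV, ← hV, mH.centV]
  have hFrn : H ≤ normalizer (Fr (Qo p H) : Set Γ) := mH.good.normQ.trans (normalizer_le_Fr _)
  have hFrQT : Fr (Qo p H) ≤ Fr T := Fr_mono mH.base.isp mH.good.Q_le
  have hFrTp : IsPGroup p ↥(Fr T) := mH.base.isp.to_le (Fr_le_self T)
  have hFelem : ∀ f ∈ Fr (Qo p H), f ^ p = 1 := fun f hf =>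
    mem_bot.1 (hFF.le (pow_mem_Fr hFrTp (hFrQT hf)))
  -- the centralizer of `Φ(Q)`
  obtain ⟨N1, hN1⟩ : ∃ N1, N1 = H ⊓ centralizer (Fr (Qo p H) : Set Γ) := ⟨_, rfl⟩
  have hN1n : H ≤ normalizer (N1 : Set Γ) := by
    rw [hN1]
    refine le_normalizer_inf le_normalizer fun g hg => mem_normalizer_of_cj ?_
    rw [cj_centralizer, CfsgLib.PushUp.cj_eq_of_mem_normalizer (hFrn hg)]
  obtain ⟨y₀, hy₀, hy₀Q⟩ := SetLike.not_le_iff_exists.1 d.VD_notQ
  rw [hQB] at hy₀Q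
  have hN1T : N1 ⊔ T = H := mH.sup_or (hN1 ▸ inf_le_left) hN1n (d.VD_le hy₀)
    (hN1 ▸ mem_inf.2 ⟨mH.good.le (d.VD_le hy₀), mem_centralizer_iff.2 fun f hf =>
      ((d.Fr_QB.2 y₀ hy₀ f (hQB.symm ▸ hf)).symm).eq⟩) hy₀Q
  have hFz : ∀ z ∈ Fr (Qo p H), z ∈ ctr T → z ∈ centralizer (H : Set Γ) := by
    intro z hz hzT
    rw [← hN1T, CfsgLib.CDLat.centralizer_sup]
    exact ⟨le_centralizer_iff.1 (hN1.le.trans inf_le_right) hz, hzT.2⟩
  have hFH : ∀ f ∈ Fr (Qo p H), ∀ g ∈ H, ⁅f, g⁆ ∈ Fr (Qo p H) ⊓ ctr T := by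
    intro f hf g hg
    have hgW : g ∈ N1 ⊔ T := hN1T.ge hg
    rw [← SetLike.mem_coe, coe_mul_of_right_le_normalizer_left _ _ (mH.good.le.trans hN1n)] at hgW
    obtain ⟨m, hm, t, ht, rfl⟩ := hgW
    rw [SetLike.mem_coe, hN1] at hm
    have h1 : ⁅f, t⁆ ∈ Fr (Qo p H) := by
      have := comm_mem (hFrn (mH.good.le ht)) hf
      rw [← commutatorElement_inv]
      exact inv_mem this
    have h2 : ⁅f, t⁆ ∈ ctr T :=
      ⟨Fr_le_self T (hFrQT h1), commutator_eq_bot_iff_le_centralizer.1 hcomm3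
        (commutator_mem_commutator (hFrQT hf) ht)⟩
    have e : ⁅f, m * t⁆ = ⁅f, t⁆ := by
      have c1 : Commute f m := commute_of_cent hm.2 hf
      have c2 : Commute ⁅f, t⁆ m := commute_of_cent hm.2 h1
      calc ⁅f, m * t⁆ = ⁅f, m⁆ * (m * ⁅f, t⁆ * m⁻¹) := by
            simp only [commutatorElement_def]; group
        _ = _ := by
          rw [commutatorElement_eq_one_iff_commute.2 c1, one_mul, ← c2.eq, mul_inv_cancel_right]
    rw [e]
    exact mem_inf.2 ⟨h1, h2⟩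
  obtain ⟨D₁, hD₁⟩ : ∃ D₁, D₁ = Vo p H ⊔ Fr (Qo p H) := ⟨_, rfl⟩
  obtain ⟨A₁, hA₁⟩ : ∃ A₁, A₁ = Vo p H ⊔ Fr (Qo p H) ⊓ ctr T := ⟨_, rfl⟩
  have hD₁Q : D₁ ≤ Qo p H := hD₁ ▸ sup_le mH.V_le_Q (Fr_le_self _)
  have hD₁n : H ≤ normalizer (D₁ : Set Γ) := hD₁ ▸ le_normalizer_sup mH.good.normV hFrn
  have hA₁n : H ≤ normalizer (A₁ : Set Γ) := by
    have h : H ≤ normalizer ((Fr (Qo p H) ⊓ ctr T : Subgroup Γ) : Set Γ) := fun g hg =>
      CfsgLib.PushUp.mem_normalizer_of_forall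
        (fun z hz => by
          rw [(commute_of_cent (hFz z hz.1 hz.2) hg).eq, mul_inv_cancel_right]
          exact hz)
        (fun z hz => by
          rw [mul_assoc, ← (commute_of_cent (hFz z hz.1 hz.2) hg).eq, inv_mul_cancel_left]
          exact hz)
    exact hA₁ ▸ le_normalizer_sup mH.good.normV h
  have hVC : ∀ v ∈ Vo p H, ∀ r ∈ Qo p H, Commute v r := fun v hv r hr =>
    (commute_of_cent (mH.V_cent_Q hv) hr).symm
  have hsplit : ∀ x ∈ D₁, ∃ v ∈ Vo p H, ∃ f ∈ Fr (Qo p H), x = v * f := by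
    intro x hx
    rw [hD₁, ← SetLike.mem_coe, coe_mul_of_left_le_normalizer_right _ _
      ((mH.V_le_Q.trans (Qo_le H)).trans hFrn)] at hx
    obtain ⟨v, hv, f, hf, rfl⟩ := hx
    exact ⟨v, hv, f, hf, rfl⟩
  have hD₁elem : ∀ x ∈ D₁, x ^ p = 1 := by
    intro x hx
    obtain ⟨v, hv, f, hf, rfl⟩ := hsplit x hx
    rw [(hVC v hv f (Fr_le_self _ hf)).mul_pow, mH.elemV hv, hFelem f hf, one_mul]
  -- elements of order prime to `p` centralize `Φ(Q)`
  have hrF : ∀ r ∈ H, (orderOf r).Coprime p → ∀ f ∈ Fr (Qo p H), Commute r f := by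
    intro r hr hcop f hf
    obtain ⟨h1, h2⟩ := mem_inf.1 (hFH f hf r hr)
    refine commutatorElement_eq_one_iff_commute.1 ?_
    have e : ⁅r, f⁆ = ⁅f, r⁆⁻¹ := (commutatorElement_inv f r).symm
    refine comm_eq_one_of_coprime ?_ ?_ hcop
    · rw [e]
      exact (commute_of_cent (hFz _ h1 h2) hr).inv_right
    · rw [e, inv_pow, mH.base.elem _ h2, inv_one]
  -- the module `Q / VΦ(Q)`
  obtain ⟨M, iM, iMf, iA, π, hπ, hπ0, hMp, hπg⟩ :=
    exists_quotient_layer (p := p) hQp mH.good.normQ (hD₁ ▸ le_sup_right : Fr (Qo p H) ≤ D₁) hD₁Q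
      ((Qo_le H).trans hD₁n) hD₁n
  obtain ⟨pt, hpt⟩ : ∃ pt : ↥(Qo p H) → M, ∀ q, pt q = Multiplicative.toAdd (π q) := ⟨_, fun _ => rfl⟩
  have hpt0 : ∀ q, pt q = 0 ↔ (q : Γ) ∈ D₁ := fun q => by rw [hpt, toAdd_eq_zero, hπ0]
  have hsub : ∀ (g : ↥H) (q : ↥(Qo p H)),
      g • pt q - pt q = pt ⟨⁅(g : Γ), (q : Γ)⁆, comm_mem (mH.good.normQ g.2) q.2⟩ := by
    intro g q
    obtain ⟨r, hr⟩ : ∃ r : ↥(Qo p H), (r : Γ) = ⁅(g : Γ), (q : Γ)⁆ :=
      ⟨⟨_, comm_mem (mH.good.normQ g.2) q.2⟩, rfl⟩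
    have h1 := hπg g q (r * q) (by rw [Subgroup.coe_mul, hr, commutatorElement_def]; group)
    rw [map_mul, toAdd_mul] at h1
    simp only [← hpt] at h1
    rw [← h1, add_sub_cancel_right]
    exact congrArg pt (Subtype.ext hr)
  have hQact : ∀ g : ↥H, (g : Γ) ∈ Qo p H → ∀ x : M, g • x = x := by
    intro g hg x
    obtain ⟨q, hq⟩ := hπ (Multiplicative.ofAdd x)
    have e : x = pt q := by rw [hpt, hq]; rfl
    rw [e, ← sub_eq_zero, hsub, hpt0]
    exact hD₁ ▸ mem_sup_right (comm_mem_Fr hQp hg q.2)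
  obtain ⟨P, hP⟩ : ∃ P, P = Qo p H ⊓ Qo p C := ⟨_, rfl⟩
  obtain ⟨I, hI⟩ : ∃ I : AddSubgroup M, ∀ x, x ∈ I ↔ ∃ u : ↥(Qo p H), (u : Γ) ∈ P ∧ pt u = x := by
    refine ⟨Subgroup.toAddSubgroup' ((P.subgroupOf (Qo p H)).map π), fun x => ?_⟩
    constructor
    · rintro ⟨u, hu, e⟩
      exact ⟨u, hu, (hpt u).trans (congrArg Multiplicative.toAdd e)⟩
    · rintro ⟨u, hu, e⟩
      exact ⟨u, hu, Multiplicative.toAdd.injective ((hpt u).symm.trans e)⟩
  have hyP : ∀ y ∈ Vo p D, ∀ u ∈ P, ⁅u, y⁆ ∈ ctr T := by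
    intro y hy u hu
    rw [hP] at hu
    have huT : u ∈ T := mH.good.Q_le hu.1
    have hyT : y ∈ T := d.VD_le hy
    exact mem_inf.2 ⟨mul_mem (mul_mem (mul_mem huT hyT) (inv_mem huT)) (inv_mem hyT),
      centralizer_le d.mC.good.le (d.flip.P_cent hy hu.2)⟩
  have hzP : ctr T ≤ P := hP ▸ hQB ▸ d.ctr₁_le
  have hVP : Vo p B ⊔ Vo p C ≤ P := by
    rw [hP, ← hQB]
    exact sup_le (le_inf d.mB.V_le_Q d.VB_le) (le_inf d.VC_le d.mC.V_le_Q)
  have hydec : ∀ g : ↥H, (g : Γ) ∈ T → ∃ y : ↥H, (y : Γ) ∈ Vo p D ∧ ∀ x : M, g • x = y • x := by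
    intro g hg
    obtain ⟨y, hy, q, hq, e⟩ := d.flip.e₁_eq hg
    rw [hQB] at hq
    refine ⟨⟨y, mH.good.le (d.VD_le hy)⟩, hy, fun x => ?_⟩
    rw [show g = ⟨y, mH.good.le (d.VD_le hy)⟩ * ⟨q, Qo_le H hq⟩ from Subtype.ext e, mul_smul,
      hQact ⟨q, Qo_le H hq⟩ hq x]
  have hImem : ∀ g : ↥H, (g : Γ) ∈ T → ∀ x : M, g • x - x ∈ I := by
    intro g hg x
    obtain ⟨y, hy, hgy⟩ := hydec g hg
    obtain ⟨q, hq⟩ := hπ (Multiplicative.ofAdd x)
    have e : x = pt q := by rw [hpt, hq]; rfl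
    obtain ⟨n, hn, u, hu, hqe⟩ := d.QB_eq (hQB.symm ▸ q.2 : (q : Γ) ∈ Qo p B)
    rw [hgy, e, hsub, hI]
    refine ⟨_, ?_, rfl⟩
    rw [hQB, ← hP] at hu
    show ⁅(y : Γ), (q : Γ)⁆ ∈ P
    have hnT : n ∈ T := d.VA_le_e₁ hn
    have hc : ⁅(y : Γ), u⁆ ∈ ctr T := by
      rw [← commutatorElement_inv]
      exact inv_mem (hyP _ hy u hu)
    rw [hqe, show ⁅(y : Γ), n * u⁆ = ⁅(y : Γ), n⁆ * (n * ⁅(y : Γ), u⁆ * n⁻¹) by
      simp only [commutatorElement_def]; group,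
      show n * ⁅(y : Γ), u⁆ * n⁻¹ = ⁅(y : Γ), u⁆ from
        mul_inv_eq_iff_eq_mul.2 (commute_of_cent hc.2 hnT).eq]
    refine mul_mem ?_ (hzP hc)
    rw [← commutatorElement_inv]
    exact inv_mem (hVP (d.inner n hn _ hy))
  have hfix : ∀ g : ↥H, (g : Γ) ∈ T → ∀ x ∈ I, g • x = x := by
    intro g hg x hx
    obtain ⟨y, hy, hgy⟩ := hydec g hg
    obtain ⟨u, hu, rfl⟩ := (hI x).1 hx
    rw [hgy, ← sub_eq_zero, hsub, hpt0]
    show ⁅(y : Γ), (u : Γ)⁆ ∈ D₁
    rw [← commutatorElement_inv]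
    exact inv_mem (hD₁ ▸ mem_sup_left (mH.facts.zle (hyP _ hy _ hu)))
  have hrelT : (Cfsg.pCore p ↥H).relIndex (T.subgroupOf H) = (Qo p H).relIndex T := by
    rw [pCore_eq, relIndex_subgroupOf mH.good.le]
  have hcardM : Nat.card M ≤ Nat.card I * (Cfsg.pCore p ↥H).relIndex (T.subgroupOf H) := by
    obtain ⟨P', hP'⟩ : ∃ P', P' = P.subgroupOf (Qo p H) := ⟨_, rfl⟩
    have h1 : (P'.map π).index ≤ (Qo p H).relIndex T := by
      refine (Nat.le_of_dvd (Nat.pos_of_ne_zero index_ne_zero_of_finite) (P'.index_map_dvd hπ)).trans ?_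
      rw [hP', ← relIndex, hP, inf_relIndex_left, ← hcard]
      exact relIndex_le_of_le_right mH.good.Q_le (index_ne_zero_of_finite (H := (Qo p C).subgroupOf T))
    have h2 : Nat.card ↥(P'.map π) = Nat.card I := by
      refine Nat.card_congr
        { toFun := fun a => ⟨Multiplicative.toAdd (a : Multiplicative M), ?_⟩
          invFun := fun b => ⟨Multiplicative.ofAdd (b : M), ?_⟩
          left_inv := fun _ => rfl
          right_inv := fun _ => rfl }
      · obtain ⟨u, hu, e⟩ := a.2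
        rw [hI, ← e]
        exact ⟨u, (by rw [hP'] at hu; exact hu), hpt u⟩
      · obtain ⟨u, hu, e⟩ := (hI _).1 b.2
        rw [← e, hpt]
        exact ⟨u, (by rw [hP']; exact hu), rfl⟩
    rw [hrelT, ← Nat.card_congr (Multiplicative.toAdd (α := M)), ← (P'.map π).card_mul_index, h2]
    exact Nat.mul_le_mul_left _ h1
  -- the action is not quadratic everywhere
  have hnt : ¬ ∀ g : ↥H, ∀ x : M, g • (g • x - x) = g • x - x := by
    intro hall
    refine hnf (mH.good.le_of_coprime (le_normalizer_sup mH.T_normV mK.T_normV) fun r hr hcop => ?_)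
    have hrM : ∀ x : M, (⟨r, hr⟩ : ↥H) • x = x := by
      intro x
      obtain ⟨g, hg⟩ : ∃ g : ↥H, g = ⟨r, hr⟩ := ⟨_, rfl⟩
      rw [← hg]
      have hiter : ∀ i : ℕ, g ^ i • x = x + i • (g • x - x) := by
        intro i
        induction i with
        | zero => simp
        | succ i ih =>
          rw [pow_succ', mul_smul, ih, smul_add, succ_nsmul, smul_comm g i, hall g x]
          abel
      have h1 := hiter (orderOf r)
      rw [show g ^ orderOf r = 1 from Subtype.ext (by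
        rw [SubgroupClass.coe_pow, hg]; exact pow_orderOf_eq_one r), one_smul, left_eq_add] at h1
      refine sub_eq_zero.1 (AddMonoid.addOrderOf_eq_one_iff.1 (Nat.eq_one_of_dvd_coprimes hcop
        (addOrderOf_dvd_of_nsmul_eq_zero h1) (addOrderOf_dvd_of_nsmul_eq_zero (hMp _))))
    have key : ∀ w ∈ Qo p H, ⁅r, w⁆ ∈ Vo p H := by
      intro w hw
      have hy : ⁅r, w⁆ ∈ D₁ := by
        have := hsub ⟨r, hr⟩ ⟨w, hw⟩
        rw [hrM, sub_self] at this
        exact (hpt0 _).1 this.symm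
      obtain ⟨y, hydef⟩ : ∃ y, y = ⁅r, w⁆ := ⟨_, rfl⟩
      rw [← hydef] at hy ⊢
      obtain ⟨v, hv, f, hf, hyvf⟩ := hsplit y hy
      obtain ⟨v', hv', hry⟩ : ∃ v' ∈ Vo p H, r * y * r⁻¹ = v' * y := by
        refine ⟨r * v * r⁻¹ * v⁻¹, mul_mem (mem_normalizer_conj (mH.good.normV hr) hv) (inv_mem hv), ?_⟩
        have : r * f * r⁻¹ = f := mul_inv_eq_iff_eq_mul.2 (hrF r hr hcop f hf).eq
        rw [hyvf, show r * (v * f) * r⁻¹ = (r * v * r⁻¹) * (r * f * r⁻¹) by group, this]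
        group
      have hyQ : y ∈ Qo p H := hD₁Q hy
      have hiter : ∀ i : ℕ, ∃ c ∈ Vo p H, r ^ i * w * (r ^ i)⁻¹ = c * y ^ i * w := by
        intro i
        induction i with
        | zero => exact ⟨1, one_mem _, by simp⟩
        | succ i ih =>
          obtain ⟨c, hc, e⟩ := ih
          refine ⟨r * c * r⁻¹ * v' ^ i, mul_mem (mem_normalizer_conj (mH.good.normV hr) hc)
            (pow_mem hv' i), ?_⟩
          calc r ^ (i + 1) * w * (r ^ (i + 1))⁻¹ = r * (r ^ i * w * (r ^ i)⁻¹) * r⁻¹ := by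
                rw [pow_succ']; group
            _ = r * (c * y ^ i * w) * r⁻¹ := by rw [e]
            _ = (r * c * r⁻¹) * (r * y * r⁻¹) ^ i * (r * w * r⁻¹) := by rw [conj_pow]; group
            _ = (r * c * r⁻¹) * (v' ^ i * y ^ i) * (y * w) := by
              rw [hry, (hVC v' hv' y hyQ).mul_pow,
                show r * w * r⁻¹ = y * w by rw [hydef, commutatorElement_def]; group]
            _ = _ := by rw [pow_succ]; group
      obtain ⟨c, hc, e⟩ := hiter (orderOf r)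
      rw [pow_orderOf_eq_one, one_mul, inv_one, mul_one] at e
      have hm : y ^ orderOf r ∈ Vo p H := by
        have h2 : c * y ^ orderOf r = 1 := mul_eq_right.1 e.symm
        rw [eq_inv_of_mul_eq_one_right h2]
        exact inv_mem hc
      have hb := Nat.gcd_eq_gcd_ab (orderOf r) p
      rw [hcop] at hb
      rw [← zpow_one y, show (1 : ℤ) = _ from hb, zpow_add, zpow_mul, zpow_mul, zpow_natCast,
        zpow_natCast, hD₁elem y hy, one_zpow, mul_one]
      exact zpow_mem hm _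
    have hconj : ∀ s ∈ H, (∀ w ∈ Qo p H, ⁅s, w⁆ ∈ Vo p H) → ∀ x ∈ Vo p H ⊔ Vo p K,
        s * x * s⁻¹ ∈ Vo p H ⊔ Vo p K := by
      intro s hs hcs x hx
      refine (sup_le ?_ ?_ : Vo p H ⊔ Vo p K ≤
        (Vo p H ⊔ Vo p K).comap (MulAut.conj s).toMonoidHom) hx
      · exact fun v hv => mem_sup_left (mem_normalizer_conj (mH.good.normV hs) hv)
      · intro w hw
        show s * w * s⁻¹ ∈ Vo p H ⊔ Vo p K
        rw [show s * w * s⁻¹ = ⁅s, w⁆ * w by rw [commutatorElement_def]; group]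
        exact mul_mem (mem_sup_left (hcs w (hKQ hw))) (mem_sup_right hw)
    refine CfsgLib.PushUp.mem_normalizer_of_forall (hconj r hr key) fun x hx => ?_
    have hinv : ∀ w ∈ Qo p H, ⁅r⁻¹, w⁆ ∈ Vo p H := fun w hw => by
      rw [show ⁅r⁻¹, w⁆ = r⁻¹ * ⁅r, w⁆⁻¹ * r by simp only [commutatorElement_def]; group]
      exact mem_normalizer_conj' (mH.good.normV hr) (inv_mem (key w hw))
    simpa using hconj r⁻¹ (inv_mem hr) hinv x hx
  obtain ⟨F₂, iF₂, iF₂f, hchar₂, hcard₂, Nt, Zt, ρ₂, ψ₂, hZN, hN, hIN, hZfix, hρ₂, hρ₂1, hρ₂T, hT₂,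
    hψ₂, hψ₂0, hψ₂h⟩ := exists_natural_section mH.good.sit hMp
      (fun g hg x => hQact g (by rw [pCore_eq] at hg; exact hg) x) (I := I)
      (fun t ht => hImem t ht) (fun t ht => hfix t ht) hcardM hnt
  obtain ⟨F, iF, iFf, hchar, hcardF, ρ, ψ, hρ, hker, hTU, hψ, hψ1, hψh, -⟩ := mH.natural
  refine ⟨F, iF, iFf, hchar, hcardF, ?_⟩
  haveI := hchar
  obtain ⟨ε⟩ : Nonempty (F₂ ≃+* F) := ⟨FiniteField.ringEquivOfCardEq (by rw [hcard₂, hrelT, hcardF])⟩
  obtain ⟨σ, hσ⟩ : ∃ σ : ↥H →* SL(2, F),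
      σ = (Matrix.SpecialLinearGroup.map ε.toRingHom).comp ρ₂ := ⟨_, rfl⟩
  have hσmap : ∀ (M' : SL(2, F₂)) (i j : Fin 2),
      (Matrix.SpecialLinearGroup.map ε.toRingHom M').1 i j = ε (M'.1 i j) := fun _ _ _ => rfl
  have hmapinj : Function.Injective (Matrix.SpecialLinearGroup.map (n := Fin 2) ε.toRingHom) := by
    intro a b h
    refine slExt ?_ ?_ ?_ ?_ <;> exact ε.injective (by rw [← hσmap, ← hσmap, h])
  have hmapsurj : Function.Surjective (Matrix.SpecialLinearGroup.map (n := Fin 2) ε.toRingHom) := by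
    intro a
    refine ⟨Matrix.SpecialLinearGroup.map ε.symm.toRingHom a, ?_⟩
    refine slExt ?_ ?_ ?_ ?_ <;> exact ε.apply_symm_apply _
  have hσs : Function.Surjective σ := hσ ▸ hmapsurj.comp hρ₂
  have hσ1 : ∀ g, σ g = 1 ↔ ρ₂ g = 1 := fun g => by
    rw [hσ, MonoidHom.comp_apply, map_eq_one_iff _ hmapinj]
  have hσT : (T.subgroupOf H).map σ = upGroup F := by
    rw [hσ, ← map_map, hT₂]
    refine le_antisymm ?_ fun x hx => ?_
    · rintro _ ⟨x, ⟨h1, h2, h3⟩, rfl⟩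
      exact ⟨by rw [hσmap, h1, map_one], by rw [hσmap, h2, map_zero], by rw [hσmap, h3, map_one]⟩
    · refine ⟨up (ε.symm (x.1 0 1)), up_mem _, ?_⟩
      conv_rhs => rw [eq_up_of_mem hx]
      refine slExt ?_ ?_ ?_ ?_ <;> simp [up_val]
  -- the two kernels
  obtain ⟨M₀, ⟨hM₀, hTM₀⟩, huniq⟩ := mH.good.sit.uniq
  have hUne : upGroup F ≠ ⊤ := fun e =>
    CfsgLib.PushUpTwo.lo_not_normalizes (F := F) (le_normalizer (e ▸ mem_top _))
  have hkerM : ∀ τ : ↥H →* SL(2, F), Function.Surjective τ →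
      (T.subgroupOf H).map τ = upGroup F → τ.ker ≤ M₀ := by
    intro τ hτ hτT
    have hne : T.subgroupOf H ⊔ τ.ker ≠ ⊤ := fun e => hUne (by
      rw [← hτT, ← map_top_of_surjective τ hτ, ← e, Subgroup.map_sup,
        (Subgroup.map_eq_bot_iff _).2 le_rfl, sup_bot_eq])
    obtain ⟨W, hW, hle⟩ := (eq_top_or_exists_le_coatom _).resolve_left hne
    rw [← huniq W ⟨hW, le_sup_left.trans hle⟩]
    exact le_sup_right.trans hle
  obtain ⟨x₀, hx₀⟩ := hρ (swapSL F)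
  obtain ⟨T', hT'⟩ : ∃ T', T' = cj x₀ (T.subgroupOf H) := ⟨_, rfl⟩
  have hgen : T.subgroupOf H ⊔ T' = ⊤ := by
    by_contra hne
    obtain ⟨W, hW, hle⟩ := (eq_top_or_exists_le_coatom _).resolve_left hne
    have hWM := huniq W ⟨hW, le_sup_left.trans hle⟩
    have hx : x₀ ∈ M₀ :=
      Sit.mem_of_cj_le mH.good.sit hM₀ hTM₀ (hWM ▸ (hT' ▸ le_sup_right.trans hle))
    have h1 : (M₀.map ρ) = ⊤ := CfsgLib.PushUpTwo.eq_top_of_upGroup_le
      (hTU.ge.trans (map_mono hTM₀)) (mem_map_of_mem ρ hx) (fun h => by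
        rw [hx₀] at h
        have := sl_of_mem_normalizer h
        simp [swapSL_val] at this)
    refine hM₀.1 ?_
    rw [← sup_eq_left.2 (hkerM ρ hρ hTU), ← comap_map_eq, h1, comap_top]
  obtain ⟨g₀, hg₀⟩ : ∃ g₀, g₀ = σ x₀ := ⟨_, rfl⟩
  have hg₀N : g₀.1 1 0 ≠ 0 := by
    intro h
    refine hUne ?_
    rw [← map_top_of_surjective σ hσs, ← hgen, Subgroup.map_sup, hσT, sup_eq_left.2]
    rw [hT', cj, map_map]
    rintro _ ⟨t, ht, rfl⟩
    show σ (x₀ * t * x₀⁻¹) ∈ upGroup F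
    rw [map_mul, map_mul, map_inv, ← hg₀]
    exact ((mem_normalizer_iff.1 (sl_mem_normalizer h)) _).1 (hσT ▸ mem_map_of_mem σ ht)
  obtain ⟨s, hs⟩ : ∃ s, s = -(g₀.1 0 0 / g₀.1 1 0) := ⟨_, rfl⟩
  obtain ⟨τ, hτ⟩ : ∃ τ, τ = (MulAut.conj (up s)).toMonoidHom.comp σ := ⟨_, rfl⟩
  have hτa : ∀ g, τ g = up s * σ g * (up s)⁻¹ := fun g => by rw [hτ]; rfl
  have hτs : Function.Surjective τ := hτ ▸ (MulAut.conj (up s)).surjective.comp hσs
  have hτ1 : ∀ g, τ g = 1 ↔ ρ₂ g = 1 := fun g => by rw [hτa, conj_eq_one_iff, hσ1]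
  have hτT : (T.subgroupOf H).map τ = upGroup F := by
    rw [hτ, ← map_map, hσT]
    refine le_antisymm ?_ fun x hx => ⟨x, hx, ?_⟩
    · rintro _ ⟨x, hx, rfl⟩
      exact mul_mem (mul_mem (up_mem s) hx) (inv_mem (up_mem s))
    · show up s * x * (up s)⁻¹ = x
      rw [eq_up_of_mem hx, mul_inv_eq_iff_eq_mul, ← up_add, ← up_add, add_comm]
  have htw : ∀ g : ↥H, ρ g = 1 → τ g = 1 := by
    refine twist ?_ ρ τ hgen hTU hτT ?_ ?_ ?_ ?_ ?_ ?_
    · intro h
      have h' : ((2 : ℕ) : F) = 0 := by exact_mod_cast h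
      exact hp2 ((Nat.prime_dvd_prime_iff_eq hpp Nat.prime_two).1 ((CharP.cast_eq_zero_iff F p 2).1 h'))
    · rw [hT']
      rintro _ ⟨t, ht, rfl⟩
      refine ⟨-((ρ t).1 0 1), ?_⟩
      show ρ (x₀ * t * x₀⁻¹) = _
      have hu : ρ t ∈ upGroup F := hTU.le (mem_map_of_mem ρ ht)
      rw [map_mul, map_mul, map_inv, hx₀, eq_up_of_mem hu, swapSL_conj]
      simp [up_val]
    · intro a
      obtain ⟨t, ht, e⟩ : up (-a) ∈ (T.subgroupOf H).map ρ := hTU ▸ up_mem (-a)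
      refine ⟨_, hT' ▸ conj_mem_cj (g := x₀) ht, ?_⟩
      rw [map_mul, map_mul, map_inv, hx₀, e, swapSL_conj, neg_neg]
    · rw [hT']
      rintro _ ⟨t, ht, rfl⟩
      have hc : (up s * g₀).1 0 0 = 0 := by
        simp [up_val, Matrix.SpecialLinearGroup.coe_mul, Matrix.mul_apply, Fin.sum_univ_two, hs]
        field_simp
        ring
      refine ⟨-((σ t).1 0 1 * (up s * g₀).1 1 0 * (up s * g₀).1 1 0), ?_⟩
      rw [← conj_up_of_zero hc, ← eq_up_of_mem (hσT ▸ mem_map_of_mem σ ht)]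
      show τ (x₀ * t * x₀⁻¹) = _
      rw [hτa, map_mul, map_mul, map_inv, ← hg₀]
      group
    · intro t ht
      rw [hτ1]
      constructor
      · intro h
        have h2 : (t : Γ) ∈ Qo p H := by
          refine mH.centV.le ⟨ht, ?_⟩
          have : t ∈ ρ.ker := h
          rw [hker] at this
          exact this
        rw [hρ₂1]
        exact fun x _ => hQact t h2 x
      · intro h
        have h2 := hρ₂T t ht h
        rw [pCore_eq] at h2
        rw [← MonoidHom.mem_ker, hker]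
        exact mH.Q_cent_V h2
    · rw [hT']
      rintro _ ⟨t, ht, rfl⟩ h
      have e : (MulAut.conj x₀).toMonoidHom t = x₀ * t * x₀⁻¹ := rfl
      rw [e, map_mul, map_mul, map_inv, conj_eq_one_iff] at h ⊢
      have h2 : (t : Γ) ∈ Qo p H := by
        refine mH.centV.le ⟨ht, ?_⟩
        have : t ∈ ρ.ker := h
        rw [hker] at this
        exact this
      rw [hτ1, hρ₂1]
      exact fun x _ => hQact t h2 x
    · intro c hc g
      refine central_of_normal (K := ρ.ker.map τ) (W := M₀.map τ)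
        (Subgroup.Normal.map inferInstance _ hτs) (map_mono (hkerM ρ hρ hTU))
        (hτT.ge.trans (map_mono hTM₀)) (fun e => hM₀.1 (by
          rw [← sup_eq_left.2 (hkerM τ hτs hτT), ← comap_map_eq, e, comap_top])) ?_
        (mem_map_of_mem τ hc) g
      refine eq_bot_iff.2 fun x hx => ?_
      obtain ⟨⟨c, hc, rfl⟩, hxU⟩ := mem_inf.1 hx
      rw [← hτT] at hxU
      obtain ⟨t, ht, hte⟩ := hxU
      have hxp : τ c ^ p = 1 := by
        rw [← hte, ← map_pow, hτ1, hρ₂1]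
        exact fun x _ => hQact (t ^ p) (by
          rw [SubgroupClass.coe_pow]; exact mH.facts.pow _ ht) x
      obtain ⟨k, m, hm, e⟩ := Nat.exists_eq_pow_mul_and_not_dvd (orderOf_pos c).ne' p hpp.ne_one
      have hcV : (c : Γ) ∈ H ⊓ centralizer (Vo p H : Set Γ) := by
        rw [SetLike.mem_coe, hker] at hc
        exact mem_inf.2 ⟨c.2, hc⟩
      have h1 : ((c ^ m : ↥H) : Γ) ∈ Qo p H := by
        rw [SubgroupClass.coe_pow]
        refine mH.good.pElem_mem inf_le_left (le_normalizer_inf le_normalizer fun g hg => ?_)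
          (fun x hx => mH.centV.le ⟨hx.1, hx.2.2⟩) (pow_mem hcV m) (k := k) ?_
        · refine mem_normalizer_of_cj ?_
          rw [cj_centralizer, CfsgLib.PushUp.cj_eq_of_mem_normalizer (mH.good.normV hg)]
        · rw [← pow_mul, mul_comm, ← e, ← SubgroupClass.coe_pow, pow_orderOf_eq_one]
          rfl
      have h2 : τ c ^ m = 1 := by
        rw [← map_pow, hτ1, hρ₂1]
        exact fun x _ => hQact (c ^ m) h1 x
      rw [mem_bot]
      exact orderOf_eq_one_iff.1 (Nat.eq_one_of_dvd_coprimes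
        ((hpp.coprime_iff_not_dvd.2 hm).symm) (orderOf_dvd_of_pow_eq_one h2)
        (orderOf_dvd_of_pow_eq_one hxp))
  -- both kernels are `Q`
  have hkerQ : ρ.ker = (Qo p H).subgroupOf H := by
    refine le_antisymm (map_le_iff_le_comap.1 ?_) (hker ▸ comap_mono mH.Q_cent_V)
    refine mH.good.kernel_le (map_subtype_le _) ?_ ?_ ?_
    · exact (normal_subgroupOf_iff_le_normalizer (map_subtype_le _)).1 (by
        rw [← comap_subtype, comap_map_eq_self_of_injective H.subtype_injective]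
        infer_instance)
    · rintro _ ⟨hxT, c, hc, rfl⟩
      rw [SetLike.mem_coe, hker] at hc
      exact mH.centV.le ⟨hxT, hc⟩
    rintro _ ⟨c, hc, rfl⟩ hcop w hw
    have hc2 : ∀ x ∈ Nt, c • x = x := (hρ₂1 c).1 ((hτ1 c).1 (htw c hc))
    rw [SetLike.mem_coe, hker] at hc
    obtain ⟨x, hx⟩ : ∃ x, x = pt ⟨w, hw⟩ := ⟨_, rfl⟩
    have hiter : ∀ i : ℕ, c ^ i • x = x + i • (c • x - x) := by
      intro i
      induction i with
      | zero => simp
      | succ i ih =>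
        rw [pow_succ', mul_smul, ih, smul_add, succ_nsmul, smul_comm c i, hc2 _ (hIN c x)]
        abel
    have h1 := hiter (orderOf c)
    rw [pow_orderOf_eq_one, one_smul, left_eq_add] at h1
    have hfixx : c • x - x = 0 := by
      refine AddMonoid.addOrderOf_eq_one_iff.1 (Nat.eq_one_of_dvd_coprimes ?_
        (addOrderOf_dvd_of_nsmul_eq_zero h1) (addOrderOf_dvd_of_nsmul_eq_zero (hMp _)))
      rwa [← Subgroup.orderOf_coe]
    rw [hx, hsub, hpt0] at hfixx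
    obtain ⟨v, hv, f, hf, e⟩ := hsplit _ hfixx
    refine commutatorElement_eq_one_iff_commute.1 (comm_eq_one_of_coprime ?_ (hD₁elem _ hfixx) hcop)
    show Commute (c : Γ) ⁅(c : Γ), w⁆
    rw [show ⁅(c : Γ), w⁆ = v * f from e]
    exact ((commute_of_cent hc hv).symm).mul_right (hrF c c.2 hcop f hf)
  have hkerτ : τ.ker = (Qo p H).subgroupOf H := by
    have hle : ρ.ker ≤ τ.ker := fun g hg => htw g hg
    rw [← hkerQ]
    refine (eq_of_le_of_card_ge hle (le_of_eq ?_)).symm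
    have h1 := (τ.ker).card_mul_index
    have h2 := (ρ.ker).card_mul_index
    rw [index_ker, MonoidHom.range_eq_top.2 hτs] at h1
    rw [index_ker, MonoidHom.range_eq_top.2 hρ, ← h1] at h2
    exact (Nat.eq_of_mul_eq_mul_right Nat.card_pos h2).symm
  -- the series
  obtain ⟨Z₂, hZ₂⟩ : ∃ Z₂ : Subgroup Γ, ∀ x, x ∈ Z₂ ↔ ∃ hx : x ∈ Qo p H, pt ⟨x, hx⟩ ∈ Nt := by
    refine ⟨((AddSubgroup.toSubgroup Nt).comap π).map (Qo p H).subtype, fun x => ?_⟩
    constructor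
    · rintro ⟨q, hq, rfl⟩
      exact ⟨q.2, by rw [hpt]; exact hq⟩
    · rintro ⟨hx, h⟩
      rw [hpt] at h
      exact ⟨⟨x, hx⟩, h, rfl⟩
  obtain ⟨W₂, hW₂⟩ : ∃ W₂ : Subgroup Γ, ∀ x, x ∈ W₂ ↔ ∃ hx : x ∈ Qo p H, pt ⟨x, hx⟩ ∈ Zt := by
    refine ⟨((AddSubgroup.toSubgroup Zt).comap π).map (Qo p H).subtype, fun x => ?_⟩
    constructor
    · rintro ⟨q, hq, rfl⟩
      exact ⟨q.2, by rw [hpt]; exact hq⟩
    · rintro ⟨hx, h⟩
      rw [hpt] at h
      exact ⟨⟨x, hx⟩, h, rfl⟩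
  have hn_of : ∀ {X : Subgroup Γ} {S' : AddSubgroup M},
      (∀ x, x ∈ X ↔ ∃ hx : x ∈ Qo p H, pt ⟨x, hx⟩ ∈ S') →
      (∀ g : ↥H, ∀ x ∈ S', g • x ∈ S') → H ≤ normalizer (X : Set Γ) := by
    intro X S' hX hS' g hg
    have key : ∀ g : Γ, g ∈ H → ∀ x ∈ X, g * x * g⁻¹ ∈ X := by
      intro g hg x hx
      obtain ⟨hxQ, hxS⟩ := (hX x).1 hx
      refine (hX _).2 ⟨mem_normalizer_conj (mH.good.normQ hg) hxQ, ?_⟩
      have := hπg ⟨g, hg⟩ ⟨x, hxQ⟩ ⟨g * x * g⁻¹, mem_normalizer_conj (mH.good.normQ hg) hxQ⟩ rfl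
      rw [← hpt, ← hpt] at this
      rw [this]
      exact hS' _ _ hxS
    exact CfsgLib.PushUp.mem_normalizer_of_forall (key g hg)
      fun x hx => by simpa using key g⁻¹ (inv_mem hg) x hx
  have hZ₂Q : Z₂ ≤ Qo p H := fun x hx => ((hZ₂ x).1 hx).1
  have hW₂Z : W₂ ≤ Z₂ := fun x hx => by
    obtain ⟨h1, h2⟩ := (hW₂ x).1 hx
    exact (hZ₂ x).2 ⟨h1, hZN h2⟩
  have hD₁W : D₁ ≤ W₂ := fun x hx => (hW₂ x).2 ⟨hD₁Q hx, by
    rw [(hpt0 ⟨x, hD₁Q hx⟩).2 hx]; exact Zt.zero_mem⟩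
  obtain ⟨ν, hν⟩ : ∃ ν : ↥Z₂ →* Multiplicative ↥Nt, ∀ z : ↥Z₂,
      ((Multiplicative.toAdd (ν z) : ↥Nt) : M) = pt ⟨z, hZ₂Q z.2⟩ := by
    refine ⟨MonoidHom.mk' (fun z => Multiplicative.ofAdd ⟨pt ⟨z, hZ₂Q z.2⟩, ((hZ₂ z).1 z.2).2⟩)
      fun a b => ?_, fun _ => rfl⟩
    rw [← ofAdd_add]
    refine congrArg Multiplicative.ofAdd (Subtype.ext ?_)
    show pt _ = pt _ + pt _
    rw [hpt, hpt, hpt, ← toAdd_mul, ← map_mul]
    rfl
  have hνs : Function.Surjective ν := by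
    intro a
    obtain ⟨q, hq⟩ := hπ (Multiplicative.ofAdd ((Multiplicative.toAdd a : ↥Nt) : M))
    have e : pt q = ((Multiplicative.toAdd a : ↥Nt) : M) := by rw [hpt, hq]; rfl
    refine ⟨⟨q, (hZ₂ _).2 ⟨q.2, e ▸ (Multiplicative.toAdd a).2⟩⟩,
      Multiplicative.toAdd.injective (Subtype.ext ?_)⟩
    rw [hν]
    exact e
  have hψeq : ∀ (x : Fin 2 → F₂) (g : SL(2, F₂)), (fun i => ε (g.1.mulVec x i)) =
      (Matrix.SpecialLinearGroup.map ε.toRingHom g).1.mulVec (fun i => ε (x i)) := by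
    intro x g
    funext i
    simp [Matrix.mulVec, dotProduct, Fin.sum_univ_two, hσmap]
  obtain ⟨ψ', hψ'⟩ : ∃ ψ' : ↥Z₂ →* Multiplicative (Fin 2 → F), ∀ z,
      Multiplicative.toAdd (ψ' z) =
        (up s).1.mulVec (fun i => ε (ψ₂ (Multiplicative.toAdd (ν z)) i)) := by
    refine ⟨MonoidHom.mk' (fun z => Multiplicative.ofAdd
      ((up s).1.mulVec (fun i => ε (ψ₂ (Multiplicative.toAdd (ν z)) i)))) fun a b => ?_, fun _ => rfl⟩
    rw [← ofAdd_add, ← Matrix.mulVec_add]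
    refine congrArg (fun f => Multiplicative.ofAdd ((up s).1.mulVec f)) (funext fun i => ?_)
    rw [map_mul, toAdd_mul, map_add, Pi.add_apply, Pi.add_apply, map_add]
  have hupinj : ∀ a b : Fin 2 → F, (up s).1.mulVec a = (up s).1.mulVec b → a = b := fun a b h => by
    have := congrArg ((up s)⁻¹ : SL(2, F)).1.mulVec h
    rwa [Matrix.mulVec_mulVec, Matrix.mulVec_mulVec, ← Matrix.SpecialLinearGroup.coe_mul,
      inv_mul_cancel, Matrix.SpecialLinearGroup.coe_one, Matrix.one_mulVec, Matrix.one_mulVec] at this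
  have hstep2 : NatStep F p (Z₂.subgroupOf H) (W₂.subgroupOf H) := by
    refine natStep_mk hZ₂Q hW₂Z (hn_of hZ₂ hN) (hn_of hW₂ fun g x hx => by rw [hZfix g x hx]; exact hx)
      τ ψ' hτs hkerτ ?_ ?_ ?_
    · intro y
      obtain ⟨z, hz⟩ := hψ₂ fun i => ε.symm (((up s)⁻¹ : SL(2, F)).1.mulVec (Multiplicative.toAdd y) i)
      obtain ⟨q, hq⟩ := hνs (Multiplicative.ofAdd z)
      refine ⟨q, Multiplicative.toAdd.injective ?_⟩
      rw [hψ', hq, toAdd_ofAdd, hz]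
      simp only [RingEquiv.apply_symm_apply]
      rw [Matrix.mulVec_mulVec, ← Matrix.SpecialLinearGroup.coe_mul, mul_inv_cancel,
        Matrix.SpecialLinearGroup.coe_one, Matrix.one_mulVec]
    · intro z
      rw [← toAdd_eq_zero, hψ']
      constructor
      · intro h
        have h2 := hupinj _ 0 (by rw [h, Matrix.mulVec_zero])
        have h3 : ψ₂ (Multiplicative.toAdd (ν z)) = 0 := funext fun i => ε.injective (by
          rw [Pi.zero_apply, map_zero]; exact congrFun h2 i)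
        have h4 := (hψ₂0 _).1 h3
        rw [hν] at h4
        exact (hW₂ _).2 ⟨hZ₂Q z.2, h4⟩
      · intro h
        have h4 : ((Multiplicative.toAdd (ν z) : ↥Nt) : M) ∈ Zt := by
          rw [hν]; exact ((hW₂ _).1 h).2
        rw [(hψ₂0 _).2 h4]
        rw [show (fun i => ε ((0 : Fin 2 → F₂) i)) = 0 from funext fun i => by simp, Matrix.mulVec_zero]
    · intro g v w hw
      have hgv : ((Multiplicative.toAdd (ν w) : ↥Nt) : M) =
          g • ((Multiplicative.toAdd (ν v) : ↥Nt) : M) := by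
        rw [hν, hν, hpt, hpt]
        exact hπg g ⟨v, hZ₂Q v.2⟩ ⟨w, hZ₂Q w.2⟩ hw
      rw [hψ', hψ', hψ₂h g _ _ hgv, hψeq, hτa, hσ, MonoidHom.comp_apply, Matrix.mulVec_mulVec,
        Matrix.mulVec_mulVec, ← Matrix.SpecialLinearGroup.coe_mul, ← Matrix.SpecialLinearGroup.coe_mul,
        inv_mul_cancel_right]
  have hCn : H ≤ normalizer ((Vo p H ⊓ centralizer (H : Set Γ) : Subgroup Γ) : Set Γ) :=
    le_normalizer_inf mH.good.normV fun g hg => mem_normalizer_of_cj (by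
      rw [cj_centralizer, mH.good.cjH hg])
  have hstep1 := natStep_mk (Y := Vo p H) (Y' := Vo p H ⊓ centralizer (H : Set Γ)) mH.V_le_Q
    inf_le_left mH.good.normV hCn ρ ψ hρ hkerQ hψ
    (fun v => (hψ1 v).trans ⟨fun h => mem_inf.2 ⟨v.2, h⟩, fun h => h.2⟩) hψh
  have hA₁Q : A₁ ≤ Qo p H := hA₁ ▸ sup_le mH.V_le_Q (inf_le_left.trans (Fr_le_self _))
  refine ⟨_, _, A₁.subgroupOf H, D₁.subgroupOf H, _, _, hstep1, hstep2,
    (normal_subgroupOf_iff_le_normalizer (hA₁Q.trans (Qo_le H))).2 hA₁n,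
    (normal_subgroupOf_iff_le_normalizer (hD₁Q.trans (Qo_le H))).2 hD₁n,
    comap_mono (hA₁ ▸ le_sup_left),
    comap_mono (hA₁ ▸ hD₁ ▸ sup_le_sup_left inf_le_left _), comap_mono hD₁W, ?_, ?_, ?_, ?_, ?_⟩
  · refine eq_bot_iff.2 ((commutator_top_subgroupOf (Y' := ⊥) fun y hy g hg => ?_).trans ?_)
    · exact mem_bot.2 (commutatorElement_eq_one_iff_commute.2 (commute_of_cent hy.2 hg).symm)
    · rw [bot_subgroupOf]
  · refine commutator_top_subgroupOf fun y hy g hg => ?_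
    rw [hA₁, ← SetLike.mem_coe, coe_mul_of_left_le_normalizer_right] at hy
    swap
    · exact fun v hv => CfsgLib.PushUp.mem_normalizer_of_forall
        (fun z hz => by
          rw [(hVC v hv z (Fr_le_self _ hz.1)).eq, mul_inv_cancel_right]; exact hz)
        (fun z hz => by
          rw [mul_assoc, ← (hVC v hv z (Fr_le_self _ hz.1)).eq, inv_mul_cancel_left]; exact hz)
    obtain ⟨v, hv, z, ⟨hz1, hz2⟩, rfl⟩ := hy
    rw [show ⁅v * z, g⁆ = v * ⁅z, g⁆ * v⁻¹ * ⁅v, g⁆ by simp only [commutatorElement_def]; group,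
      commutatorElement_eq_one_iff_commute.2 (commute_of_cent (hFz z hz1 hz2) hg).symm, mul_one,
      mul_inv_cancel, one_mul, ← commutatorElement_inv]
    exact inv_mem (comm_mem (mH.good.normV hg) hv)
  · refine commutator_top_subgroupOf fun y hy g hg => ?_
    obtain ⟨v, hv, f, hf, rfl⟩ := hsplit y hy
    rw [show ⁅v * f, g⁆ = v * ⁅f, g⁆ * v⁻¹ * ⁅v, g⁆ by simp only [commutatorElement_def]; group,
      ← commutatorElement_inv g v]
    exact hA₁ ▸ mul_mem (mul_mem (mul_mem (mem_sup_left hv) (mem_sup_right (hFH f hf g hg)))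
      (inv_mem (mem_sup_left hv))) (inv_mem (mem_sup_left (comm_mem (mH.good.normV hg) hv)))
  · refine commutator_top_subgroupOf fun y hy g hg => ?_
    obtain ⟨hyQ, hyZ⟩ := (hW₂ y).1 hy
    rw [← commutatorElement_inv]
    refine inv_mem ((hpt0 ⟨_, comm_mem (mH.good.normQ hg) hyQ⟩).1 ?_)
    rw [← hsub ⟨g, hg⟩ ⟨y, hyQ⟩, hZfix _ _ hyZ, sub_self]
  · rw [pCore_eq]
    refine commutator_top_subgroupOf fun q hq g hg => ?_
    rw [← commutatorElement_inv]
    refine inv_mem ((hZ₂ _).2 ⟨comm_mem (mH.good.normQ hg) hq, ?_⟩)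
    rw [← hsub ⟨g, hg⟩ ⟨q, hq⟩]
    exact hIN _ _

end CfsgLib.PushAmalgam
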