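import Cfsg.Agent.Lib.PushAmalgam.Main

/-!
# Pushing up in rank one: the universal group

Every finite group containing `S` embeds into `Sym(S × ℕ)` extending left translation of `S`, and every
automorphism of `S` is induced by an element normalizing `S` there.
-/

set_option autoImplicit false
set_option linter.style.haveILetI false
set_option linter.unusedSectionVars false

open Subgroup
open scoped commutatorElement Pointwise
open CfsgLib.PushUp (MA cj mem_cj conj_mem_cj cj_mono card_cj ctr Fr Sit)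

namespace CfsgLib.PushAmalgam

universe u

variable {S : Type u} [Group S]

/-- Left translation on `S × ℕ`. -/
def emb (S : Type u) [Group S] : S →* Equiv.Perm (S × ℕ) where
  toFun s := Equiv.prodCongr (Equiv.mulLeft s) (Equiv.refl ℕ)
  map_one' := by ext x <;> simp
  map_mul' s t := by ext x <;> simp [mul_assoc]

theorem emb_apply (s : S) (x : S × ℕ) : emb S s x = (s * x.1, x.2) := rfl

theorem emb_injective : Function.Injective (emb S) := fun s t h => by
  have := congrArg (fun f : Equiv.Perm (S × ℕ) => (f (1, 0)).1) h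
  simpa [emb_apply] using this

theorem exists_conj_aut (φ : S ≃* S) : ∃ γ : Equiv.Perm (S × ℕ), ∀ s, γ * emb S s * γ⁻¹ = emb S (φ s) := by
  refine ⟨Equiv.prodCongr φ.toEquiv (Equiv.refl ℕ), fun s => ?_⟩
  rw [mul_inv_eq_iff_eq_mul]
  ext x <;> simp [emb_apply, Equiv.Perm.mul_apply]

theorem exists_extension {G : Type u} [Group G] [Finite G] (τ : S →* G) (hτ : Function.Injective τ) :
    ∃ j : G →* Equiv.Perm (S × ℕ), Function.Injective j ∧ ∀ s, j (τ s) = emb S s := by
  classical
  haveI : Encodable (G ⧸ τ.range) := Encodable.ofCountable _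
  haveI : Infinite ((G ⧸ τ.range) × ℕ) := inferInstance
  letI := Denumerable.ofEncodableOfInfinite ((G ⧸ τ.range) × ℕ)
  obtain ⟨enc⟩ : Nonempty ((G ⧸ τ.range) × ℕ ≃ ℕ) := ⟨Denumerable.eqv _⟩
  obtain ⟨inv, hinv⟩ : ∃ inv : τ.range → S, ∀ y, τ (inv y) = y :=
    ⟨fun y => y.2.choose, fun y => y.2.choose_spec⟩
  have hmem : ∀ x : G, (QuotientGroup.mk x : G ⧸ τ.range).out⁻¹ * x ∈ τ.range := fun x =>
    QuotientGroup.eq.1 (QuotientGroup.out_eq' (QuotientGroup.mk x))
  obtain ⟨e, he⟩ : ∃ e : G × ℕ ≃ S × ℕ, ∀ t m,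
      e.symm (t, m) = ((enc.symm m).1.out * (τ t)⁻¹, (enc.symm m).2) := by
    refine ⟨
      { toFun := fun x => ((inv ⟨_, hmem x.1⟩)⁻¹, enc (QuotientGroup.mk x.1, x.2))
        invFun := fun x => ((enc.symm x.2).1.out * (τ x.1)⁻¹, (enc.symm x.2).2)
        left_inv := fun x => ?_
        right_inv := fun x => ?_ }, fun t m => rfl⟩
    · simp only [Equiv.symm_apply_apply, map_inv, hinv, inv_inv, mul_inv_cancel_left, Prod.mk.eta]
    · have hq : (QuotientGroup.mk ((enc.symm x.2).1.out * (τ x.1)⁻¹) : G ⧸ τ.range) =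
          (enc.symm x.2).1 := by
        conv_rhs => rw [← QuotientGroup.out_eq' (enc.symm x.2).1]
        rw [QuotientGroup.eq]
        refine ⟨x.1, ?_⟩
        group
      refine Prod.ext ?_ ?_
      · refine hτ ?_
        simp only [map_inv, hinv, hq]
        group
      · simp only [hq, Prod.mk.eta, Equiv.apply_symm_apply]
  obtain ⟨rg, hrg⟩ : ∃ rg : G →* Equiv.Perm (G × ℕ), ∀ g x, rg g x = (x.1 * g⁻¹, x.2) := by
    refine ⟨{ toFun := fun g => Equiv.prodCongr (Equiv.mulRight g⁻¹) (Equiv.refl ℕ)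
              map_one' := by ext x <;> simp
              map_mul' := fun g h => by ext x <;> simp [mul_assoc] }, fun _ _ => rfl⟩
  refine ⟨MonoidHom.comp e.permCongrHom.toMonoidHom rg, e.permCongrHom.injective.comp fun g h hgh => ?_, fun s => ?_⟩
  · have := congrArg (fun f : Equiv.Perm (G × ℕ) => (f (1, 0)).1) hgh
    simpa [hrg] using this
  · refine Equiv.ext fun x => ?_
    show e (rg (τ s) (e.symm x)) = emb S s x
    rw [emb_apply, Equiv.apply_eq_iff_eq_symm_apply, hrg, he, he, map_mul, mul_inv_rev, mul_assoc]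

variable {p : ℕ} [Fact p.Prime] [Finite S]

/-- The reduced conditions on `S`. -/
structure Reduced (p : ℕ) (S : Type u) [Group S] : Prop where
  isp : IsPGroup p S
  elem : ∀ z ∈ center S, z ^ p = 1
  gen : Cfsg.thompsonSubgroupA S = ⊤
  sq : ∀ A ∈ Cfsg.maxAbelianSubgroups S, Nat.card A * Nat.card A = Nat.card S * Nat.card (center S)
  top : Cfsg.maxCentralProduct S = Nat.card S * Nat.card (center S)

section Range

variable {Γ : Type u} [Group Γ] {τ : S →* Γ} (hτ : Function.Injective τ)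
include hτ

theorem range_cent (X : Subgroup S) :
    (centralizer (X : Set S)).map τ = τ.range ⊓ centralizer (X.map τ : Set Γ) := by
  ext y
  constructor
  · rintro ⟨s, hs, rfl⟩
    refine mem_inf.2 ⟨⟨s, rfl⟩, mem_centralizer_iff.2 ?_⟩
    rintro _ ⟨x, hx, rfl⟩
    rw [← map_mul, ← map_mul, mem_centralizer_iff.1 hs x hx]
  · intro hy
    obtain ⟨s, rfl⟩ := (mem_inf.1 hy).1
    exact ⟨s, mem_centralizer_iff.2 fun x hx => hτ (by
      rw [map_mul, map_mul]
      exact mem_centralizer_iff.1 (mem_inf.1 hy).2 _ ⟨x, hx, rfl⟩), rfl⟩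

theorem ctr_map_range : ctr τ.range = (center S).map τ := by
  rw [← centralizer_univ, ← coe_top, range_cent hτ, ← MonoidHom.range_eq_map]
  rfl

theorem Reduced.base_range (h : Reduced p S) : Base p τ.range := by
  haveI : Finite ↥τ.range := Finite.of_equiv _ (MonoidHom.ofInjective hτ).toEquiv
  have hcardS : Nat.card ↥τ.range = Nat.card S :=
    (Nat.card_congr (MonoidHom.ofInjective hτ).toEquiv).symm
  have hf : fS τ.range = Nat.card S * Nat.card (center S) := by
    rw [fS, hcardS, ctr_map_range hτ, card_map_of_injective hτ]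
  have hpull : ∀ {Y : Subgroup Γ}, Y ≤ τ.range →
      (Y.comap τ).map τ = Y := fun hY => map_comap_eq_self hY
  have hAdj : ∀ {A : Subgroup Γ}, MA τ.range A →
      A.comap τ ∈ Cfsg.maxAbelianSubgroups S := by
    intro A hA
    refine ⟨le_centralizer_iff_isMulCommutative.1 fun a ha => mem_centralizer_iff.2 fun c hc => ?_,
      fun B hB => ?_⟩
    · refine hτ ?_
      rw [map_mul, map_mul]
      haveI := hA.2.1
      exact mem_centralizer_iff.1 (le_centralizer A ha) _ hc
    · haveI := hB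
      rw [← card_map_of_injective hτ, ← card_map_of_injective (K := A.comap τ)
        hτ, hpull hA.1]
      exact hA.2.2 _ (map_le_range _ _) inferInstance
  refine ⟨inferInstance, ?_, fun Y hY => ?_, fun A hA => ?_, ?_, ?_⟩
  · exact h.isp.of_equiv (MonoidHom.ofInjective hτ)
  · rw [hf, ← hpull hY, ← range_cent hτ, card_map_of_injective hτ,
      card_map_of_injective hτ, ← h.top, CfsgLib.CDLat.maxCentralProduct_eq]
    exact CfsgLib.CDLat.measure_le _
  · rw [hf, ← hpull hA.1, card_map_of_injective hτ]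
    exact h.sq _ (hAdj hA)
  · rw [MonoidHom.range_eq_map, ← h.gen, map_le_iff_le_comap, Cfsg.thompsonSubgroupA]
    refine sSup_le fun A hA => map_le_iff_le_comap.1 (le_sSup ?_)
    haveI := hA.1
    refine ⟨map_le_range _ _ |>.trans (le_of_eq ?_), inferInstance, fun B hB hBc => ?_⟩
    · rw [show sSup (Cfsg.maxAbelianSubgroups S) = (⊤ : Subgroup S) from h.gen, ← MonoidHom.range_eq_map]
    rw [show sSup (Cfsg.maxAbelianSubgroups S) = (⊤ : Subgroup S) from h.gen, ← MonoidHom.range_eq_map] at hB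
    rw [card_map_of_injective hτ, ← hpull hB, card_map_of_injective hτ]
    refine hA.2 _ (le_centralizer_iff_isMulCommutative.1 fun a ha => mem_centralizer_iff.2 fun c hc => ?_)
    refine hτ ?_
    rw [map_mul, map_mul]
    haveI := hBc
    exact mem_centralizer_iff.1 (le_centralizer B ha) _ hc
  · rw [ctr_map_range hτ]
    rintro _ ⟨z, hz, rfl⟩
    rw [← map_pow, h.elem z hz, map_one]

theorem map_char_normalized {X : Subgroup S} (hX : X.Characteristic) :
    normalizer (τ.range : Set Γ) ≤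
      normalizer (X.map τ : Set Γ) := by
  intro γ hγ
  have hφ : ∀ δ ∈ normalizer (τ.range : Set Γ), ∀ y ∈ X.map τ,
      δ * y * δ⁻¹ ∈ X.map τ := by
    intro δ hδ y hy
    choose f hf using fun t : S => mem_normalizer_conj hδ (⟨t, rfl⟩ : τ t ∈ τ.range)
    choose f' hf' using fun t : S => mem_normalizer_conj' hδ (⟨t, rfl⟩ : τ t ∈ τ.range)
    obtain ⟨φ, hφ⟩ : ∃ φ : S ≃* S, ∀ t, φ t = f t := by
      refine ⟨{ toFun := f, invFun := f', left_inv := fun t => hτ ?_,
                right_inv := fun t => hτ ?_, map_mul' := fun a c => hτ ?_ },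
        fun _ => rfl⟩
      · rw [hf', hf]; group
      · rw [hf, hf']; group
      · rw [hf, map_mul, map_mul, hf, hf]; group
    obtain ⟨x, hx, rfl⟩ := hy
    exact ⟨f x, hφ x ▸ characteristic_iff_map_le.1 hX φ ⟨x, hx, rfl⟩, hf x⟩
  exact CfsgLib.PushUp.mem_normalizer_of_forall (hφ γ hγ)
    fun y hy => by simpa using hφ γ⁻¹ (inv_mem hγ) y hy

end Range

theorem emb_cent (X : Subgroup S) :
    (centralizer (X : Set S)).map (emb S) = (emb S).range ⊓ centralizer (X.map (emb S) : Set (Equiv.Perm (S × ℕ))) :=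
  range_cent emb_injective X

theorem ctr_range : ctr (emb S).range = (center S).map (emb S) :=
  ctr_map_range emb_injective

theorem Reduced.base (h : Reduced p S) : Base p (emb S).range :=
  Reduced.base_range emb_injective h

theorem characteristic_of_normalized {Y : Subgroup (Equiv.Perm (S × ℕ))} (hY : Y ≤ (emb S).range)
    (hn : normalizer ((emb S).range : Set (Equiv.Perm (S × ℕ))) ≤ normalizer (Y : Set (Equiv.Perm (S × ℕ)))) :
    (Y.comap (emb S)).Characteristic := by
  refine characteristic_iff_map_le.2 fun φ => ?_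
  rintro _ ⟨s, hs, rfl⟩
  obtain ⟨γ, hγ⟩ := exists_conj_aut φ
  have hγN : γ ∈ normalizer ((emb S).range : Set (Equiv.Perm (S × ℕ))) := by
    refine CfsgLib.PushUp.mem_normalizer_of_forall ?_ ?_
    · rintro _ ⟨t, rfl⟩
      exact ⟨φ t, (hγ t).symm⟩
    · rintro _ ⟨t, rfl⟩
      refine ⟨φ.symm t, ?_⟩
      have h1 := hγ (φ.symm t)
      rw [φ.apply_symm_apply] at h1
      rw [← h1]
      group
  show emb S (φ s) ∈ Y
  rw [← hγ]
  exact mem_normalizer_conj (hn hγN) hs

theorem cj_map_char {X : Subgroup S} (hX : X.Characteristic) :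
    normalizer ((emb S).range : Set (Equiv.Perm (S × ℕ))) ≤
      normalizer (X.map (emb S) : Set (Equiv.Perm (S × ℕ))) :=
  map_char_normalized emb_injective hX

/-- The pair of characteristic subgroups for a reduced `S`. -/
theorem Reduced.exists_pair (h : Reduced p S) {X : Subgroup S} (hXc : X.Characteristic)
    (hne : X ≠ ⊥) (hXZ : X ≤ center S) (hXB : X ≤ Big p (⊤ : Subgroup S))
    (h3 : p = 3 → X ≤ ⁅⁅Fr (⊤ : Subgroup S), (⊤ : Subgroup S)⁆, (⊤ : Subgroup S)⁆ ⊔
      Fr (Fr (⊤ : Subgroup S))) :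
    ∃ S₁ S₂ : Subgroup S, S₁ ≠ ⊥ ∧ S₁.Characteristic ∧ S₂.Characteristic ∧ S₁ ≤ center S ∧
      Cfsg.IsCentrallyLarge S₂ ∧
      ∀ (G : Type u) [Group G] [Finite G] (τ : S →* G), Function.Injective τ → Sit p τ.range →
        (S₁.map τ).Normal ∨ (S₂.map τ).Normal := by
  obtain ⟨T, hT⟩ : ∃ T, T = (emb S).range := ⟨_, rfl⟩
  have hbase : Base p T := hT ▸ h.base
  have hmapFr : ∀ Y : Subgroup S, (Fr Y).map (emb S) = Fr (Y.map (emb S)) := fun Y =>
    (CfsgLib.PushUp.Fr_map emb_injective Y).symm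
  have htop : (⊤ : Subgroup S).map (emb S) = T := by rw [hT, MonoidHom.range_eq_map]
  have R : Ref p T (X.map (emb S)) := ⟨hbase, by
    rw [hT, ctr_range]; exact map_mono hXZ, hT ▸ cj_map_char hXc⟩
  have hne' : X.map (emb S) ≠ ⊥ := fun e => hne ((map_eq_bot_iff_of_injective _ emb_injective).1 e)
  have hB : X.map (emb S) ≤ Big p T := by
    refine (map_mono hXB).trans (le_of_eq ?_)
    rw [Big, Big, Subgroup.map_sup, Subgroup.map_sup, map_commutator, hmapFr, hmapFr, hmapFr, htop]
    congr 1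
    by_cases hp : p = 2
    · rw [if_pos hp, if_pos hp, Subgroup.map_bot]
    · rw [if_neg hp, if_neg hp, Cfsg.powerClosure, Cfsg.powerClosure, MonoidHom.map_closure]
      congr 1
      ext y
      constructor
      · rintro ⟨_, ⟨x, -, rfl⟩, rfl⟩
        exact ⟨emb S x, hT ▸ ⟨x, rfl⟩, map_pow _ _ _⟩
      · rintro ⟨x, hx, rfl⟩
        obtain ⟨x', rfl⟩ := (hT ▸ hx : x ∈ (emb S).range)
        exact ⟨x' ^ p ^ 1, ⟨x', mem_top _, rfl⟩, map_pow _ _ _⟩
  have h3' : p = 3 → X.map (emb S) ≤ ⁅⁅Fr T, T⁆, T⁆ ⊔ Fr (Fr T) := fun hp => by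
    refine (map_mono (h3 hp)).trans (le_of_eq ?_)
    rw [Subgroup.map_sup, map_commutator, map_commutator, hmapFr, hmapFr, htop]
    rw [hmapFr, htop]
  obtain ⟨X₁, R₁, hX₁, S₂, hS₂T, hlg, hcent, hn₂, hnorm⟩ := _root_.CfsgLib.PushAmalgam.exists_pair R hne' hB h3'
  have hX₁T : X₁ ≤ T := R₁.le.trans (CfsgLib.PushUp.ctr_le T)
  refine ⟨X₁.comap (emb S), S₂.comap (emb S), ?_, ?_, ?_, ?_, ?_, fun G _ _ τ hτ sit => ?_⟩
  · intro e
    refine hX₁ ?_
    rw [← map_comap_eq_self (hT ▸ hX₁T : X₁ ≤ (emb S).range), e, Subgroup.map_bot]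
  · exact characteristic_of_normalized (hT ▸ hX₁T) (hT ▸ R₁.norm)
  · exact characteristic_of_normalized (hT ▸ hS₂T) (hT ▸ hn₂)
  · intro x hx
    have h1 := R₁.le hx
    rw [hT, ctr_range] at h1
    obtain ⟨y, hy, e⟩ := h1
    rwa [← emb_injective e]
  · have hS₂r : S₂ ≤ (emb S).range := hT ▸ hS₂T
    refine CfsgLib.CDLat.cl_iff.2 ⟨CfsgLib.CDLat.large_iff.2 ?_, ?_⟩
    · rw [← CfsgLib.CDLat.maxCentralProduct_eq, h.top, CfsgLib.CDLat.measure,
        ← card_map_of_injective (K := S₂.comap (emb S)) emb_injective,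
        ← card_map_of_injective (K := centralizer (S₂.comap (emb S) : Set S)) emb_injective, emb_cent,
        map_comap_eq_self hS₂r]
      have := hlg.2
      rw [hT, fS, ctr_range, card_map_of_injective emb_injective,
        (Nat.card_congr (MonoidHom.ofInjective (emb_injective (S := S))).toEquiv).symm] at this
      exact this
    · intro x hx
      refine hcent ?_
      have : emb S x ∈ (centralizer (S₂.comap (emb S) : Set S)).map (emb S) := ⟨x, hx, rfl⟩
      rw [emb_cent, map_comap_eq_self hS₂r, ← hT] at this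
      exact this
  obtain ⟨j, hj, hjτ⟩ := exists_extension τ hτ
  have hmapτ : ∀ Y : Subgroup S, (Y.map τ).map j = Y.map (emb S) := fun Y => by
    rw [map_map]; exact congrArg (fun f => Y.map f) (MonoidHom.ext hjτ)
  have hback : ∀ {Y : Subgroup (Equiv.Perm (S × ℕ))}, Y ≤ T → j.range ≤ normalizer (Y : Set _) →
      ((Y.comap (emb S)).map τ).Normal := by
    intro Y hY hn
    refine ⟨fun y hy g => ?_⟩
    have h1 : j y ∈ Y := by
      have : j y ∈ ((Y.comap (emb S)).map τ).map j := ⟨y, hy, rfl⟩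
      rwa [hmapτ, map_comap_eq_self (hT ▸ hY : Y ≤ (emb S).range)] at this
    have h2 := mem_normalizer_conj (hn ⟨g, rfl⟩) h1
    rw [← map_mul, ← map_inv, ← map_mul] at h2
    obtain ⟨s, hs⟩ := (hT ▸ hY h2 : j (g * y * g⁻¹) ∈ (emb S).range)
    rw [← hs] at h2
    exact ⟨s, h2, hj (by rw [hjτ, hs])⟩
  by_cases hc : X₁ ≤ centralizer (j.range : Set (Equiv.Perm (S × ℕ)))
  · exact Or.inl (hback hX₁T (le_trans (le_centralizer_iff.1 hc) (centralizer_le_normalizer _)))
  right
  haveI : Finite ↥j.range := Finite.of_equiv _ (MonoidHom.ofInjective hj).toEquiv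
  have hTj : T ≤ j.range := by
    rw [hT]
    rintro _ ⟨s, rfl⟩
    exact ⟨τ s, hjτ s⟩
  have good : Good p T j.range := by
    refine ⟨inferInstance, hTj, ?_, fun hh => hc (R₁.le.trans hh)⟩
    have := Sit.map_equiv sit (MonoidHom.ofInjective hj)
    convert this using 1
    refine map_injective j.range.subtype_injective ?_
    rw [map_subgroupOf_eq_of_le hTj, map_map, hT,
      show (j.range.subtype.comp (MonoidHom.ofInjective hj).toMonoidHom) = j from MonoidHom.ext fun _ => rfl,
      MonoidHom.map_range]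
    exact congrArg MonoidHom.range (MonoidHom.ext fun s => (hjτ s).symm)
  exact hback hS₂T (hnorm _ ⟨⟨hbase, good⟩, 1, (cj_one T).symm, by rwa [cj_one]⟩)

end CfsgLib.PushAmalgam
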