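import Cfsg.Agent.Lib.PushAmalgam.Member

/-!
# Pushing up in rank one: what the offender theorem gives at a member
-/

set_option autoImplicit false
set_option linter.style.haveILetI false
set_option linter.unusedSectionVars false

open Subgroup
open scoped commutatorElement Pointwise
open CfsgLib.PushUp (MA cj mem_cj conj_mem_cj cj_mono card_cj ctr Fr Sit)

namespace CfsgLib.PushAmalgam

universe u

variable {Γ : Type u} [Group Γ] {p : ℕ} [Fact p.Prime] {T T' H : Subgroup Γ}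

/-- What the offender theorem says. -/
structure Facts (p : ℕ) (T H : Subgroup Γ) : Prop where
  card_VQ : Nat.card ↥(Vo p H) * Nat.card ↥(Qo p H) = fS T
  zle : ctr T ≤ Vo p H
  fix : ∀ v ∈ Vo p H, ∀ a ∈ T, a ∉ Qo p H → Commute a v → v ∈ ctr T
  quad : ∀ v ∈ Vo p H, ∀ s ∈ T, ⁅s, v⁆ ∈ ctr T
  ex : ∃ A, MA T A ∧ ¬ A ≤ Qo p H
  off : ∀ A, MA T A → ¬ A ≤ Qo p H → A ⊔ Qo p H = T ∧ MA T (A ⊓ Qo p H ⊔ Vo p H)
  pow : ∀ s ∈ T, s ^ p ∈ Qo p H
  supz : ∀ g ∈ H, T ⊔ cj g T = H → ctr T ⊔ cj g (ctr T) = Vo p H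

theorem map_sub_ma {A : Subgroup Γ} (hTH : T ≤ H) (h : MA T A) :
    MA (T.subgroupOf H) (A.subgroupOf H) := by
  obtain ⟨hAT, hA, hmax⟩ := h
  haveI := hA
  refine ⟨comap_mono hAT, inferInstance, fun B hB hBc => ?_⟩
  haveI := hBc
  rw [card_subgroupOf (hAT.trans hTH), ← card_map_of_injective H.subtype_injective]
  exact hmax _ ((map_mono hB).trans (map_subgroupOf_eq_of_le hTH).le) inferInstance

theorem ma_of_sub {A : Subgroup ↥H} (hTH : T ≤ H) (h : MA (T.subgroupOf H) A) :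
    MA T (A.map H.subtype) := by
  obtain ⟨hAT, hA, hmax⟩ := h
  haveI := hA
  refine ⟨(map_mono hAT).trans (map_subgroupOf_eq_of_le hTH).le, inferInstance, fun B hB hBc => ?_⟩
  haveI := hBc
  rw [card_map_of_injective H.subtype_injective, ← card_subgroupOf (hB.trans hTH)]
  exact hmax _ (comap_mono hB) inferInstance

theorem ctr_subgroupOf (hTH : T ≤ H) : (ctr (T.subgroupOf H)).map H.subtype = ctr T := by
  rw [CfsgLib.PushUp.ctr_map H.subtype_injective, map_subgroupOf_eq_of_le hTH]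

theorem Good.facts (h : Good p T H) (b : Base p T) : Facts p T H := by
  haveI := h.fin
  haveI := b.fin
  have sit := h.sit
  obtain ⟨T₀, hT₀⟩ : ∃ T₀, T₀ = T.subgroupOf H := ⟨_, rfl⟩
  rw [← hT₀] at sit
  have hmapT : T₀.map H.subtype = T := hT₀ ▸ map_subgroupOf_eq_of_le h.le
  have hmapZ : (ctr T₀).map H.subtype = ctr T := hT₀ ▸ ctr_subgroupOf h.le
  haveI := CfsgLib.PushUp.pCore_normal p ↥H
  have hgen : T₀ ≤ Cfsg.thompsonSubgroupAOf T₀ := by
    have h1 : T ≤ (Cfsg.thompsonSubgroupAOf T₀).map H.subtype := b.gen.trans (sSup_le fun A hA =>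
      (map_subgroupOf_eq_of_le (hA.1.trans h.le)).ge.trans
        (map_mono (CfsgLib.PushUp.le_J (hT₀ ▸ map_sub_ma h.le hA))))
    rw [← hmapT] at h1
    exact (map_le_map_iff_of_injective H.subtype_injective).1 h1
  have hJ : T₀ ≤ centralizer (Cfsg.centerThompsonAOf T₀ : Set ↥H) :=
    hgen.trans (le_centralizer_iff.1 inf_le_right)
  have hn : ¬ (T₀ ⊓ centralizer (T₀ : Set ↥H)).Normal := by
    intro hn
    haveI := hn
    refine h.moved ?_
    have hTC : T₀ ≤ centralizer ((T₀ ⊓ centralizer (T₀ : Set ↥H) : Subgroup ↥H) : Set ↥H) :=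
      le_centralizer_iff.1 inf_le_right
    have htop : centralizer ((T₀ ⊓ centralizer (T₀ : Set ↥H) : Subgroup ↥H) : Set ↥H) = ⊤ := by
      rcases sit.sup_or (centralizer ((T₀ ⊓ centralizer (T₀ : Set ↥H) : Subgroup ↥H) : Set ↥H))
        with h1 | h1
      · exact absurd ((le_inf le_rfl hTC).trans h1)
          (CfsgLib.PushAmalgam.Sit.not_le_pCore sit)
      · rwa [sup_eq_left.2 hTC] at h1
    rw [← hmapZ]
    rintro _ ⟨z, hz, rfl⟩
    refine mem_centralizer_iff.2 fun x hx => ?_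
    exact congrArg Subtype.val
      (mem_centralizer_iff.1 (htop.ge (mem_top (⟨x, hx⟩ : ↥H))) z hz).symm
  obtain ⟨A₀, hA₀, hA₀Q⟩ := sit.exists_offender hJ hn
  have o := sit.off le_rfl hn hA₀ hA₀Q
  obtain ⟨V, hV⟩ : ∃ V, V = normalClosure ((T₀ ⊓ centralizer (T₀ : Set ↥H) : Subgroup ↥H) : Set ↥H) :=
    ⟨_, rfl⟩
  rw [← hV] at o
  haveI := o.normal
  have hzV : ctr T₀ ≤ V := hV ▸ subset_normalClosure
  have hidx : (ctr T₀).relIndex V = (Cfsg.pCore p ↥H).relIndex T₀ := by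
    rw [← o.index]
    congr 1
    refine le_antisymm (le_inf hzV inf_le_right) ?_
    exact inf_le_inf_right _ (o.le.trans sit.pCore_le)
  have hcV : Nat.card V * Nat.card ↥(Cfsg.pCore p ↥H) = fS T := by
    have h1 : Nat.card V = Nat.card ↥(ctr T₀) * (ctr T₀).relIndex V := by
      rw [← relIndex_bot_left (ctr T₀), ← relIndex_bot_left V, relIndex_mul_relIndex _ _ _ bot_le hzV]
    have h2 : Nat.card T₀ = Nat.card ↥(Cfsg.pCore p ↥H) * (Cfsg.pCore p ↥H).relIndex T₀ := by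
      rw [← relIndex_bot_left (Cfsg.pCore p ↥H), ← relIndex_bot_left T₀,
        relIndex_mul_relIndex _ _ _ bot_le sit.pCore_le]
    rw [h1, hidx, fS, ← hmapT, ← CfsgLib.PushUp.ctr_map H.subtype_injective,
      card_map_of_injective H.subtype_injective, card_map_of_injective H.subtype_injective, h2]
    ring
  have hVQ : V ≤ ctr (Cfsg.pCore p ↥H) := le_inf o.le (le_centralizer_iff.1 o.cent)
  have hmapQ : (Cfsg.pCore p ↥H).map H.subtype = Qo p H := rfl
  have hmapV' : (ctr (Cfsg.pCore p ↥H)).map H.subtype = Vo p H :=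
    CfsgLib.PushUp.ctr_map H.subtype_injective _
  have hle : Nat.card ↥(Qo p H) * Nat.card ↥(Vo p H) ≤ fS T := by
    refine le_trans (Nat.mul_le_mul_left _ ?_) (b.le_f _ h.Q_le)
    haveI : Finite ↥(T ⊓ centralizer (Qo p H : Set Γ)) := finite_of_le inf_le_left
    exact card_le_of_le (inf_le_inf_right _ h.Q_le)
  have hVeq : V = ctr (Cfsg.pCore p ↥H) := by
    refine eq_of_le_of_card_ge hVQ ?_
    rw [show Nat.card ↥(ctr (Cfsg.pCore p ↥H)) = Nat.card ↥(Vo p H) from by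
      rw [← hmapV', card_map_of_injective H.subtype_injective]]
    have h1 : Nat.card ↥(Qo p H) = Nat.card ↥(Cfsg.pCore p ↥H) := by
      rw [← hmapQ, card_map_of_injective H.subtype_injective]
    rw [h1, mul_comm, ← hcV] at hle
    exact Nat.le_of_mul_le_mul_right hle Nat.card_pos
  have hmapV : V.map H.subtype = Vo p H := by rw [hVeq, hmapV']
  refine ⟨?_, ?_, ?_, ?_, ?_, ?_, ?_, ?_⟩
  · rw [← hmapV, ← hmapQ, card_map_of_injective H.subtype_injective,
      card_map_of_injective H.subtype_injective, hcV]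
  · rw [← hmapZ, ← hmapV]
    exact map_mono hzV
  · rw [← hmapV, ← hmapZ]
    rintro _ ⟨v, hv, rfl⟩ a ha haQ hc
    have hav : v ∈ V ⊓ centralizer (T₀ : Set ↥H) := by
      rw [← o.fix ⟨a, h.le ha⟩ (hT₀ ▸ ha) fun hh => haQ ((h.mem_Qo (h.le ha)).2 hh)]
      exact mem_inf.2 ⟨hv, mem_centralizer_singleton_iff.2 (Subtype.ext hc.symm)⟩
    exact ⟨v, ⟨(o.le.trans sit.pCore_le) hav.1, hav.2⟩, rfl⟩
  · rw [← hmapV, ← hmapZ]
    rintro _ ⟨v, hv, rfl⟩ s hs
    obtain ⟨h1, h2⟩ := mem_inf.1 (o.quad v hv ⟨s, h.le hs⟩ (hT₀ ▸ hs))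
    exact ⟨_, ⟨(o.le.trans sit.pCore_le) h1, h2⟩, rfl⟩
  · refine ⟨_, ma_of_sub h.le (hT₀ ▸ hA₀), fun hle => hA₀Q ?_⟩
    exact (map_le_map_iff_of_injective H.subtype_injective).1 hle
  · intro A hA hAQ
    have hA' : MA T₀ (A.subgroupOf H) := hT₀ ▸ map_sub_ma h.le hA
    have hm : (A.subgroupOf H).map H.subtype = A := map_subgroupOf_eq_of_le (hA.1.trans h.le)
    have hAQ' : ¬ A.subgroupOf H ≤ Cfsg.pCore p ↥H := fun hh => hAQ (hm ▸ map_mono hh)
    refine ⟨?_, ?_⟩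
    · have := congrArg (Subgroup.map H.subtype) (o.sup _ hA' hAQ')
      rwa [Subgroup.map_sup, hm, hmapQ, hmapT] at this
    · have := ma_of_sub h.le (hT₀ ▸ o.replace_ma _ hA' hAQ')
      rwa [Subgroup.map_sup, hmapV, map_inf _ _ _ H.subtype_injective, hm, hmapQ] at this
  · intro s hs
    obtain ⟨q, -, -, hq, -⟩ := sit.exists_q
    exact ⟨_, hq ⟨s, h.le hs⟩ (hT₀ ▸ hs), by simp⟩
  · intro g hg e
    have e' : T₀ ⊔ cj (⟨g, hg⟩ : ↥H) T₀ = ⊤ := by
      refine map_injective H.subtype_injective ?_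
      rw [Subgroup.map_sup, ← MonoidHom.range_eq_map, range_subtype, hmapT, hT₀, h.cjsub _ h.le]
      exact e
    have := congrArg (Subgroup.map H.subtype) (o.eq_sup hV inf_le_right e')
    have hz : V ⊓ centralizer (T₀ : Set ↥H) = ctr T₀ := by
      refine le_antisymm ?_ (le_inf hzV inf_le_right)
      exact inf_le_inf_right _ (o.le.trans sit.pCore_le)
    rw [hz, Subgroup.map_sup, hmapZ, hmapV] at this
    have hz' : (cj (⟨g, hg⟩ : ↥H) (ctr T₀)).map H.subtype = cj g (ctr T) := by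
      rw [cj_ctr, CfsgLib.PushUp.ctr_map H.subtype_injective, hT₀, h.cjsub _ h.le, cj_ctr]
    rwa [hz'] at this

end CfsgLib.PushAmalgam
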