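import Cfsg.Agent.Lib.PushAmalgam.Basic

/-!
# Pushing up in rank one: the Frattini layer of a normalized `p`-subgroup as a module
-/

set_option autoImplicit false
set_option linter.style.haveILetI false
set_option linter.unusedSectionVars false

open Subgroup
open scoped commutatorElement
open CfsgLib.PushUp (Fr)

namespace CfsgLib.PushAmalgam

universe u

variable {Γ : Type u} [Group Γ] {p : ℕ} [Fact p.Prime]

/-- `Q / Φ(Q)` as a module for a group normalizing `Q`. -/
theorem exists_layer {L Q : Subgroup Γ} [Finite Q] (hQp : IsPGroup p Q)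
    (hn : L ≤ normalizer (Q : Set Γ)) :
    ∃ (M : Type u) (_ : AddCommGroup M) (_ : Finite M) (_ : DistribMulAction ↥L M)
      (π : ↥Q →* Multiplicative M), Function.Surjective π ∧
        (∀ q : ↥Q, π q = 1 ↔ (q : Γ) ∈ Fr Q) ∧ (∀ x : M, p • x = 0) ∧
        ∀ (g : ↥L) (q q' : ↥Q), (q' : Γ) = (g : Γ) * q * (g : Γ)⁻¹ →
          Multiplicative.toAdd (π q') = g • Multiplicative.toAdd (π q) := by
  have hc : ∀ a b : ↥Q ⧸ frattini ↥Q, a * b = b * a := by
    intro a b
    obtain ⟨x, rfl⟩ := QuotientGroup.mk_surjective a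
    obtain ⟨y, rfl⟩ := QuotientGroup.mk_surjective b
    rw [← QuotientGroup.mk_mul, ← QuotientGroup.mk_mul, QuotientGroup.eq]
    have := CfsgLib.Coprime.commutator_le_frattini hQp
      (commutator_mem_commutator (mem_top y⁻¹) (mem_top x⁻¹))
    simpa [commutatorElement_def, mul_assoc] using this
  letI : CommGroup (↥Q ⧸ frattini ↥Q) := { (inferInstance : Group (↥Q ⧸ frattini ↥Q)) with mul_comm := hc }
  obtain ⟨φ, hφ⟩ : ∃ φ : ↥L → ↥Q ≃* ↥Q, ∀ g q, ((φ g q : ↥Q) : Γ) = (g : Γ) * q * (g : Γ)⁻¹ := by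
    refine ⟨fun g =>
      { toFun := fun q => ⟨(g : Γ) * q * (g : Γ)⁻¹, mem_normalizer_conj (hn g.2) q.2⟩
        invFun := fun q => ⟨(g : Γ)⁻¹ * q * (g : Γ), mem_normalizer_conj' (hn g.2) q.2⟩
        left_inv := fun q => Subtype.ext (by simp [mul_assoc])
        right_inv := fun q => Subtype.ext (by simp [mul_assoc])
        map_mul' := fun q r => Subtype.ext (by simp [mul_assoc]) }, fun _ _ => rfl⟩
  obtain ⟨ψ, hψ⟩ : ∃ ψ : ↥L → (↥Q ⧸ frattini ↥Q) →* (↥Q ⧸ frattini ↥Q),
      ∀ g q, ψ g (QuotientGroup.mk q) = QuotientGroup.mk (φ g q) := by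
    refine ⟨fun g => QuotientGroup.map _ _ (φ g).toMonoidHom (map_le_iff_le_comap.1
      (CfsgLib.Coprime.map_frattini_le_of_surjective (φ g).surjective)), fun g q => rfl⟩
  letI : SMul ↥L (Additive (↥Q ⧸ frattini ↥Q)) :=
    ⟨fun g x => Additive.ofMul (ψ g (Additive.toMul x))⟩
  have hs : ∀ (g : ↥L) (x : Additive (↥Q ⧸ frattini ↥Q)),
      g • x = Additive.ofMul (ψ g (Additive.toMul x)) := fun _ _ => rfl
  letI : DistribMulAction ↥L (Additive (↥Q ⧸ frattini ↥Q)) :=
    { one_smul := fun x => by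
        obtain ⟨q, hq⟩ := QuotientGroup.mk_surjective (Additive.toMul x)
        rw [hs, ← hq, hψ, show φ 1 q = q from Subtype.ext (by simp [hφ]), hq]
        rfl
      mul_smul := fun g h x => by
        obtain ⟨q, hq⟩ := QuotientGroup.mk_surjective (Additive.toMul x)
        rw [hs, hs, hs, ← hq, hψ, hψ, toMul_ofMul, hψ]
        exact congrArg (fun y : ↥Q => Additive.ofMul (QuotientGroup.mk y : ↥Q ⧸ frattini ↥Q))
          (Subtype.ext (by simp [hφ, mul_assoc]))
      smul_zero := fun g => by rw [hs, toMul_zero, map_one, ofMul_one]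
      smul_add := fun g x y => by rw [hs, hs, hs, toMul_add, map_mul, ofMul_mul] }
  refine ⟨Additive (↥Q ⧸ frattini ↥Q), inferInstance, Finite.of_equiv _ Additive.ofMul, inferInstance,
    MonoidHom.mk' (fun q => Multiplicative.ofAdd (Additive.ofMul (QuotientGroup.mk q : ↥Q ⧸ frattini ↥Q)))
      (fun x y => by rw [QuotientGroup.mk_mul, ofMul_mul, ofAdd_add]), fun x => ?_, fun q => ?_, fun x => ?_, fun g q q' h => ?_⟩
  · obtain ⟨q, hq⟩ := QuotientGroup.mk_surjective (Additive.toMul (Multiplicative.toAdd x))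
    refine ⟨q, ?_⟩
    rw [MonoidHom.mk'_apply, hq]
    rfl
  · rw [MonoidHom.mk'_apply, ofAdd_eq_one, ofMul_eq_zero, QuotientGroup.eq_one_iff]
    exact ⟨fun h => ⟨q, h, rfl⟩, fun ⟨r, hr, e⟩ => (Subtype.ext e : r = q) ▸ hr⟩
  · obtain ⟨q, hq⟩ := QuotientGroup.mk_surjective (Additive.toMul x)
    refine Additive.toMul.injective ?_
    rw [toMul_nsmul, toMul_zero, ← hq, ← QuotientGroup.mk_pow, QuotientGroup.eq_one_iff]
    exact CfsgLib.Coprime.pow_mem_frattini hQp q
  · show Additive.ofMul (QuotientGroup.mk q' : ↥Q ⧸ frattini ↥Q) =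
      Additive.ofMul (ψ g (QuotientGroup.mk q))
    rw [hψ, show φ g q = q' from Subtype.ext ((hφ g q).trans h.symm)]

end CfsgLib.PushAmalgam
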