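import Cfsg.Agent.Lib.PushUpTwo.SLFacts
import Cfsg.Agent.Lib.CFun.CoprimeQuad.Reduce
import Cfsg.Agent.Lib.Coprime.QdRankTwo.Data
import Mathlib

/-!
# The square of an edge element on a module with natural layers

For `p ≥ 5` the square `(a - 1) ^ 2` lands in the smaller of the two central parts: a lift `h` of `diag (2, 1/2)`
multiplies it by eight and the central part by two.
-/

set_option autoImplicit false
set_option linter.style.haveILetI false

open scoped MatrixGroups commutatorElement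
open Subgroup CfsgLib.PushUpTwo

namespace CfsgLib.PushAmalgam

universe u

theorem slMul_apply {R : Type*} [CommRing R] (g h : SL(2, R)) (i j : Fin 2) :
    (g * h).1 i j = g.1 i 0 * h.1 0 j + g.1 i 1 * h.1 1 j := by
  rw [Matrix.SpecialLinearGroup.coe_mul, Matrix.mul_apply, Fin.sum_univ_two]

/-- `[[0, t], [-1/t, 0]]` -/
def weyl {F : Type*} [Field F] (t : F) (ht : t ≠ 0) : SL(2, F) :=
  ⟨!![0, t; -t⁻¹, 0], by rw [Matrix.det_fin_two_of]; field_simp; ring⟩

theorem weyl_val {F : Type*} [Field F] (t : F) (ht : t ≠ 0) : (weyl t ht).1 = !![0, t; -t⁻¹, 0] := rfl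

/-- `[[x, 0], [0, y]]` -/
def diagTwo {F : Type*} [Field F] (x y : F) (h : x * y = 1) : SL(2, F) :=
  ⟨!![x, 0; 0, y], by rw [Matrix.det_fin_two_of, h, mul_zero, sub_zero]⟩

theorem diagTwo_val {F : Type*} [Field F] (x y : F) (h : x * y = 1) : (diagTwo x y h).1 = !![x, 0; 0, y] := rfl

theorem slInv_apply {R : Type*} [CommRing R] (g : SL(2, R)) :
    (g⁻¹).1 = !![g.1 1 1, -g.1 0 1; -g.1 1 0, g.1 0 0] := by
  rw [Matrix.SpecialLinearGroup.coe_inv, Matrix.adjugate_fin_two]

section Coprime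

variable {p : ℕ} [Fact p.Prime]

theorem not_involves_psl (hp : 5 ≤ p) {Γ : Type u} [Group Γ] [Finite Γ] (D : Subgroup Γ) [D.Normal]
    (hD : (Nat.card ↥D).Coprime p) (hab : _root_.commutator Γ ≤ D) :
    ¬ Cfsg.Involves (Matrix.ProjectiveSpecialLinearGroup (Fin 2) (ZMod p)) Γ := by
  rintro ⟨K, R, hR, ⟨e⟩⟩
  haveI := hR
  set φ : ↥K →* Matrix.ProjectiveSpecialLinearGroup (Fin 2) (ZMod p) :=
    e.toMonoidHom.comp (QuotientGroup.mk' _) with hφ
  have hφs : Function.Surjective φ := e.surjective.comp (QuotientGroup.mk'_surjective _)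
  have hperf : _root_.commutator (Matrix.ProjectiveSpecialLinearGroup (Fin 2) (ZMod p)) = ⊤ := by
    rw [_root_.commutator_def, ← map_top_of_surjective (QuotientGroup.mk' _)
      (QuotientGroup.mk'_surjective (center SL(2, ZMod p))), ← map_commutator, ← _root_.commutator_def,
      CfsgLib.Coprime.QdRankTwo.commutator_sl_eq_top (by omega)]
  have htop : (D.subgroupOf K).map φ = ⊤ := by
    refine top_le_iff.1 (hperf.ge.trans ?_)
    rw [_root_.commutator_def, ← map_top_of_surjective φ hφs, ← map_commutator]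
    refine map_mono ?_
    rw [Subgroup.commutator_le]
    rintro x - y -
    exact hab (commutator_mem_commutator (mem_top (x : Γ)) (mem_top (y : Γ)))
  have hd : Nat.card ↥((D.subgroupOf K).map φ) ∣ Nat.card ↥D :=
    (Subgroup.card_map_dvd _ _).trans (Subgroup.card_comap_dvd_of_injective D K.subtype K.subtype_injective)
  rw [htop, Subgroup.card_top] at hd
  set u := QuotientGroup.mk' (center SL(2, ZMod p)) (CfsgLib.Qd.up (1 : ZMod p)) with hu
  have hup : orderOf u ∣ p := by
    refine orderOf_dvd_of_pow_eq_one ?_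
    rw [hu, ← map_pow, CfsgLib.Qd.up_pow, ZMod.natCast_self, zero_mul, CfsgLib.Qd.up_zero, map_one]
  have h1 : u = 1 := orderOf_eq_one_iff.1
    (Nat.eq_one_of_dvd_coprimes hD ((orderOf_dvd_natCard u).trans hd) hup)
  have hc : CfsgLib.Qd.up (1 : ZMod p) ∈ center SL(2, ZMod p) := (QuotientGroup.eq_one_iff _).1 h1
  have := congrArg (fun g : SL(2, ZMod p) => g.1 0 0) (mem_center_iff.1 hc (CfsgLib.PushUpTwo.lo 1))
  rw [show CfsgLib.Qd.up (1 : ZMod p) = CfsgLib.PushUpTwo.up 1 from rfl] at this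
  simp [slMul_apply, up_val, lo_val] at this

/-- A quadratic automorphism centralizes any group of order prime to `p` it normalizes. -/
theorem quad_commute (hp : 5 ≤ p) {W : Type u} [CommGroup W] [Finite W] (hW : ∀ v : W, v ^ p = 1)
    (D : Subgroup (MulAut W)) (hD : (Nat.card ↥D).Coprime p) {b : MulAut W}
    (hbD : b ∈ normalizer (D : Set (MulAut W))) (hq : ∀ v, b (b v * v⁻¹) * (b v * v⁻¹)⁻¹ = 1) :
    ∀ c ∈ D, b * c = c * b := by
  intro c hc
  haveI : Finite (MulAut W) := Finite.of_injective (fun e => (e : W → W)) DFunLike.coe_injective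
  set T : Subgroup (MulAut W) := D ⊔ zpowers b with hT
  set D' : Subgroup ↥T := D.subgroupOf T with hD'
  haveI : D'.Normal := normal_subgroupOf_of_le_normalizer (sup_le le_normalizer (zpowers_le.2 hbD))
  set b' : ↥T := ⟨b, mem_sup_right (mem_zpowers b)⟩ with hb'
  have hD'c : (Nat.card ↥D').Coprime p := by
    rwa [hD', Nat.card_congr (subgroupOfEquivOfLe (le_sup_left : D ≤ T)).toEquiv]
  have hab : _root_.commutator ↥T ≤ D' := by
    have hz : ∀ x : ↥T, QuotientGroup.mk' D' x ∈ zpowers (QuotientGroup.mk' D' b') := fun x => by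
      have hle : T ≤ ((zpowers (QuotientGroup.mk' D' b')).comap (QuotientGroup.mk' D')).map T.subtype := by
        refine sup_le (fun d hd => ⟨⟨d, mem_sup_left hd⟩, ?_, rfl⟩) (zpowers_le.2 ⟨b', mem_zpowers _, rfl⟩)
        show QuotientGroup.mk' D' _ ∈ zpowers _
        rw [show QuotientGroup.mk' D' ⟨d, mem_sup_left hd⟩ = 1 from (QuotientGroup.eq_one_iff _).2 hd]
        exact one_mem _
      obtain ⟨y, hy, e⟩ := hle x.2
      rwa [← Subtype.ext e]
    rw [_root_.commutator_def, Subgroup.commutator_le]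
    rintro x - y -
    rw [← QuotientGroup.eq_one_iff, ← QuotientGroup.mk'_apply, map_commutatorElement,
      commutatorElement_eq_one_iff_mul_comm]
    obtain ⟨i, hi⟩ := mem_zpowers_iff.1 (hz x)
    obtain ⟨j, hj⟩ := mem_zpowers_iff.1 (hz y)
    rw [← hi, ← hj, ← zpow_add, ← zpow_add, add_comm]
  by_contra hne
  have hinv := CfsgLib.CoprimeQuad.involves_of_quadratic_aut hp (⊤ : Subgroup ↥T) ⊥
    (by rw [Subgroup.card_bot]; exact Nat.coprime_one_left _) hW T.subtype (b := b') 1 (mem_top _) hq ?_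
  · exact not_involves_psl hp D' hD'c hab (CfsgLib.Fusion.involves_of_injective _ (Subgroup.subtype_injective _) hinv)
  intro N hN _ hNp hbN
  rw [pow_one] at hbN
  set c' : ↥T := ⟨c, mem_sup_left hc⟩ with hc'
  have hcom : ⁅b', c'⁆ ∈ N ⊓ D' := by
    refine mem_inf.2 ⟨?_, ?_⟩
    · rw [commutatorElement_def, mul_assoc, mul_assoc]
      exact mul_mem hbN (by simpa [mul_assoc] using hN.conj_mem _ (inv_mem hbN) c')
    · rw [commutatorElement_def]
      exact mul_mem (Normal.conj_mem inferInstance c' hc b') (inv_mem hc)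
  obtain ⟨k, hk⟩ := hNp ⟨_, mem_map_of_mem T.subtype hcom.1⟩
  have hkk : ⁅b', c'⁆ ^ p ^ k = 1 := Subtype.ext ((T.subtype.map_pow _ _).trans (congrArg Subtype.val hk))
  have h1 : ⁅b', c'⁆ = 1 := orderOf_eq_one_iff.1 (Nat.eq_one_of_dvd_coprimes (hD'c.pow_right k)
    (D'.orderOf_dvd_natCard hcom.2) (orderOf_dvd_of_pow_eq_one hkk))
  exact hne (congrArg Subtype.val (commutatorElement_eq_one_iff_mul_comm.1 h1))

end Coprime

section Action

variable {L : Type u} [Group L] {M : Type u} [AddCommGroup M] [DistribMulAction L M]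

/-- The automorphism induced on a quotient by an invariant subgroup. -/
def quotAut (V : AddSubgroup M) (hV : ∀ g : L, ∀ v ∈ V, g • v ∈ V) : L →* MulAut (Multiplicative (M ⧸ V)) where
  toFun g := AddEquiv.toMultiplicative (QuotientAddGroup.congr V V (DistribMulAction.toAddEquiv M g) (by
    ext y
    constructor
    · rintro ⟨x, hx, rfl⟩; exact hV g x hx
    · intro hy; exact ⟨g⁻¹ • y, hV _ y hy, smul_inv_smul g y⟩))
  map_one' := by
    refine MulEquiv.ext fun w => ?_
    obtain ⟨x, rfl⟩ := QuotientAddGroup.mk_surjective w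
    exact congrArg (Multiplicative.ofAdd ∘ QuotientAddGroup.mk) (one_smul L x)
  map_mul' g h := by
    refine MulEquiv.ext fun w => ?_
    obtain ⟨x, rfl⟩ := QuotientAddGroup.mk_surjective w
    exact congrArg (Multiplicative.ofAdd ∘ QuotientAddGroup.mk) (mul_smul g h x)

theorem quotAut_apply (V : AddSubgroup M) (hV : ∀ g : L, ∀ v ∈ V, g • v ∈ V) (g : L) (x : M) :
    quotAut V hV g (Multiplicative.ofAdd (x : M ⧸ V)) = Multiplicative.ofAdd ((g • x : M) : M ⧸ V) := rfl

variable {p : ℕ} [Fact p.Prime]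

/-- Powers of an element of cubic action. -/
theorem pow_smul_cube {a : L} (h3 : ∀ x : M, a • (a • (a • x - x) - (a • x - x)) = a • (a • x - x) - (a • x - x))
    (k : ℕ) (x : M) :
    a ^ k • x = x + k • (a • x - x) + k.choose 2 • (a • (a • x - x) - (a • x - x)) := by
  induction k with
  | zero => simp
  | succ k ih =>
    rw [pow_succ', mul_smul, ih, smul_add, smul_add, smul_nsmul_assoc a k, smul_nsmul_assoc a (k.choose 2), h3]
    set d := a • x - x with hd
    set e := a • d - d with he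
    have hax : a • x = x + d := by rw [hd]; abel
    have had : a • d = d + e := by rw [he]; abel
    rw [hax, had, Nat.choose_succ_succ, Nat.choose_one_right, nsmul_add, add_nsmul, add_nsmul, one_nsmul]
    abel
where
  smul_nsmul_assoc (a : L) (k : ℕ) {y : M} : a • (k • y) = k • (a • y) :=
    (DistribSMul.toAddMonoidHom M a).map_nsmul k y

theorem nsmul_eq_zero_of_dvd (hM : ∀ x : M, p • x = 0) {k : ℕ} (h : p ∣ k) (x : M) : k • x = 0 := by
  obtain ⟨m, rfl⟩ := h
  rw [mul_nsmul, hM, nsmul_zero]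

/-- Two elements over the same one of the quotient, of order dividing `p` and centralizing the kernel on `M`. -/
theorem agree {H : Type*} [Group H] (ρ : L →* H)
    (hC : ∀ c ∈ ρ.ker, ∀ k : ℕ, (∀ x : M, c ^ p ^ k • x = x) → ∀ x : M, c • x = x)
    {g h : L} (hρ : ρ g = ρ h) (hg : ∀ x : M, g ^ p • x = x) (hh : ∀ x : M, h ^ p • x = x)
    (hcent : ∀ c ∈ ρ.ker, ∀ x : M, g • c • x = c • g • x) (x : M) : h • x = g • x := by
  set c := g⁻¹ * h with hc
  have hcm : c ∈ ρ.ker := by rw [MonoidHom.mem_ker, hc, map_mul, map_inv, hρ, inv_mul_cancel]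
  have hk : ∀ (k : ℕ) (x : M), h ^ k • x = g ^ k • c ^ k • x := by
    intro k
    induction k with
    | zero => intro x; simp
    | succ k ih =>
      intro x
      have e : ∀ y : M, g • c ^ k • y = c ^ k • g • y := fun y => hcent _ (pow_mem hcm k) y
      rw [pow_succ, mul_smul, ih, pow_succ g, pow_succ c, mul_smul, mul_smul, e,
        show h = g * c by rw [hc, mul_inv_cancel_left], mul_smul]
  have hcp : ∀ x : M, c ^ p ^ 1 • x = x := fun x => by
    rw [pow_one]
    have h1 := hk p x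
    rw [hh, hg] at h1
    exact h1.symm
  have := hC c hcm 1 hcp x
  rw [show h = g * c by rw [hc, mul_inv_cancel_left], mul_smul, this]

end Action

theorem sq_central {L : Type u} [Group L] [Finite L] {p : ℕ} [Fact p.Prime] (hp : 5 ≤ p)
    {F : Type} [Field F] [Fintype F] [CharP F p]
    (ρ : L →* SL(2, F)) (hρ : Function.Surjective ρ)
    {M : Type u} [AddCommGroup M] [Finite M] [DistribMulAction L M] (hM : ∀ x : M, p • x = 0)
    {a : L} {t : F} (ht : t ≠ 0) (ha : ρ a = up t)
    (hC : ∀ c ∈ ρ.ker, ∀ k : ℕ, (∀ x : M, c ^ p ^ k • x = x) → ∀ x : M, c • x = x)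
    (V P Zt Zb : AddSubgroup M)
    (hV : ∀ g : L, ∀ v ∈ V, g • v ∈ V) (hVC : ∀ c ∈ ρ.ker, ∀ v ∈ V, c • v = v) (hVP : V ≤ P)
    (hMP : ∀ x : M, a • x - x ∈ P) (hPV : ∀ x ∈ P, a • x - x ∈ V)
    (hfix : ∀ x : M, a • x - x ∈ V → x ∈ P)
    (hgen : ∀ g : L, ρ g ∉ Subgroup.normalizer (upGroup F : Set SL(2, F)) →
      ∀ x : M, ∃ y ∈ P, ∃ z ∈ P, x = y + g • z)
    (hP2 : ∀ x ∈ P, a • (a • x - x) = a • x - x)
    (hsq : ∀ x : M, a • (a • x - x) - (a • x - x) ∈ Zt)
    (hZt : ∀ (g : L) (l : ℕ), (ρ g).1 1 0 = 0 → (ρ g).1 0 0 = (l : F) →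
      ∀ z ∈ Zt, g • z - l • z ∈ Zb) :
    ∀ x : M, a • (a • x - x) - (a • x - x) ∈ Zb := by
  classical
  have hpp : p.Prime := Fact.out
  set N : M → M := fun x => a • x - x with hN
  have hN2P : ∀ x ∈ P, N (N x) = 0 := fun x hx => sub_eq_zero.2 (hP2 x hx)
  have h3 : ∀ x : M, a • (N (N x)) = N (N x) := fun x => by
    have := hP2 (N x) (hMP x)
    exact this
  have hpow := fun (k : ℕ) (x : M) => pow_smul_cube h3 k x
  have hap : ∀ x : M, a ^ p • x = x := fun x => by
    rw [hpow, nsmul_eq_zero_of_dvd hM dvd_rfl,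
      nsmul_eq_zero_of_dvd hM (hpp.dvd_choose_self (by norm_num) (by omega)), add_zero, add_zero]
  have hconjp : ∀ (g : L) (k : ℕ) (x : M), (g * a ^ k * g⁻¹) ^ p • x = x := fun g k x => by
    have e : ∀ (m : ℕ) (y : M), (a ^ p) ^ m • y = y := fun m y => by
      induction m with
      | zero => simp
      | succ m ih => rw [pow_succ, mul_smul, hap, ih]
    rw [conj_pow, ← pow_mul, mul_comm k p, pow_mul, mul_smul, mul_smul, e, smul_inv_smul]
  -- the element commutes with the kernel on `M`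
  have haC : ∀ c ∈ ρ.ker, ∀ x : M, a • c • x = c • a • x := by
    set θ := quotAut V hV with hθ
    haveI : Finite (M ⧸ V) := inferInstance
    haveI : Finite (MulAut (Multiplicative (M ⧸ V))) :=
      Finite.of_injective (fun e => (e : Multiplicative (M ⧸ V) → Multiplicative (M ⧸ V))) DFunLike.coe_injective
    have hW : ∀ v : Multiplicative (M ⧸ V), v ^ p = 1 := fun v => by
      obtain ⟨x, rfl⟩ := QuotientAddGroup.mk_surjective v
      exact congrArg (Multiplicative.ofAdd ∘ QuotientAddGroup.mk) (hM x)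
    have hD : (Nat.card ↥(ρ.ker.map θ)).Coprime p := by
      refine (hpp.coprime_iff_not_dvd.2 fun hd => ?_).symm
      obtain ⟨⟨_, c, hc, rfl⟩, ho⟩ := exists_prime_orderOf_dvd_card' (G := ↥(ρ.ker.map θ)) p hd
      rw [← Subgroup.orderOf_coe] at ho
      obtain ⟨i, m, hm, hn⟩ := Nat.exists_eq_pow_mul_and_not_dvd (orderOf_pos c).ne' p hpp.ne_one
      have htriv : ∀ x : M, c ^ m • x = x := hC _ (pow_mem hc m) i fun x => by
        rw [← pow_mul, mul_comm, ← hn, pow_orderOf_eq_one, one_smul]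
      have h1 : θ c ^ m = 1 := by
        rw [← map_pow]
        refine MulEquiv.ext fun w => ?_
        obtain ⟨x, rfl⟩ := QuotientAddGroup.mk_surjective w
        exact congrArg (Multiplicative.ofAdd ∘ QuotientAddGroup.mk) (htriv x)
      exact hm (ho ▸ orderOf_dvd_of_pow_eq_one h1)
    have hq : ∀ v, θ a (θ a v * v⁻¹) * (θ a v * v⁻¹)⁻¹ = 1 := fun v => by
      obtain ⟨x, rfl⟩ := QuotientAddGroup.mk_surjective v
      show Multiplicative.ofAdd ((a • (a • x + -x) + -(a • x + -x) : M) : M ⧸ V) = 1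
      rw [show ((a • (a • x + -x) + -(a • x + -x) : M) : M ⧸ V) = 0 from (QuotientAddGroup.eq_zero_iff _).2 (by
        simp only [← sub_eq_add_neg]; exact hPV _ (hMP x))]
      rfl
    have hn : θ a ∈ normalizer (ρ.ker.map θ : Set (MulAut (Multiplicative (M ⧸ V)))) := by
      refine mem_normalizer_fintype ?_
      rintro _ ⟨c, hc, rfl⟩
      exact ⟨a * c * a⁻¹, (MonoidHom.normal_ker ρ).conj_mem c hc a, by simp⟩
    intro c hc
    set d := a * c * a⁻¹ * c⁻¹ with hd
    have hdk : d ∈ ρ.ker := mul_mem ((MonoidHom.normal_ker ρ).conj_mem c hc a) (inv_mem hc)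
    have hθd : θ d = 1 := by
      rw [hd, map_mul, map_mul, map_mul, map_inv, map_inv,
        quad_commute hp hW _ hD hn hq (θ c) ⟨c, hc, rfl⟩]
      group
    have hdV : ∀ x : M, d • x - x ∈ V := fun x => by
      rw [← QuotientAddGroup.eq_zero_iff, QuotientAddGroup.mk_sub, sub_eq_zero]
      have h := congrArg (fun e : MulAut (Multiplicative (M ⧸ V)) => e (Multiplicative.ofAdd (x : M ⧸ V))) hθd
      exact Multiplicative.ofAdd.injective h
    have hdk' : ∀ (k : ℕ) (x : M), d ^ k • x = x + k • (d • x - x) := by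
      intro k x
      induction k with
      | zero => simp
      | succ k ih =>
        have e : d • (k • (d • x - x)) = k • (d • x - x) := by
          exact hVC d hdk _ (V.nsmul_mem (hdV x) k)
        rw [pow_succ', mul_smul, ih, smul_add, e, succ_nsmul]
        abel
    have hd1 : ∀ x : M, d • x = x := hC d hdk 1 fun x => by
      rw [pow_one, hdk', hM, add_zero]
    intro x
    have h := hd1 (c • a • x)
    rw [hd] at h
    rwa [mul_smul, mul_smul, mul_smul, inv_smul_smul, inv_smul_smul] at h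
  have hconjC : ∀ (g : L) (k : ℕ), ∀ c ∈ ρ.ker, ∀ x : M,
      (g * a ^ k * g⁻¹) • c • x = c • (g * a ^ k * g⁻¹) • x := by
    intro g k c hc x
    have hcg : g⁻¹ * c * g ∈ ρ.ker := by
      simpa using (MonoidHom.normal_ker ρ).conj_mem c hc g⁻¹
    have e : ∀ (m : ℕ) (y : M), a ^ m • (g⁻¹ * c * g) • y = (g⁻¹ * c * g) • a ^ m • y := by
      intro m y
      induction m with
      | zero => simp
      | succ m ih => rw [pow_succ', mul_smul, ih, haC _ hcg, ← mul_smul a]
    have h := e k (g⁻¹ • x)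
    simp only [← mul_smul] at h ⊢
    calc (g * a ^ k * g⁻¹ * c) • x = g • ((a ^ k * ((g⁻¹ * c * g) * g⁻¹)) • x) := by
          rw [← mul_smul]; congr 1; group
      _ = g • ((g⁻¹ * c * g * (a ^ k * g⁻¹)) • x) := by rw [h]
      _ = (c * (g * a ^ k * g⁻¹)) • x := by rw [← mul_smul]; congr 1; group
  -- conjugates of powers are determined by their images
  have hagree : ∀ (g h : L) (k m : ℕ), ρ (g * a ^ k * g⁻¹) = ρ (h * a ^ m * h⁻¹) → ∀ x : M,
      (h * a ^ m * h⁻¹) • x = (g * a ^ k * g⁻¹) • x :=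
    fun g h k m e x => agree ρ hC e (hconjp g k) (hconjp h m) (hconjC g k) x
  -- the Weyl element
  obtain ⟨g, hg⟩ := hρ (weyl t ht)
  have hgN : ρ g ∉ Subgroup.normalizer (upGroup F : Set SL(2, F)) := fun h => by
    have h2 := ((Subgroup.mem_normalizer_iff.1 h) (up 1)).1 (up_mem 1)
    have h3 := h2.2.1
    simp [slMul_apply, slInv_apply, hg, up_val, weyl_val, ht] at h3
  set a' := g * a⁻¹ * g⁻¹ with ha'
  set w := a * a'⁻¹ * a with hw
  set N' : M → M := fun x => a' • x - x with hN'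
  have hai : ∀ x : M, a⁻¹ • x = x - N x + N (N x) := fun x => by
    have : a • (x - N x + N (N x)) = x := by
      rw [smul_add, smul_sub, h3]
      show a • x - a • (a • x - x) + (a • (a • x - x) - (a • x - x)) = x
      abel
    conv_lhs => rw [← this]
    rw [inv_smul_smul]
  -- the images
  have hρa' : ρ a' = lo t⁻¹ := by
    rw [ha', map_mul, map_mul, map_inv, map_inv, ha, hg]
    refine slExt ?_ ?_ ?_ ?_ <;>
      simp [up_val, weyl_val, diagTwo_val, lo_val, slMul_apply, slInv_apply, ht] <;> field_simp <;> ring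
  have hρw : ρ w = ρ g := by
    rw [hw, map_mul, map_mul, map_inv, ha, hρa', hg]
    refine slExt ?_ ?_ ?_ ?_ <;>
      simp [up_val, weyl_val, diagTwo_val, lo_val, slMul_apply, slInv_apply, ht] <;> field_simp <;> ring
  have hwconj : ∀ x : M, (w * a * w⁻¹) • x = a'⁻¹ • x := fun x => by
    have e : a'⁻¹ = g * a ^ 1 * g⁻¹ := by rw [ha', pow_one]; group
    have := hagree g w 1 1 (by
      simp only [pow_one, map_mul, map_inv, hρw]) x
    rw [e]
    simpa using this
  -- fixed spaces
  have hfix' : ∀ x : M, a • x - x ∈ V ↔ x ∈ P := fun x => ⟨hfix x, hPV x⟩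
  have hP' : ∀ x : M, g⁻¹ • x ∈ P ↔ N' x ∈ V := fun x => by
    have e1 : N' x = g • (a⁻¹ • (g⁻¹ • x) - g⁻¹ • x) := by
      rw [smul_sub, smul_inv_smul]
      show a' • x - x = _
      rw [ha', mul_smul, mul_smul]
    have e2 : a⁻¹ • (g⁻¹ • x) - g⁻¹ • x = a⁻¹ • (-(a • (g⁻¹ • x) - g⁻¹ • x)) := by
      rw [smul_neg, smul_sub, inv_smul_smul, neg_sub]
    rw [e1, e2, ← hfix']
    constructor
    · intro h; exact hV _ _ (hV _ _ (V.neg_mem h))
    · intro h
      have h1 := hV a _ (hV g⁻¹ _ h)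
      rw [inv_smul_smul, smul_inv_smul] at h1
      simpa using V.neg_mem h1
  have hwP : ∀ y : M, y ∈ P ↔ N' (w • y) ∈ V := fun y => by
    have e : (w * a * w⁻¹) • (w • y) = a'⁻¹ • (w • y) := hwconj _
    rw [mul_smul, inv_smul_smul, mul_smul] at e
    have e2 : N' (w • y) = -(a' • (w • (a • y - y))) := by
      show a' • (w • y) - w • y = _
      rw [smul_sub, e, smul_sub, smul_inv_smul, neg_sub]
    rw [e2, ← hfix']
    constructor
    · intro h; exact V.neg_mem (hV _ _ (hV _ _ h))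
    · intro h
      have h1 := hV w⁻¹ _ (hV a'⁻¹ _ (V.neg_mem h))
      rwa [neg_neg, inv_smul_smul, inv_smul_smul] at h1
  have hw2 : ∀ y : M, w • w • y ∈ P ↔ y ∈ P := fun y => by
    have e : ∀ x : M, (w * w * a * (w * w)⁻¹) • x = a • x := fun x => by
      have := hagree 1 (w * w) 1 1 (by
        simp only [pow_one, map_mul, map_inv, map_one, hρw, ha, hg, one_mul, inv_one, mul_one]
        refine slExt ?_ ?_ ?_ ?_ <;>
          simp [up_val, weyl_val, diagTwo_val, slMul_apply, slInv_apply, ht] <;> field_simp <;> ring) x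
      simpa using this
    have e' := e (w • w • y)
    rw [← mul_smul w w y, mul_smul (w * w * a), inv_smul_smul, mul_smul (w * w) a y] at e'
    rw [← hfix', ← hfix', ← mul_smul w w y, ← e', ← smul_sub]
    constructor
    · intro h
      have h1 := hV (w * w)⁻¹ _ h
      rwa [inv_smul_smul] at h1
    · intro h; exact hV _ _ h
  -- congruences
  have hN'M : ∀ x : M, N' (N' x) ∈ V := fun x => by
    have hm : g⁻¹ • N' x ∈ P := by
      have e : g⁻¹ • N' x = a⁻¹ • (g⁻¹ • x) - g⁻¹ • x := by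
        show g⁻¹ • (a' • x - x) = _
        rw [smul_sub, ha', mul_smul, mul_smul, inv_smul_smul]
      rw [e, hai]
      have h1 : -N (g⁻¹ • x) + N (N (g⁻¹ • x)) ∈ P :=
        P.add_mem (P.neg_mem (hMP _)) (hMP _)
      have e' : g⁻¹ • x - N (g⁻¹ • x) + N (N (g⁻¹ • x)) - g⁻¹ • x = -N (g⁻¹ • x) + N (N (g⁻¹ • x)) := by abel
      rwa [e']
    exact (hP' _).1 hm
  let q : M →+ M ⧸ P := QuotientAddGroup.mk' P
  have qV : ∀ v ∈ V, q v = 0 := fun v hv => (QuotientAddGroup.eq_zero_iff _).2 (hVP hv)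
  have qa : ∀ x, q (a • x) = q x := fun x => by
    rw [← sub_eq_zero, ← map_sub]; exact (QuotientAddGroup.eq_zero_iff _).2 (hMP x)
  have qai : ∀ x, q (a⁻¹ • x) = q x := fun x => by
    have := qa (a⁻¹ • x); rw [smul_inv_smul] at this; exact this.symm
  have qak : ∀ (k : ℕ) (x : M), q (a ^ k • x) = q x := fun k x => by
    induction k with
    | zero => simp
    | succ k ih => rw [pow_succ', mul_smul, qa, ih]
  have hadd : ∀ x y, N' (x + y) = N' x + N' y := fun x y => by
    show a' • (x + y) - (x + y) = (a' • x - x) + (a' • y - y)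
    rw [smul_add]; abel
  let N'h : M →+ M := AddMonoidHom.mk' N' hadd
  have hN'V : ∀ v ∈ V, N' v ∈ V := fun v hv => V.sub_mem (hV _ _ hv) hv
  have qpow : ∀ (k : ℕ) (x : M), q ((a'⁻¹) ^ k • x) = q x - k • q (N' x) := fun k x => by
    suffices h : (a'⁻¹) ^ k • x - x + k • N' x ∈ V by
      have := qV _ h
      rw [map_add, map_sub, map_nsmul] at this
      rw [← sub_eq_zero, ← this]; abel
    induction k generalizing x with
    | zero => simp
    | succ k ih =>
      have hy := ih (a'⁻¹ • x)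
      have h2 : N' (a'⁻¹ • x) - N' x ∈ V := by
        have e : N' (a'⁻¹ • x) - N' x = -(N' (N' (a'⁻¹ • x))) := by
          have e0 : N' (a'⁻¹ • x) = x - a'⁻¹ • x := by
            show a' • a'⁻¹ • x - a'⁻¹ • x = _
            rw [smul_inv_smul]
          conv_rhs => rw [e0]
          rw [show N' (x - a'⁻¹ • x) = N' x - N' (a'⁻¹ • x) from map_sub N'h x (a'⁻¹ • x)]
          abel
        rw [e]; exact V.neg_mem (hN'M _)
      have h1 : a'⁻¹ • x - x + N' (a'⁻¹ • x) = 0 := by
        show a'⁻¹ • x - x + (a' • a'⁻¹ • x - a'⁻¹ • x) = 0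
        rw [smul_inv_smul]; abel
      have h4 := V.sub_mem hy (V.nsmul_mem h2 (k + 1))
      convert h4 using 1
      rw [pow_succ, mul_smul, nsmul_sub (N' (a'⁻¹ • x)) (N' x) (k + 1), succ_nsmul (N' (a'⁻¹ • x)) k]
      calc (a'⁻¹) ^ k • a'⁻¹ • x - x + (k + 1) • N' x
          = (a'⁻¹) ^ k • a'⁻¹ • x - a'⁻¹ • x + (k + 1) • N' x + (a'⁻¹ • x - x + N' (a'⁻¹ • x)) -
            N' (a'⁻¹ • x) := by abel
        _ = _ := by rw [h1]; abel
  -- the diagonal element
  obtain ⟨j, hj⟩ : ∃ j : ℕ, (j : ZMod p) = (2 : ZMod p)⁻¹ := ⟨_, ZMod.natCast_zmod_val _⟩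
  have h2 : (2 : ZMod p) ≠ 0 := fun h => by
    have h' := (ZMod.natCast_eq_zero_iff 2 p).1 (by exact_mod_cast h)
    exact absurd (Nat.le_of_dvd two_pos h') (by omega)
  have hjF : (j : F) * 2 = 1 := by
    have h : ((j * 2 : ℕ) : ZMod p) = ((1 : ℕ) : ZMod p) := by push_cast; rw [hj, inv_mul_cancel₀ h2]
    rw [ZMod.natCast_eq_natCast_iff, ← CharP.natCast_eq_natCast F p] at h
    push_cast at h
    exact h
  have hj2 : ∀ x : M, (2 * j) • x = x := fun x => by
    have h : ((2 * j : ℕ) : ZMod p) = ((1 : ℕ) : ZMod p) := by push_cast; rw [hj, mul_inv_cancel₀ h2]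
    rw [ZMod.natCast_eq_natCast_iff'] at h
    rw [← Nat.div_add_mod (2 * j) p, h, Nat.mod_eq_of_lt (by omega : 1 < p), add_nsmul,
      nsmul_eq_zero_of_dvd hM (dvd_mul_right p _), zero_add, one_nsmul]
  set h := a ^ 2 * (a'⁻¹) ^ j * a ^ 2 * w⁻¹ with hh
  have hρh : ρ h = diagTwo (2 : F) (j : F) (by rw [mul_comm]; exact hjF) := by
    have hlo : ∀ k : ℕ, ρ ((a'⁻¹) ^ k) = lo (-(k : F) * t⁻¹) := fun k => by
      induction k with
      | zero => refine slExt ?_ ?_ ?_ ?_ <;> simp [lo_val]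
      | succ k ih =>
        rw [pow_succ, map_mul, ih, map_inv, hρa']
        refine slExt ?_ ?_ ?_ ?_ <;>
          simp [lo_val, slMul_apply, slInv_apply] <;> ring
    rw [hh, map_mul, map_mul, map_mul, map_inv, map_pow, hlo, hρw, ha, hg]
    refine slExt ?_ ?_ ?_ ?_ <;>
      simp [up_val, weyl_val, diagTwo_val, lo_val, pow_two, slMul_apply, slInv_apply, ht] <;> field_simp <;> grind
  have hq : ∀ u : M, q (a ^ 2 • (a'⁻¹) ^ j • a ^ 2 • u) = q u - j • q (N' u) - q (N' (N u)) := fun u => by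
    rw [qak, qpow, qak, hpow 2 u, show N' (u + 2 • (a • u - u) + Nat.choose 2 2 • (a • (a • u - u) - (a • u - u))) =
      N' u + 2 • N' (N u) + Nat.choose 2 2 • N' (N (N u)) by
        rw [hadd, hadd]
        show N'h u + N'h (2 • N u) + N'h (_ • N (N u)) = _
        rw [map_nsmul, map_nsmul]; rfl]
    have hz : q (N' (N (N u))) = 0 := qV _ (hN'V _ (hPV _ (hMP u)))
    rw [map_add, map_add, map_nsmul, map_nsmul, hz, nsmul_zero, add_zero, nsmul_add, ← mul_nsmul,
      show (2 * j) • q (N' (N u)) = q (N' (N u)) by rw [← map_nsmul, hj2]]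
    abel
  have key : ∀ x : M, q (h • x) = q (j • x) := by
    intro x
    obtain ⟨y, hy, z, hz, rfl⟩ := hgen g hgN x
    have hy' : q (h • y) = 0 := by
      set u := w⁻¹ • y with hu
      have hu' : N' u ∈ V := by
        have hyu : w • u = y := by rw [hu, smul_inv_smul]
        have h1 : w⁻¹ • u ∈ P := (hw2 _).1 (by rw [smul_inv_smul, hyu]; exact hy)
        have := (hwP _).1 h1
        rwa [smul_inv_smul] at this
      rw [hh, mul_smul, mul_smul, mul_smul, ← hu, hq]
      -- `u = a⁻¹ a' a⁻¹ y`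
      have e1 : u = a⁻¹ • a' • a⁻¹ • y := by
        rw [hu, hw]; simp only [mul_inv_rev, inv_inv, mul_smul]
      have e2 : q u = q (N' y) := by
        have e3 : a' • a⁻¹ • y = y + N' y + a' • (a⁻¹ • y - y) := by
          show _ = y + (a' • y - y) + _
          rw [smul_sub]; abel
        have e4 : a⁻¹ • y - y ∈ V := by
          rw [hai, hN2P y hy, add_zero, sub_sub_cancel_left]
          exact V.neg_mem (hPV y hy)
        rw [e1, qai, e3, map_add, map_add, qV _ (hV _ _ e4), (QuotientAddGroup.eq_zero_iff y).2 hy |> fun h =>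
          (h : q y = 0), zero_add, add_zero]
      have e5 : q (N' (N u)) = q (N' y) := by
        have hd : a • u = a' • (a⁻¹ • y) := by rw [e1, smul_inv_smul]
        have e6 : N u = a' • a⁻¹ • y - u := by rw [← hd]
        have e7 : N' (N u) = N' (a' • a⁻¹ • y) - N' u := by rw [e6]; exact map_sub N'h _ _
        have e8 : N' (a' • a⁻¹ • y) = N' (a⁻¹ • y) + N' (N' (a⁻¹ • y)) := by
          rw [← hadd]
          congr 1
          show a' • a⁻¹ • y = a⁻¹ • y + (a' • a⁻¹ • y - a⁻¹ • y)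
          abel
        have e9 : N' (a⁻¹ • y) = N' y + N' (a⁻¹ • y - y) := by
          rw [← hadd]; congr 1; abel
        have e10 : a⁻¹ • y - y ∈ V := by
          rw [hai, hN2P y hy, add_zero, sub_sub_cancel_left]
          exact V.neg_mem (hPV y hy)
        rw [e7, map_sub, qV _ hu', e8, map_add, qV _ (hN'M _), e9, map_add, qV _ (hN'V _ e10), sub_zero, add_zero,
          add_zero]
      rw [e2, e5, qV _ hu', nsmul_zero, sub_zero, sub_self]
    have hz' : q (h • g • z) = q (j • g • z) := by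
      set p₀ := w⁻¹ • g • z with hp₀
      have hp₀P : p₀ ∈ P := by
        rw [hwP, hp₀, smul_inv_smul]
        exact (hP' _).1 (by rwa [inv_smul_smul])
      have ez : g • z = a • a'⁻¹ • a • p₀ := by
        rw [← mul_smul a'⁻¹, ← mul_smul a, ← mul_assoc, ← hw, hp₀, smul_inv_smul]
      rw [hh, mul_smul, mul_smul, mul_smul, ← hp₀, hq]
      have e0 : q p₀ = 0 := (QuotientAddGroup.eq_zero_iff p₀).2 hp₀P
      have e1 : q (N' (N p₀)) = 0 := qV _ (hN'V _ (hPV _ hp₀P))
      have e2 : q (g • z) = -q (N' p₀) := by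
        have h := qpow 1 (a • p₀)
        rw [pow_one, one_nsmul, qa, e0, zero_sub] at h
        rw [ez, qa, h]
        congr 1
        have hd : a • p₀ = p₀ + N p₀ := by show _ = p₀ + (a • p₀ - p₀); abel
        rw [hd, hadd, map_add, e1, add_zero]
      rw [e0, e1, map_nsmul, e2, neg_nsmul]
      abel
    rw [smul_add, map_add, hy', hz', zero_add, nsmul_add, map_add, map_nsmul q j y,
      show q y = 0 from (QuotientAddGroup.eq_zero_iff y).2 hy, nsmul_zero, zero_add]
  -- the count of the scalars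
  intro x
  have hh4 : ∀ y : M, h • a • y = a ^ 4 • h • y := fun y => by
    have := hagree 1 h 4 1 (by
      simp only [map_mul, map_inv, map_pow, map_one, hρh, ha, one_mul, inv_one, mul_one, pow_one]
      have hup : ∀ k : ℕ, up t ^ k = up ((k : F) * t) := fun k => by
        induction k with
        | zero => refine slExt ?_ ?_ ?_ ?_ <;> simp [up_val]
        | succ k ih =>
          rw [pow_succ, ih]
          refine slExt ?_ ?_ ?_ ?_ <;>
            simp [up_val, weyl_val, diagTwo_val, slMul_apply] <;> ring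
      rw [hup]
      refine slExt ?_ ?_ ?_ ?_ <;>
        simp [up_val, weyl_val, diagTwo_val, slMul_apply, slInv_apply] <;> grind) (h • y)
    simp only [pow_one, one_mul, inv_one, mul_one] at this
    rwa [mul_smul, inv_smul_smul, mul_smul] at this
  let Nh : M →+ M := AddMonoidHom.mk' N fun x y => by
    show a • (x + y) - (x + y) = (a • x - x) + (a • y - y)
    rw [smul_add]; abel
  have hN3 : ∀ y : M, N (N (N y)) = 0 := fun y => sub_eq_zero.2 (h3 y)
  have h4 : ∀ y : M, a ^ 4 • y - y = 4 • Nh y + 6 • Nh (Nh y) := fun y => by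
    rw [hpow, show Nat.choose 4 2 = 6 from rfl]
    show y + 4 • N y + 6 • N (N y) - y = 4 • N y + 6 • N (N y)
    abel
  have hN3' : ∀ y : M, Nh (Nh (Nh y)) = 0 := hN3
  have hD : ∀ y : M, h • Nh y = a ^ 4 • h • y - h • y := fun y => by
    show h • (a • y - y) = _
    rw [smul_sub, hh4]
  have e16 : h • Nh (Nh x) = 16 • Nh (Nh (h • x)) := by
    rw [hD, hD, h4, h4]
    simp only [map_add, map_nsmul, hN3', nsmul_zero, map_zero, add_zero, ← mul_nsmul]
  have hjx : Nh (Nh (h • x)) = j • Nh (Nh x) := by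
    have hm : h • x - j • x ∈ P := by
      rw [← QuotientAddGroup.eq_zero_iff]
      show q (h • x - j • x) = 0
      rw [map_sub, key, sub_self]
    have h1 : Nh (Nh (h • x - j • x)) = 0 := hN2P _ hm
    rw [map_sub, map_sub, map_nsmul, map_nsmul, sub_eq_zero] at h1
    exact h1
  have hz := hsq x
  change Nh (Nh x) ∈ Zt at hz
  show Nh (Nh x) ∈ Zb
  set e := Nh (Nh x)
  have h2z := hZt h 2 (by rw [hρh]; rfl) (by rw [hρh, diagTwo_val]; simp) e hz
  have h16 : h • e = 8 • e := by
    rw [e16, hjx, ← mul_nsmul, show j * 16 = (2 * j) * 8 by ring, mul_nsmul, hj2]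
  have h6 : 6 • e ∈ Zb := by
    rw [h16] at h2z
    rwa [show 6 • e = 8 • e - 2 • e by rw [eq_sub_iff_add_eq, ← add_nsmul]]
  obtain ⟨k, hk⟩ : ∃ k : ℕ, ((6 * k : ℕ) : ZMod p) = 1 := ⟨((6 : ZMod p)⁻¹).val, by
    push_cast
    rw [ZMod.natCast_zmod_val, mul_inv_cancel₀]
    intro h0
    have h6d := (ZMod.natCast_eq_zero_iff 6 p).1 (by exact_mod_cast h0)
    have : p ∣ 2 * 3 := h6d
    rcases hpp.dvd_mul.1 this with hd | hd <;> have := Nat.le_of_dvd (by norm_num) hd <;> omega⟩
  have hmod : (6 * k) % p = 1 := by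
    have := congrArg ZMod.val hk
    rwa [ZMod.val_natCast, ZMod.val_one] at this
  rw [show e = (6 * k) • e from by
    rw [← Nat.div_add_mod (6 * k) p, hmod, add_nsmul, nsmul_eq_zero_of_dvd hM (dvd_mul_right p _), zero_add,
      one_nsmul], mul_nsmul]
  exact Zb.nsmul_mem h6 k

end CfsgLib.PushAmalgam
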