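import Cfsg.Agent.Lib.PushAmalgam.Gen
import Cfsg.Agent.Lib.PushAmalgam.Layer
import Cfsg.Agent.Lib.PushAmalgam.SqCentral

/-!
# Pushing up in rank one: `b = 2` and `p ≥ 5`
-/

set_option autoImplicit false
set_option linter.style.haveILetI false
set_option linter.unusedSectionVars false

open Subgroup
open scoped MatrixGroups commutatorElement Pointwise
open CfsgLib.PushUp (cj mem_cj conj_mem_cj cj_mono ctr Fr)
open CfsgLib.PushUpTwo (up lo upGroup)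

namespace CfsgLib.PushAmalgam

universe u

variable {Γ : Type u} [Group Γ] {p : ℕ} [Fact p.Prime] {A B C D e₀ e₁ e₂ : Subgroup Γ}

namespace Quad

theorem five (d : Quad p A B C D e₀ e₁ e₂) (hp : 5 ≤ p) {n y : Γ} (hn : n ∈ Vo p A)
    (hy : y ∈ Vo p D) : ⁅y, n⁆ ∈ Vo p C := by
  by_cases hyQ : y ∈ Qo p B
  · have h0 := d.flip.mem_ctr₀ hy fun w hw => commute_of_cent (d.mB.V_cent_Q hw) hyQ
    exact comm_mem' (d.mC.good.normV (d.mC.good.le (d.VA_le_e₁ hn))) (d.mC₂.facts.zle h0)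
  haveI := d.mB.good.fin
  haveI := d.mB.base.fin
  obtain ⟨F, _, _, hchar, hcard, ρ, ψ, hρ, hker, hT, hψ, hψ1, hψh, hψz⟩ := d.mB.natural
  haveI := hchar
  have hQn : B ≤ normalizer (Qo p B : Set Γ) := d.mB.good.normQ
  haveI : Finite ↥(Qo p B) := finite_of_le d.mB.good.Q_le
  obtain ⟨M, iM, iMf, iA, π, hπ, hπ0, hMp, hπg⟩ :=
    exists_layer (p := p) (d.mB.base.isp.to_le d.mB.good.Q_le) hQn
  obtain ⟨hFrP, hFry⟩ := d.Fr_QB
  have hyB : y ∈ B := d.mB.good.le (d.VD_le hy)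
  obtain ⟨a, ha⟩ : ∃ a : ↥B, a = ⟨y, hyB⟩ := ⟨_, rfl⟩
  have hay : (a : Γ) = y := by rw [ha]
  -- the images of subgroups of `Q`
  let im : Subgroup Γ → AddSubgroup M := fun Y =>
    { carrier := {x | ∃ q : ↥(Qo p B), (q : Γ) ∈ Y ∧ Multiplicative.toAdd (π q) = x}
      zero_mem' := ⟨1, one_mem Y, by simp⟩
      add_mem' := by
        rintro _ _ ⟨q, hq, rfl⟩ ⟨r, hr, rfl⟩
        exact ⟨q * r, mul_mem hq hr, by simp⟩
      neg_mem' := by
        rintro _ ⟨q, hq, rfl⟩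
        exact ⟨q⁻¹, inv_mem hq, by simp⟩ }
  have him : ∀ {Y : Subgroup Γ} {x : M}, x ∈ im Y ↔
      ∃ q : ↥(Qo p B), (q : Γ) ∈ Y ∧ Multiplicative.toAdd (π q) = x := Iff.rfl
  have hπeq : ∀ {q r : ↥(Qo p B)}, Multiplicative.toAdd (π q) = Multiplicative.toAdd (π r) →
      (r : Γ)⁻¹ * q ∈ Fr (Qo p B) := fun {q r} h => by
    have h1 : π (r⁻¹ * q) = 1 := by
      rw [map_mul, map_inv, Multiplicative.toAdd.injective h, inv_mul_cancel]
    simpa using (hπ0 _).1 h1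
  have hgen : ∀ (g : ↥B) (q : ↥(Qo p B)), ∃ r : ↥(Qo p B), (r : Γ) = g * q * (g : Γ)⁻¹ ∧
      Multiplicative.toAdd (π r) = g • Multiplicative.toAdd (π q) := fun g q =>
    ⟨⟨_, mem_normalizer_conj (hQn g.2) q.2⟩, rfl, hπg g q _ rfl⟩
  have hsub : ∀ (g : ↥B) (q : ↥(Qo p B)), ∃ c : ↥(Qo p B), (c : Γ) = ⁅(g : Γ), (q : Γ)⁆ ∧
      Multiplicative.toAdd (π c) =
        g • Multiplicative.toAdd (π q) - Multiplicative.toAdd (π q) := fun g q => by
    obtain ⟨r, hr, hr'⟩ := hgen g q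
    refine ⟨r * q⁻¹, by rw [Subgroup.coe_mul, Subgroup.coe_inv, hr, commutatorElement_def], ?_⟩
    rw [map_mul, map_inv, toAdd_mul, toAdd_inv, hr', sub_eq_add_neg]
  have hsurj : ∀ x : M, ∃ q : ↥(Qo p B), Multiplicative.toAdd (π q) = x := fun x => by
    obtain ⟨q, hq⟩ := hπ (Multiplicative.ofAdd x)
    exact ⟨q, by rw [hq]; rfl⟩
  obtain ⟨P, hP⟩ : ∃ P, P = Qo p B ⊓ Qo p C := ⟨_, rfl⟩
  have hPT : e₁ ≤ normalizer (P : Set Γ) := hP ▸ le_normalizer_inf d.mB.T_normQ d.mC.T_normQ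
  have hVP : Vo p B ≤ P := hP ▸ le_inf d.mB.V_le_Q d.VB_le
  have hXP : Vo p B ⊔ Vo p C ≤ P := sup_le hVP (hP ▸ le_inf d.VC_le d.mC.V_le_Q)
  have hyT : y ∈ e₁ := d.VD_le hy
  -- commutators with `y`
  have hPy : ∀ u ∈ P, ⁅y, u⁆ ∈ ctr e₁ := by
    intro u hu
    rw [← commutatorElement_inv]
    refine inv_mem (mem_inf.2 ⟨?_, centralizer_le d.mC.good.le
      (d.flip.P_cent hy (hP ▸ hu : u ∈ Qo p B ⊓ Qo p C).2)⟩)
    have huT : u ∈ e₁ := d.mB.good.Q_le (hP ▸ hu : u ∈ Qo p B ⊓ Qo p C).1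
    exact mul_mem (mul_mem (mul_mem huT hyT) (inv_mem huT)) (inv_mem hyT)
  have hXy : ∀ w ∈ Vo p B ⊔ Vo p C, ∃ b ∈ Vo p B, ∃ c ∈ Vo p C, w = b * c ∧ ⁅y, w⁆ = ⁅y, b⁆ := by
    intro w hw
    rw [← SetLike.mem_coe, coe_mul_of_left_le_normalizer_right _ _
      (d.mB.V_le.trans d.mC.T_normV)] at hw
    obtain ⟨b, hb, c, hc, rfl⟩ := hw
    refine ⟨b, hb, c, hc, rfl, ?_⟩
    rw [show ⁅y, b * c⁆ = ⁅y, b⁆ * (b * ⁅y, c⁆ * b⁻¹) by simp only [commutatorElement_def]; group,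
      commutatorElement_eq_one_iff_commute.2 (d.cCD c hc y hy).symm, mul_one, mul_inv_cancel, mul_one]
  have hQy : ∀ q ∈ Qo p B, ∃ n' ∈ Vo p A, ∃ z ∈ ctr e₁, ⁅y, q⁆ = ⁅y, n'⁆ * z ∧ n'⁻¹ * q ∈ P := by
    intro q hq
    obtain ⟨n', hn', u, hu, rfl⟩ := d.QB_eq hq
    have hz := hPy u (hP ▸ hu)
    refine ⟨n', hn', _, hz, ?_, by rw [inv_mul_cancel_left]; exact hP ▸ hu⟩
    rw [show ⁅y, n' * u⁆ = ⁅y, n'⁆ * (n' * ⁅y, u⁆ * n'⁻¹) by simp only [commutatorElement_def]; group,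
      (commute_of_cent hz.2 (d.VA_le_e₁ hn')).eq, mul_inv_cancel_right]
  have hyX : ∀ n' ∈ Vo p A, ⁅y, n'⁆ ∈ Vo p B ⊔ Vo p C := fun n' hn' => by
    rw [← commutatorElement_inv]
    exact inv_mem (d.inner n' hn' y hy)
  have hzP : ctr e₁ ≤ P := d.mB.facts.zle.trans hVP
  -- `y` moves `Q / P`
  have hfix : ∀ n' ∈ Vo p A, ∀ v ∈ Vo p B, v⁻¹ * ⁅y, n'⁆ ∈ Fr (Qo p B) → n' ∈ P := by
    intro n' hn' v hv hf
    by_cases hm : ⁅y, n'⁆ ∈ Vo p B
    · by_contra hnP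
      have hnz : n' ∉ ctr e₀ := fun h => hnP (hVP (d.mB₀.facts.zle h))
      have hiff : ∀ q ∈ Qo p B, q ∈ Qo p A ↔ Commute q n' := fun q hq =>
        ⟨fun h => commute_of_cent (d.mA.V_cent_Q hn') h,
          fun h => d.mA.cent_elem hn' hnz (d.mB₀.good.Q_le hq) h⟩
      have key : ∀ g : Γ, g ∈ B → g * n' * g⁻¹ * n'⁻¹ ∈ Vo p B →
          ∀ q ∈ Qo p B ⊓ Qo p A, g⁻¹ * q * g ∈ Qo p B ⊓ Qo p A := by
        intro g hg hv' q hq
        have hqB := mem_normalizer_conj' (hQn hg) hq.1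
        refine mem_inf.2 ⟨hqB, (hiff _ hqB).2 ?_⟩
        obtain ⟨v', hv'e⟩ : ∃ v', v' = g * n' * g⁻¹ * n'⁻¹ := ⟨_, rfl⟩
        rw [← hv'e] at hv'
        have h1 : Commute q (v' * n') :=
          (commute_of_cent (d.mB.V_cent_Q hv') hq.1).mul_right ((hiff q hq.1).1 hq.2)
        have e : v' * n' = g * n' * g⁻¹ := by rw [hv'e]; group
        rw [e] at h1
        show g⁻¹ * q * g * n' = n' * (g⁻¹ * q * g)
        calc g⁻¹ * q * g * n' = g⁻¹ * (q * (g * n' * g⁻¹)) * g := by group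
          _ = g⁻¹ * ((g * n' * g⁻¹) * q) * g := by rw [h1.eq]
          _ = _ := by group
      have hyN : y ∈ normalizer ((Qo p B ⊓ Qo p A : Subgroup Γ) : Set Γ) := by
        have h1 : y * n' * y⁻¹ * n'⁻¹ ∈ Vo p B := hm
        have h2 : y⁻¹ * n' * y⁻¹⁻¹ * n'⁻¹ ∈ Vo p B := by
          rw [show y⁻¹ * n' * y⁻¹⁻¹ * n'⁻¹ = y⁻¹ * ⁅y, n'⁆⁻¹ * y by
            simp only [commutatorElement_def]; group]
          exact mem_normalizer_conj' (d.mB.good.normV hyB) (inv_mem hm)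
        refine CfsgLib.PushUp.mem_normalizer_of_forall (fun q hq => ?_) fun q hq => key y hyB h1 q hq
        simpa using key y⁻¹ (inv_mem hyB) h2 q hq
      -- `e₀` and `y` generate `B`
      obtain ⟨x, hx, hx0⟩ := d.mB.good.conjugate d.mB₀.good
      obtain ⟨g, hg⟩ : ∃ g : ↥B, g = ⟨x, hx⟩ := ⟨_, rfl⟩
      have hxN : (ρ g).1 1 0 ≠ 0 := by
        intro h0
        have hN := sl_mem_normalizer h0
        have hsub : e₀.subgroupOf B ≤ (e₁.subgroupOf B).map (MulAut.conj g).toMonoidHom := by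
          intro z hz
          have hz' : (z : Γ) ∈ cj x e₁ := hx0 ▸ hz
          refine ⟨g⁻¹ * z * g, ?_, by simp [mul_assoc]⟩
          show ((g⁻¹ * z * g : ↥B) : Γ) ∈ e₁
          simpa [hg] using mem_cj.1 hz'
        have hle : (e₀.subgroupOf B ⊔ e₁.subgroupOf B).map ρ ≤ upGroup F := by
          rw [Subgroup.map_sup, sup_le_iff, map_le_iff_le_comap]
          refine ⟨fun z hz => ?_, hT.le⟩
          obtain ⟨w, hw, rfl⟩ := hsub hz
          show ρ (g * w * g⁻¹) ∈ upGroup F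
          rw [map_mul, map_mul, map_inv]
          exact mem_normalizer_conj hN (hT.le (mem_map_of_mem ρ hw))
        rw [← subgroupOf_sup d.mB₀.good.le d.mB.good.le, d.joinB, subgroupOf_self,
          ← MonoidHom.range_eq_map, MonoidHom.range_eq_top.2 hρ] at hle
        exact one_ne_zero (hle (mem_top (lo (1 : F)))).2.1
      obtain ⟨Y, hY⟩ : ∃ Y, Y = cj x⁻¹ (e₀ ⊔ zpowers y) := ⟨_, rfl⟩
      have hYB : e₀ ⊔ zpowers y ≤ B := sup_le d.mB₀.good.le (zpowers_le.2 hyB)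
      have hY2 : Y = B := by
        refine d.mB.eq_of_entry hker hT ?_ ?_ (x := g⁻¹ * a * g) ?_ ?_
        · rw [hY, cj_sup, hx0, cj_inv_cj]; exact le_sup_left
        · rw [hY]; exact (cj_mono hYB).trans (d.mB.good.cjH (inv_mem hx)).le
        · rw [hY, mem_cj, inv_inv]
          simp only [hg, ha, Subgroup.coe_mul, Subgroup.coe_inv]
          rw [show x * (x⁻¹ * y * x) * x⁻¹ = y by group]
          exact mem_sup_right (mem_zpowers y)
        · obtain ⟨t, ht⟩ : ∃ t, ρ a = up t :=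
            ⟨_, CfsgLib.PushUpTwo.eq_up_of_mem (hT.le (mem_map_of_mem ρ
              (show a ∈ e₁.subgroupOf B from by rw [ha]; exact hyT)))⟩
          have ht0 : t ≠ 0 := by
            intro h
            refine hyQ (d.mB.centV.le ⟨hyT, ?_⟩)
            have h1 : a ∈ ρ.ker := by
              rw [MonoidHom.mem_ker, ht, h]
              exact CfsgLib.PushUpTwo.slExt (by simp [CfsgLib.PushUpTwo.up_val])
                (by simp [CfsgLib.PushUpTwo.up_val]) (by simp [CfsgLib.PushUpTwo.up_val])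
                (by simp [CfsgLib.PushUpTwo.up_val])
            rw [hker, ha] at h1
            exact h1
          have hgi : ((ρ g)⁻¹).1 1 0 ≠ 0 := by
            simpa [Matrix.SpecialLinearGroup.coe_inv, Matrix.adjugate_fin_two] using hxN
          have e : ρ (g⁻¹ * a * g) = (ρ g)⁻¹ * up t * (ρ g)⁻¹⁻¹ := by
            rw [map_mul, map_mul, map_inv, inv_inv, ht]
          rw [e, sl_conj_up, neg_ne_zero]
          exact mul_ne_zero (mul_ne_zero ht0 hgi) hgi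
      have hBN : B ≤ normalizer ((Qo p B ⊓ Qo p A : Subgroup Γ) : Set Γ) := by
        have e1 : e₀ ⊔ zpowers y = B := by
          rw [← CfsgLib.PushUp.cj_cj_inv x (e₀ ⊔ zpowers y), ← hY, hY2, d.mB.good.cjH hx]
        exact e1.ge.trans (sup_le (le_normalizer_inf d.mB₀.T_normQ d.mA.T_normQ) (zpowers_le.2 hyN))
      exact d.mB₀.P_not_normal d.mA d.VA_le d.nfBA hBN
    · exfalso
      obtain ⟨b, hb, c, hc, he, -⟩ := hXy _ (hyX n' hn')
      have hcz : c ∉ ctr e₁ := fun h => hm (he ▸ mul_mem hb (d.mB.facts.zle h))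
      obtain ⟨f, hfdef⟩ : ∃ f, f = v⁻¹ * ⁅y, n'⁆ := ⟨_, rfl⟩
      rw [← hfdef] at hf
      have hiff : ∀ q ∈ Qo p B, q ∈ P ↔ Commute q f := by
        intro q hq
        have hqv : Commute q (v⁻¹ * b) := ((commute_of_cent (d.mB.V_cent_Q hv) hq).inv_right).mul_right
          (commute_of_cent (d.mB.V_cent_Q hb) hq)
        rw [hfdef, he, ← mul_assoc, hP, mem_inf]
        constructor
        · exact fun h => hqv.mul_right (commute_of_cent (d.mC.V_cent_Q hc) h.2)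
        · intro h
          refine ⟨hq, d.mC.cent_elem hc hcz (d.mB.good.Q_le hq) ?_⟩
          have := hqv.inv_right.mul_right h
          rwa [inv_mul_cancel_left] at this
      obtain ⟨N, hN⟩ : ∃ N, N = B ⊓ centralizer (Fr (Qo p B) : Set Γ) := ⟨_, rfl⟩
      have hNn : B ≤ normalizer (N : Set Γ) := by
        rw [hN]
        refine le_normalizer_inf le_normalizer fun g hg => mem_normalizer_of_cj ?_
        rw [cj_centralizer, CfsgLib.PushUp.cj_eq_of_mem_normalizer ((hQn.trans (normalizer_le_Fr _)) hg)]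
      have hyN : y ∈ N := hN ▸ mem_inf.2 ⟨hyB, mem_centralizer_iff.2 fun f' hf' =>
        ((hFry y hy f' hf').symm).eq⟩
      have hNP : N ≤ normalizer (P : Set Γ) := by
        intro g hg
        obtain ⟨hgB, hgC⟩ := mem_inf.1 (hN ▸ hg : g ∈ B ⊓ _)
        have hgf : Commute f g := commute_of_cent hgC hf
        have key : ∀ g : Γ, g ∈ B → Commute f g → ∀ q ∈ P, g * q * g⁻¹ ∈ P := by
          intro g hgB hgf q hq
          have hqB : q ∈ Qo p B := (hP ▸ hq : q ∈ Qo p B ⊓ Qo p C).1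
          refine (hiff _ (mem_normalizer_conj (hQn hgB) hqB)).2 ?_
          exact (hgf.symm.mul_left ((hiff q hqB).1 hq)).mul_left hgf.symm.inv_left
        exact CfsgLib.PushUp.mem_normalizer_of_forall (key g hgB hgf)
          fun q hq => by simpa using key g⁻¹ (inv_mem hgB) hgf.inv_right q hq
      refine d.mB.P_not_normal d.mC d.VC_le d.nfBC (hP ▸ ?_)
      rw [← d.mB.sup_or (hN ▸ inf_le_left) hNn hyT hyN hyQ]
      exact sup_le hNP hPT
  -- conjugates of `P` supplement it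
  have hsup : ∀ g : ↥B, ρ g ∉ normalizer (upGroup F : Set SL(2, F)) →
      ∀ q ∈ Qo p B, ∃ u ∈ P, ∃ w ∈ P, q = u * ((g : Γ) * w * (g : Γ)⁻¹) := by
    intro g hg q hq
    have hg0 : (ρ g).1 1 0 ≠ 0 := fun h => hg (sl_mem_normalizer h)
    have hgB : (g : Γ) ∈ B := g.2
    have m' : Mem p (cj (g : Γ) e₁) B := d.mB.edge hgB
    have mC' : Mem p (cj (g : Γ) e₁) (cj (g : Γ) C) := d.mC.conj g
    haveI := d.mC.good.fin
    obtain ⟨Pg, hPg⟩ : ∃ Pg, Pg = Qo p B ⊓ Qo p (cj (g : Γ) C) := ⟨_, rfl⟩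
    have hPge : Pg = cj (g : Γ) P := by
      rw [hPg, hP, cj_inf, d.mB.good.cjQ hgB, Qo_cj]
    have hjoin : e₁ ⊔ cj (g : Γ) e₁ = B := by
      obtain ⟨t, ht⟩ : ∃ t, ρ a = up t :=
        ⟨_, CfsgLib.PushUpTwo.eq_up_of_mem (hT.le (mem_map_of_mem ρ
          (show a ∈ e₁.subgroupOf B from by rw [ha]; exact hyT)))⟩
      refine d.mB.eq_of_entry hker hT le_sup_left (sup_le d.mB.good.le m'.good.le)
        (x := g * a * g⁻¹) ?_ ?_
      · refine mem_sup_right ?_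
        rw [ha]
        exact conj_mem_cj hyT
      · rw [map_mul, map_mul, map_inv, ht, sl_conj_up, neg_ne_zero]
        refine mul_ne_zero (mul_ne_zero ?_ hg0) hg0
        intro h
        refine hyQ (d.mB.centV.le ⟨hyT, ?_⟩)
        have h1 : a ∈ ρ.ker := by
          rw [MonoidHom.mem_ker, ht, h]
          exact CfsgLib.PushUpTwo.slExt (by simp [CfsgLib.PushUpTwo.up_val])
            (by simp [CfsgLib.PushUpTwo.up_val]) (by simp [CfsgLib.PushUpTwo.up_val])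
            (by simp [CfsgLib.PushUpTwo.up_val])
        rw [hker, ha] at h1
        exact h1
    have hVC' : Vo p (cj (g : Γ) C) ≤ Qo p B := by
      rw [Vo_cj, ← d.mB.good.cjQ hgB]
      exact cj_mono d.VC_le
    obtain ⟨Xg, hXg⟩ : ∃ Xg, Xg = Vo p B ⊔ Vo p (cj (g : Γ) C) := ⟨_, rfl⟩
    have hXgQ : Xg ≤ Qo p B := hXg ▸ sup_le d.mB.V_le_Q hVC'
    have hXgC : cj (g : Γ) e₁ ⊓ centralizer (Xg : Set Γ) = Pg := by
      rw [hXg, CfsgLib.CDLat.centralizer_sup, inf_inf_distrib_left, m'.centV, mC'.centV, hPg]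
    have hlgXg : Lg (cj (g : Γ) e₁) Xg := hXg ▸ (m'.base.lg_sup m'.lgV mC'.lgV).1
    obtain ⟨hlg1, hC1⟩ := m'.transport d.mB hlgXg hXgQ (by rw [hXgC, hPg]; exact inf_le_left)
    rw [hXgC] at hC1
    have hlgX : Lg e₁ (Vo p B ⊔ Vo p C) := (d.mB.base.lg_sup d.mB.lgV d.mC.lgV).1
    have hinf : (Vo p B ⊔ Vo p C) ⊓ Xg ≤ Vo p B := by
      intro x hx
      by_contra hxV
      obtain ⟨hx1, hx2⟩ := mem_inf.1 hx
      rw [← SetLike.mem_coe, coe_mul_of_left_le_normalizer_right _ _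
        (d.mB.V_le.trans d.mC.T_normV)] at hx1
      rw [hXg, ← SetLike.mem_coe, coe_mul_of_left_le_normalizer_right _ _
        (m'.V_le.trans mC'.T_normV)] at hx2
      obtain ⟨b, hb, c, hc, e1⟩ := hx1
      obtain ⟨b', hb', c', hc', e2⟩ := hx2
      have hcz : c ∉ ctr e₁ := fun h => hxV (e1 ▸ mul_mem hb (d.mB.facts.zle h))
      have hcz' : c' ∉ ctr (cj (g : Γ) e₁) := fun h => hxV (e2 ▸ mul_mem hb' (m'.facts.zle h))
      have h1 : ∀ q ∈ Qo p B, q ∈ P ↔ Commute q x := by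
        intro q hq
        have hqb := commute_of_cent (d.mB.V_cent_Q hb) hq
        rw [← e1, hP, mem_inf]
        constructor
        · exact fun h => hqb.mul_right (commute_of_cent (d.mC.V_cent_Q hc) h.2)
        · intro h
          refine ⟨hq, d.mC.cent_elem hc hcz (d.mB.good.Q_le hq) ?_⟩
          have := hqb.inv_right.mul_right h
          rwa [inv_mul_cancel_left] at this
      have h2 : ∀ q ∈ Qo p B, q ∈ Pg ↔ Commute q x := by
        intro q hq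
        have hqb := commute_of_cent (d.mB.V_cent_Q hb') hq
        rw [← e2, hPg, mem_inf]
        constructor
        · exact fun h => hqb.mul_right (commute_of_cent (mC'.V_cent_Q hc') h.2)
        · intro h
          refine ⟨hq, mC'.cent_elem hc' hcz' (m'.good.Q_le hq) ?_⟩
          have := hqb.inv_right.mul_right h
          rwa [inv_mul_cancel_left] at this
      have hPP : P = Pg := le_antisymm
        (fun q hq => (h2 q (hP ▸ hq : q ∈ Qo p B ⊓ Qo p C).1).2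
          ((h1 q (hP ▸ hq : q ∈ Qo p B ⊓ Qo p C).1).1 hq))
        (fun q hq => (h1 q (hPg ▸ hq : q ∈ Qo p B ⊓ _).1).2
          ((h2 q (hPg ▸ hq : q ∈ Qo p B ⊓ _).1).1 hq))
      refine d.mB.P_not_normal d.mC d.VC_le d.nfBC ?_
      rw [← hP, ← hjoin]
      refine sup_le hPT ?_
      have h3 := hPg ▸ le_normalizer_inf m'.T_normQ mC'.T_normQ
      rwa [← hPP] at h3
    obtain ⟨u, hu, w, hw, e⟩ := (d.mB.base.lg_inf hlgX hlg1).2 q (d.mB.good.Q_le hq)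
      (centralizer_le (SetLike.coe_subset_coe.2 hinf) (d.mB.Q_cent_V hq))
    rw [CfsgLib.CDLat.centralizer_sup, inf_inf_distrib_left, d.mB.centV, d.mC.centV, ← hP] at hu
    rw [hC1, hPge] at hw
    refine ⟨u, hu, (g : Γ)⁻¹ * w * g, mem_cj.1 hw, ?_⟩
    rw [e]
    group
  obtain ⟨t, ht⟩ : ∃ t, ρ a = up t :=
    ⟨_, CfsgLib.PushUpTwo.eq_up_of_mem (hT.le (mem_map_of_mem ρ
      (show a ∈ e₁.subgroupOf B from by rw [ha]; exact hyT)))⟩
  have ht0 : t ≠ 0 := by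
    intro h
    refine hyQ (d.mB.centV.le ⟨hyT, ?_⟩)
    have h1 : a ∈ ρ.ker := by
      rw [MonoidHom.mem_ker, ht, h]
      exact CfsgLib.PushUpTwo.slExt (by simp [CfsgLib.PushUpTwo.up_val])
        (by simp [CfsgLib.PushUpTwo.up_val]) (by simp [CfsgLib.PushUpTwo.up_val])
        (by simp [CfsgLib.PushUpTwo.up_val])
    rw [hker, ha] at h1
    exact h1
  have key := sq_central (M := M) hp ρ hρ hMp ht0 ht ?_ (im (Vo p B)) (im P) (im (ctr e₁))
    (im (Vo p B ⊓ centralizer (B : Set Γ))) ?_ ?_ ?_ ?_ ?_ ?_ ?_ ?_ ?_ ?_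
  · -- conclusion
    have hnQ : n ∈ Qo p B := d.VA_le hn
    obtain ⟨c₁, hc₁, hc₁'⟩ := hsub a ⟨n, hnQ⟩
    obtain ⟨c₂, hc₂, hc₂'⟩ := hsub a c₁
    rw [hc₁'] at hc₂'
    obtain ⟨z, hz, hz'⟩ := him.1 (key (Multiplicative.toAdd (π ⟨n, hnQ⟩)))
    rw [← hc₂'] at hz'
    obtain ⟨b, hb, c, hc, he, he'⟩ := hXy _ (hyX n hn)
    have hc₂e : (c₂ : Γ) = ⁅y, b⁆ := by rw [hc₂, hc₁, hay, he']
    have hbz : ⁅y, b⁆ ∈ ctr e₁ := d.mB.facts.quad b hb y hyT
    have hzB : (z : Γ) ∈ centralizer (B : Set Γ) := (mem_inf.1 hz).2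
    have hzT : (z : Γ) ∈ ctr e₁ :=
      mem_inf.2 ⟨d.mB.good.Q_le z.2, centralizer_le d.mB.good.le hzB⟩
    have h1 := d.Fr_central d.mB rfl (mul_mem (inv_mem hzT) (hc₂e ▸ hbz))
      (by rw [← hc₂e] at *; exact hπeq hz'.symm)
    have h2 : ⁅y, b⁆ ∈ centralizer (B : Set Γ) := by
      have := mul_mem hzB h1
      rwa [mul_inv_cancel_left, hc₂e] at this
    have h3 : b ∈ ctr e₁ := d.mB.facts.fix b hb y hyT hyQ
      (commutatorElement_eq_one_iff_commute.1 (d.mB.single hb hyT h2))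
    rw [he]
    exact mul_mem (d.mC.facts.zle h3) hc
  · -- the kernel acts as a `p'`-group
    intro c hc k hk x
    obtain ⟨i, m, hm, hord⟩ :=
      Nat.exists_eq_pow_mul_and_not_dvd (orderOf_pos c).ne' p (Fact.out : p.Prime).ne_one
    have htriv : ∀ (w : ↥B), (w : Γ) ∈ Qo p B → ∀ x : M, w • x = x := by
      intro w hw x
      obtain ⟨q, rfl⟩ := hsurj x
      obtain ⟨c', hc', hc''⟩ := hsub w q
      rw [← sub_eq_zero, ← hc'']
      have : π c' = 1 := (hπ0 c').2 (hc' ▸ comm_mem_Fr (d.mB.base.isp.to_le d.mB.good.Q_le) hw q.2)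
      rw [this]; rfl
    have hcm : ∀ x : M, c ^ m • x = x := by
      refine fun x => htriv _ ?_ x
      obtain ⟨R, hR⟩ := d.mB.good.sit.sylow
      have hpg : IsPGroup p ↥(zpowers (c ^ m)) := by
        refine IsPGroup.iff_card.2 ⟨i, ?_⟩
        rw [Nat.card_zpowers, orderOf_pow, hord, Nat.gcd_eq_right (Dvd.intro_left _ rfl),
          Nat.mul_div_cancel _ (Nat.pos_of_ne_zero fun h => hm (by rw [h]; exact dvd_zero p))]
      obtain ⟨R', hR'⟩ := hpg.exists_le_sylow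
      obtain ⟨x', hx'⟩ := MulAction.exists_smul_eq ↥B R' R
      have h1 : x' * c ^ m * x'⁻¹ ∈ (R : Subgroup ↥B) := by
        rw [← hx', Sylow.coe_subgroup_smul]
        exact ⟨c ^ m, hR' (mem_zpowers _), rfl⟩
      rw [hR] at h1
      have h2 : x' * c ^ m * x'⁻¹ ∈ ρ.ker :=
        (MonoidHom.normal_ker ρ).conj_mem _ (pow_mem hc m) x'
      rw [hker] at h2
      have h3 : ((x' * c ^ m * x'⁻¹ : ↥B) : Γ) ∈ Qo p B := d.mB.centV.le ⟨h1, h2⟩
      have h4 := mem_normalizer_conj' (hQn x'.2) h3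
      simpa [mul_assoc] using h4
    have hcop : IsCoprime ((p ^ k : ℕ) : ℤ) (m : ℤ) := Int.isCoprime_iff_nat_coprime.2
      (((Fact.out : p.Prime).coprime_iff_not_dvd.2 hm).pow_left k)
    obtain ⟨r, s, hrs⟩ := hcop
    have hz : ∀ (w : ↥B), (∀ x : M, w • x = x) → ∀ (j : ℤ) (x : M), w ^ j • x = x := by
      intro w hw j
      have : w ^ j ∈ (MulAction.toPermHom ↥B M).ker := zpow_mem (by
        rw [MonoidHom.mem_ker]; exact Equiv.ext hw) j
      intro x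
      exact congrFun (congrArg DFunLike.coe (MonoidHom.mem_ker.1 this)) x
    conv_lhs => rw [← zpow_one c, ← hrs, zpow_add, mul_comm r, mul_comm s, zpow_mul, zpow_mul,
      zpow_natCast, zpow_natCast, mul_smul, hz _ hcm, hz _ hk]
  · -- `V` is invariant
    rintro g _ ⟨q, hq, rfl⟩
    obtain ⟨r, hr, hr'⟩ := hgen g q
    exact ⟨r, hr ▸ mem_normalizer_conj (d.mB.good.normV g.2) hq, hr'⟩
  · rintro c hc _ ⟨q, hq, rfl⟩
    obtain ⟨r, hr, hr'⟩ := hgen c q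
    rw [hker] at hc
    have hcq : Commute (c : Γ) (q : Γ) := (commute_of_cent (mem_subgroupOf.1 hc) hq).symm
    have : r = q := Subtype.ext (by rw [hr, hcq.eq, mul_inv_cancel_right])
    rw [← hr', this]
  · rintro _ ⟨q, hq, rfl⟩
    exact ⟨q, hVP hq, rfl⟩
  · intro x
    obtain ⟨q, rfl⟩ := hsurj x
    obtain ⟨c, hc, hc'⟩ := hsub a q
    obtain ⟨n', hn', z, hz, e, -⟩ := hQy q q.2
    refine ⟨c, ?_, hc'⟩
    rw [hc, hay, e]
    exact mul_mem (hXP (hyX n' hn')) (hzP hz)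
  · rintro _ ⟨q, hq, rfl⟩
    obtain ⟨c, hc, hc'⟩ := hsub a q
    refine ⟨c, ?_, hc'⟩
    rw [hc, hay]
    exact d.mB.facts.zle (hPy _ hq)
  · intro x hx
    obtain ⟨q, rfl⟩ := hsurj x
    obtain ⟨v, hv, hv'⟩ := him.1 hx
    obtain ⟨c, hc, hc'⟩ := hsub a q
    obtain ⟨n', hn', z, hz, e, hnq⟩ := hQy q q.2
    have hf := hπeq (hc'.trans hv'.symm)
    rw [hc, hay, e] at hf
    have hvz : (v : Γ) * z⁻¹ ∈ Vo p B := mul_mem hv (inv_mem (d.mB.facts.zle hz))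
    have hn'P : n' ∈ P := by
      refine hfix n' hn' _ hvz ?_
      rw [show ((v : Γ) * z⁻¹)⁻¹ * ⁅y, n'⁆ = z * ((v : Γ)⁻¹ * (⁅y, n'⁆ * z)) * z⁻¹ by group]
      exact mem_normalizer_conj ((hQn.trans (normalizer_le_Fr _))
        (d.mB.good.le hz.1)) hf
    refine ⟨q, ?_, rfl⟩
    rw [show (q : Γ) = n' * (n'⁻¹ * q) by group]
    exact mul_mem hn'P hnq
  · intro g hg x
    obtain ⟨q, rfl⟩ := hsurj x
    obtain ⟨u, hu, w, hw, e⟩ := hsup g hg q q.2
    obtain ⟨u', hu'⟩ : ∃ u' : ↥(Qo p B), (u' : Γ) = u :=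
      ⟨⟨u, (hP ▸ hu : u ∈ Qo p B ⊓ Qo p C).1⟩, rfl⟩
    obtain ⟨w', hw'⟩ : ∃ w' : ↥(Qo p B), (w' : Γ) = w :=
      ⟨⟨w, (hP ▸ hw : w ∈ Qo p B ⊓ Qo p C).1⟩, rfl⟩
    obtain ⟨r, hr, hr'⟩ := hgen g w'
    refine ⟨_, ⟨u', hu'.symm ▸ hu, rfl⟩, _, ⟨w', hw'.symm ▸ hw, rfl⟩, ?_⟩
    rw [← hr', show q = u' * r from Subtype.ext (by rw [Subgroup.coe_mul, hu', hr, hw']; exact e),
      map_mul, toAdd_mul]
  · rintro _ ⟨q, hq, rfl⟩
    obtain ⟨c, hc, hc'⟩ := hsub a q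
    obtain ⟨r, hr, hr'⟩ := hgen a c
    rw [← hc', ← hr']
    have : r = c := Subtype.ext (by
      rw [hr, hay]
      refine mul_inv_eq_iff_eq_mul.2 (commute_of_cent ?_ hyT).eq
      rw [hc, hay]
      exact (hPy _ hq).2)
    rw [this]
  · intro x
    obtain ⟨q, rfl⟩ := hsurj x
    obtain ⟨c₁, hc₁, hc₁'⟩ := hsub a q
    obtain ⟨c₂, hc₂, hc₂'⟩ := hsub a c₁
    rw [hc₁'] at hc₂'
    refine ⟨c₂, ?_, hc₂'⟩
    obtain ⟨n', hn', z, hz, e, -⟩ := hQy q q.2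
    obtain ⟨b, hb, c, hc, he, -⟩ := hXy (⁅y, n'⁆ * z)
      (mul_mem (hyX n' hn') (mem_sup_left (d.mB.facts.zle hz)))
    rw [hc₂, hc₁, hay, e, he]
    obtain ⟨-, -, -, -, -, e'⟩ := hXy (b * c) (mul_mem (mem_sup_left hb) (mem_sup_right hc))
    rw [show ⁅y, b * c⁆ = ⁅y, b⁆ * (b * ⁅y, c⁆ * b⁻¹) by simp only [commutatorElement_def]; group,
      commutatorElement_eq_one_iff_commute.2 (d.cCD c hc y hy).symm, mul_one, mul_inv_cancel, mul_one]
    exact d.mB.facts.quad b hb y hyT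
  · rintro g l hg10 hg00 _ ⟨q, hq, rfl⟩
    obtain ⟨r, hr, hr'⟩ := hgen g q
    refine ⟨r * (q ^ l)⁻¹, ?_, ?_⟩
    · have hqV : (q : Γ) ∈ Vo p B := d.mB.facts.zle hq
      have hrV : (r : Γ) ∈ Vo p B := hr ▸ mem_normalizer_conj (d.mB.good.normV g.2) hqV
      have hwV : (r : Γ) * ((q : Γ) ^ l)⁻¹ ∈ Vo p B := mul_mem hrV (inv_mem (pow_mem hqV l))
      refine mem_inf.2 ⟨by simpa using hwV, ?_⟩
      have h0 : ψ (⟨r, hrV⟩ * (⟨q, hqV⟩ ^ l)⁻¹) = 1 := by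
        rw [map_mul, map_inv, map_pow, mul_inv_eq_one]
        refine Multiplicative.toAdd.injective ?_
        rw [hψh g ⟨q, hqV⟩ ⟨r, hrV⟩ hr, toAdd_pow]
        have h1 := hψz ⟨q, hqV⟩ hq
        funext i
        fin_cases i <;> simp [Matrix.mulVec, dotProduct, Fin.sum_univ_two, h1, hg10, hg00]
      simpa using (hψ1 _).1 h0
    · rw [map_mul, map_inv, map_pow, toAdd_mul, toAdd_inv, toAdd_pow, hr', sub_eq_add_neg]

end Quad

end CfsgLib.PushAmalgam
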