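import Cfsg.Agent.Lib.PushAmalgam.Walk

/-!
# Pushing up in rank one: long lines all of whose segments of length `b` are critical
-/

set_option autoImplicit false
set_option linter.style.haveILetI false
set_option linter.unusedSectionVars false

open Subgroup
open scoped commutatorElement Pointwise
open CfsgLib.PushUp (MA cj mem_cj conj_mem_cj cj_mono card_cj ctr Fr)

namespace CfsgLib.PushAmalgam

universe u

variable {Γ : Type u} [Group Γ] {p : ℕ} [Fact p.Prime] {S X : Subgroup Γ} {b N : ℕ}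

/-- A line of length `N` with critical segments, moved commutators and joints. -/
structure Line (p : ℕ) (S X : Subgroup Γ) (b N : ℕ) (H T : ℕ → Subgroup Γ) : Prop where
  walk : Walk p S X H T N
  crit : ∀ i, i + b ≤ N → ¬ Com p (H i) (H (i + b))
  moved : ∀ i, i + 1 + b ≤ N →
    ∃ n ∈ Vo p (H i), ∃ y ∈ Vo p (H (i + 1 + b)), ⁅n, y⁆ ∉ Vo p (H (i + 1))
  joint : ∀ i, i + 1 + b ≤ N → T i ⊔ T (i + 1) = H (i + 1)

theorem Line.prepend {H T : ℕ → Subgroup Γ} (l : Line p S X b N H T) (orb : OneOrbit p S X)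
    (hnf : ∃ T H K, MemX p S X T H ∧ MemX p S X T K ∧
      ¬ H ≤ normalizer ((Vo p H ⊔ Vo p K : Subgroup Γ) : Set Γ))
    (cb : CB p S X (b - 1)) (hb : 2 ≤ b) (hN : b ≤ N) :
    ∃ H' T' : ℕ → Subgroup Γ, Line p S X b (N + 1) H' T' := by
  have w0 : Walk p S X H T b := fun i hi => l.walk i (by omega)
  have hcr : ¬ Com p (H 0) (H b) := by simpa using l.crit 0 (by omega)
  obtain ⟨hVT, hnQ, -, -⟩ := w0.crit cb hb hcr
  have hR := w0.R_eq cb hb hcr
  obtain ⟨y, hy, hyQ⟩ := SetLike.not_le_iff_exists.1 hnQ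
  have m0 := (w0 0 (by omega)).1
  obtain ⟨L, U, mL, mU, hVL, hLnf⟩ := orb.lift hnf m0
  have hQL : Qo p L = Qo p (H 0) := by rw [← mL.mem.centV, hVL, m0.mem.centV]
  obtain ⟨T₁, mT₁, hgen, hjoin, x, hx, hT₁⟩ := mL.mem.exists_gen (hVT hy) (hQL ▸ hyQ)
  obtain ⟨U₁, hU₁⟩ : ∃ U₁, U₁ = cj x U := ⟨_, rfl⟩
  have mU₁ : MemX p S X T₁ U₁ := by rw [hT₁, hU₁]; exact mU.conj x
  have mL₁ : MemX p S X T₁ L := mL.of_mem mT₁
  haveI := mU.mem.good.fin
  -- a moved element
  obtain ⟨v, hv, hvy⟩ : ∃ v ∈ Vo p U₁, ⁅v, y⁆ ∉ Vo p (H 0) := by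
    by_contra! hall
    rw [← hVL] at hall
    refine hLnf ?_
    have hyN : y ∈ normalizer ((Vo p L ⊔ Vo p U₁ : Subgroup Γ) : Set Γ) := by
      have hyL : y ∈ L := mL.mem.good.le (hVT hy)
      refine CfsgLib.PushUp.mem_normalizer_of_forall (fun z hz => ?_) fun z hz => ?_
      · refine (sup_le ?_ ?_ : Vo p L ⊔ Vo p U₁ ≤
          (Vo p L ⊔ Vo p U₁).comap (MulAut.conj y).toMonoidHom) hz
        · exact fun w hw => mem_sup_left (mem_normalizer_conj (mL.mem.good.normV hyL) hw)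
        · intro w hw
          show y * w * y⁻¹ ∈ Vo p L ⊔ Vo p U₁
          rw [show y * w * y⁻¹ = ⁅w, y⁆⁻¹ * w by simp only [commutatorElement_def]; group]
          exact mul_mem (mem_sup_left (inv_mem (hall w hw))) (mem_sup_right hw)
      · have h1 : Vo p L ⊔ Vo p U₁ ≤ (Vo p L ⊔ Vo p U₁).comap (MulAut.conj y⁻¹).toMonoidHom := by
          refine sup_le (fun w hw => mem_sup_left (mem_normalizer_conj
            (mL.mem.good.normV (inv_mem hyL)) hw)) fun w hw => ?_
          show y⁻¹ * w * y⁻¹⁻¹ ∈ Vo p L ⊔ Vo p U₁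
          rw [show y⁻¹ * w * y⁻¹⁻¹ = y⁻¹ * ⁅w, y⁆ * y * w by
            simp only [commutatorElement_def]; group]
          exact mul_mem (mem_sup_left (mem_normalizer_conj' (mL.mem.good.normV hyL) (hall w hw)))
            (mem_sup_right hw)
        simpa using h1 hz
    have hT₁N : T₁ ≤ normalizer ((Vo p L ⊔ Vo p U₁ : Subgroup Γ) : Set Γ) :=
      le_normalizer_sup mL₁.mem.T_normV mU₁.mem.T_normV
    have hLN : L ≤ normalizer ((Vo p L ⊔ Vo p U₁ : Subgroup Γ) : Set Γ) := by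
      conv_lhs => rw [← hgen]
      refine sup_le hT₁N ?_
      rintro _ ⟨t, ht, rfl⟩
      exact mul_mem (mul_mem hyN (hT₁N ht)) (inv_mem hyN)
    have e : Vo p L ⊔ Vo p U₁ = Vo p L ⊔ Vo p U := by
      have h1 : cj x (Vo p L ⊔ Vo p U) = Vo p L ⊔ Vo p U₁ := by
        rw [cj_sup, hU₁, Vo_cj, CfsgLib.PushUp.cj_eq_of_mem_normalizer (mL.mem.good.normV hx)]
      have h3 := congrArg (cj x⁻¹) ((CfsgLib.PushUp.cj_eq_of_mem_normalizer (hLN hx)).trans h1.symm)
      rwa [cj_inv_cj, cj_inv_cj] at h3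
    rw [← e]
    exact hLN
  obtain ⟨H', hH'⟩ : ∃ H' : ℕ → Subgroup Γ, H' 0 = U₁ ∧ H' 1 = L ∧ ∀ i, H' (i + 2) = H (i + 1) :=
    ⟨fun i => if i = 0 then U₁ else if i = 1 then L else H (i - 1), rfl, rfl, fun i => by simp⟩
  obtain ⟨T', hT'⟩ : ∃ T' : ℕ → Subgroup Γ, T' 0 = T₁ ∧ ∀ i, T' (i + 1) = T i :=
    ⟨fun i => if i = 0 then T₁ else T (i - 1), rfl, fun i => by simp⟩
  obtain ⟨h0, h1, h2⟩ := hH'
  obtain ⟨t0, t1⟩ := hT'
  have hV : ∀ i, Vo p (H' (i + 1)) = Vo p (H i) := by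
    intro i
    cases i with
    | zero => rw [h1, hVL]
    | succ i => rw [h2]
  refine ⟨H', T', ?_, ?_, ?_, ?_⟩
  · intro i hi
    cases i with
    | zero => rw [t0, h0, h1]; exact ⟨mU₁, mL₁⟩
    | succ i =>
      rw [t1]
      cases i with
      | zero => rw [h1, h2 0]; exact ⟨mL, (l.walk 0 (by omega)).2⟩
      | succ i => rw [h2, h2]; exact l.walk (i + 1) (by omega)
  · intro i hi
    cases i with
    | zero =>
      obtain ⟨c, rfl⟩ : ∃ c, b = c + 2 := ⟨b - 2, by omega⟩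
      rw [zero_add, h2, h0]
      intro hcom
      have w' : Walk p S X H' T' (c + 2) := by
        intro j hj
        cases j with
        | zero => rw [t0, h0, h1]; exact ⟨mU₁, mL₁⟩
        | succ j =>
          rw [t1]
          cases j with
          | zero => rw [h1, h2 0]; exact ⟨mL, (l.walk 0 (by omega)).2⟩
          | succ j => rw [h2, h2]; exact l.walk (j + 1) (by omega)
      have hvT : v ∈ T' (c + 1) :=
        w'.V_le_T' cb (i := c + 1) (j := 0) (by omega) (by omega) (by omega) (h0.symm ▸ hv)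
      rw [t1] at hvT
      obtain ⟨mc, -⟩ := w0 (c + 1) (by omega)
      obtain ⟨-, mc'⟩ := w0 c (by omega)
      have hvQ : v ∈ Qo p (H (c + 1)) :=
        mc'.mem.mem_Q hvT fun z hz => (hcom v hv z hz).symm
      refine hvy (m0.mem.facts.zle (Mem.R_le m0.mem (hR.ge ?_)))
      rw [show c + 2 - 1 = c + 1 by omega, commutator_comm]
      exact commutator_mem_commutator (mc.mem.good.Q_le hvQ) hy
    | succ i =>
      intro hcom
      refine l.crit i (by omega) fun z hz z' hz' => hcom z ((hV i).ge hz) z' ?_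
      rw [show i + 1 + b = i + b + 1 by omega, hV]
      exact hz'
  · intro i hi
    cases i with
    | zero =>
      refine ⟨v, h0.symm ▸ hv, y, ?_, ?_⟩
      · rw [show 0 + 1 + b = b + 1 by omega, hV]; exact hy
      · rw [hV]; exact hvy
    | succ i =>
      obtain ⟨n, hn, z, hz, hnz⟩ := l.moved i (by omega)
      refine ⟨n, (hV i).ge hn, z, ?_, ?_⟩
      · rw [show i + 1 + 1 + b = i + 1 + b + 1 by omega, hV]; exact hz
      · rwa [hV]
  · intro i hi
    cases i with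
    | zero => rw [t0, t1, h1]; exact hjoin
    | succ i => rw [t1, t1, h2]; exact l.joint i (by omega)

theorem exists_line (orb : OneOrbit p S X)
    (hnf : ∃ T H K, MemX p S X T H ∧ MemX p S X T K ∧
      ¬ H ≤ normalizer ((Vo p H ⊔ Vo p K : Subgroup Γ) : Set Γ))
    (cb : CB p S X (b - 1)) (hb : 2 ≤ b) (hbad : ¬ CB p S X b) :
    ∀ M, ∃ H T : ℕ → Subgroup Γ, Line p S X b (b + M) H T := by
  intro M
  induction M with
  | zero =>
    unfold CB at hbad
    push Not at hbad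
    obtain ⟨k, A, B, hk, c, hAB⟩ := hbad
    obtain rfl : k = b := by
      by_contra hne
      exact hAB (cb k A B (by omega) c)
    obtain ⟨H, T, w, h0, hk'⟩ := exists_walk c
    refine ⟨H, T, by simpa using w, fun i hi => ?_, fun i hi => absurd hi (by omega),
      fun i hi => absurd hi (by omega)⟩
    obtain rfl : i = 0 := by omega
    rwa [zero_add, h0, hk']
  | succ M ih =>
    obtain ⟨H, T, l⟩ := ih
    exact l.prepend orb hnf cb hb (by omega)

end CfsgLib.PushAmalgam
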