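import Cfsg.Agent.Lib.LocalStructure.QdBasic
import Cfsg.Agent.Lib.LocalStructure.IsolatedCases
import Cfsg.Agent.Lib.Coprime.Gaschutz

/-!
# A natural module extension with small Sylow subgroups is `Qd(q) × E`

Let `V` be an elementary abelian normal subgroup with `X / V ≅ SL₂(F)` acting naturally on
`V / (V ∩ Z(X))`. If the Sylow `p`-subgroups have exponent `p` and are generated by `V` and an abelian
subgroup, then `X` is the direct product of a copy of `Qd` and `V ∩ Z(X)`.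
-/

set_option autoImplicit false
set_option linter.style.haveILetI false
set_option linter.unusedSectionVars false

open Subgroup
open scoped MatrixGroups commutatorElement

namespace CfsgLib.PushAmalgam

universe u

open CfsgLib.LS.QdF (el el_mul el_inj exists_el co co_el lin lin_el el_lin_co)

theorem comm_mul_of_commute {G : Type u} [Group G] {x y c d : G} (hc : Commute c (y * d))
    (hd : Commute d x) : ⁅x * c, y * d⁆ = ⁅x, y⁆ := by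
  calc ⁅x * c, y * d⁆ = x * (c * (y * d)) * c⁻¹ * x⁻¹ * d⁻¹ * y⁻¹ := by
        simp only [commutatorElement_def]; group
    _ = x * ((y * d) * c) * c⁻¹ * x⁻¹ * d⁻¹ * y⁻¹ := by rw [hc.eq]
    _ = x * y * (d * x⁻¹) * d⁻¹ * y⁻¹ := by group
    _ = x * y * (x⁻¹ * d) * d⁻¹ * y⁻¹ := by rw [hd.inv_right.eq]
    _ = _ := by simp only [commutatorElement_def]; group

variable {p : ℕ} [Fact p.Prime] {F : Type} [Field F] [Fintype F] [CharP F p]
  {X : Type u} [Group X] [Finite X]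

/-- The extension of a natural module by `SL₂(F)` with small Sylow subgroups. -/
theorem split_natural (hp2 : p ≠ 2) (V : Subgroup X) [hVn : V.Normal]
    (hVc : ∀ a ∈ V, ∀ b ∈ V, Commute a b) (hVe : ∀ v ∈ V, v ^ p = 1) (ρ : X →* SL(2, F))
    (hρ : Function.Surjective ρ) (hker : ρ.ker = V) (ψ : ↥V →* Multiplicative (Fin 2 → F))
    (hψ : Function.Surjective ψ) (hψ1 : ∀ v : ↥V, ψ v = 1 ↔ (v : X) ∈ center X)
    (heq : ∀ (g : X) (v w : ↥V), (w : X) = g * v * g⁻¹ → Multiplicative.toAdd (ψ w) =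
      ((ρ g : SL(2, F)) : Matrix (Fin 2) (Fin 2) F).mulVec (Multiplicative.toAdd (ψ v)))
    (S : Sylow p X) (hSe : ∀ s ∈ (S : Subgroup X), s ^ p = 1) (A : Subgroup X)
    (hAc : ∀ a ∈ A, ∀ b ∈ A, Commute a b)
    (hSA : ∀ s ∈ (S : Subgroup X), ∃ a ∈ A, ∃ v ∈ V, s = a * v) :
    ∃ G₀ E : Subgroup X, (∀ a ∈ G₀, ∀ b ∈ E, a * b = b * a) ∧ G₀ ⊓ E = ⊥ ∧ G₀ ⊔ E = ⊤ ∧
      Cfsg.IsElementaryAbelian p E ∧ Nonempty (↥G₀ ≃* ↥(Cfsg.qdOver F)) := by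
  classical
  have hp : p.Prime := Fact.out
  haveI : NeZero p := ⟨hp.ne_zero⟩
  have hodd : Odd p := hp.odd_of_ne_two hp2
  have h2F : (2 : F) ≠ 0 := Ring.two_ne_zero (by rw [ringChar.eq F p]; exact hp2)
  obtain ⟨E, hE⟩ : ∃ E, E = V ⊓ center X := ⟨_, rfl⟩
  have hEV : E ≤ V := hE ▸ inf_le_left
  have hEc : ∀ z ∈ E, ∀ g, Commute z g := fun z hz g =>
    (mem_center_iff.1 (mem_inf.1 (hE ▸ hz : z ∈ V ⊓ center X)).2 g).symm
  -- the involution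
  obtain ⟨d, hdd, hρd⟩ : ∃ d : X, d * d = 1 ∧ ρ d = -1 := by
    obtain ⟨d₀, hd₀⟩ := hρ (-1)
    refine ⟨d₀ ^ p, ?_, by rw [map_pow, hd₀, hodd.neg_one_pow]⟩
    rw [← ((Commute.refl d₀).mul_pow p)]
    refine hVe _ (hker.le ?_)
    rw [MonoidHom.mem_ker, map_mul, hd₀, neg_mul_neg, one_mul]
  have hdi : d⁻¹ = d := inv_eq_of_mul_eq_one_right hdd
  have hψd : ∀ v w : ↥V, (w : X) = d * v * d⁻¹ →
      Multiplicative.toAdd (ψ w) = -Multiplicative.toAdd (ψ v) := fun v w h => by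
    rw [heq d v w h, hρd, Matrix.SpecialLinearGroup.coe_neg, Matrix.SpecialLinearGroup.coe_one,
      Matrix.neg_mulVec, Matrix.one_mulVec]
  have hfix : ∀ v ∈ V, d * v * d⁻¹ = v → v ∈ E := by
    intro v hv h
    rw [hE]
    refine mem_inf.2 ⟨hv, (hψ1 ⟨v, hv⟩).1 ?_⟩
    have h1 := hψd ⟨v, hv⟩ ⟨v, hv⟩ h.symm
    refine toAdd_eq_zero.1 (funext fun i => ?_)
    have h2 := congrFun h1 i
    rw [Pi.neg_apply] at h2
    exact (mul_eq_zero.1 (show (2 : F) * _ = 0 by linear_combination h2)).resolve_left h2F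
  -- square roots
  have hhalf : ∀ a ∈ V, a ^ ((p + 1) / 2) * a ^ ((p + 1) / 2) = a := by
    intro a ha
    obtain ⟨k, hk⟩ := hodd
    rw [← pow_add, show (p + 1) / 2 + (p + 1) / 2 = p + 1 by omega, pow_succ, hVe a ha, one_mul]
  -- the inverted part
  obtain ⟨V₀, hV₀⟩ : ∃ V₀ : Subgroup X, ∀ x, x ∈ V₀ ↔ x ∈ V ∧ d * x * d⁻¹ = x⁻¹ := by
    refine ⟨{ carrier := {x | x ∈ V ∧ d * x * d⁻¹ = x⁻¹}
              one_mem' := ⟨one_mem V, by simp⟩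
              mul_mem' := fun {a b} ha hb => ⟨mul_mem ha.1 hb.1, ?_⟩
              inv_mem' := fun {a} ha => ⟨inv_mem ha.1, ?_⟩ }, fun _ => Iff.rfl⟩
    · rw [show d * (a * b) * d⁻¹ = (d * a * d⁻¹) * (d * b * d⁻¹) by group, ha.2, hb.2, mul_inv_rev]
      exact ((hVc a ha.1 b hb.1).inv_inv).eq
    · rw [show d * a⁻¹ * d⁻¹ = (d * a * d⁻¹)⁻¹ by group, ha.2]
  have hV₀E : ∀ x ∈ V₀, x ∈ E → x = 1 := by
    intro x hx hxE
    obtain ⟨hxV, hxd⟩ := (hV₀ x).1 hx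
    rw [← (hEc x hxE d).eq, mul_inv_cancel_right] at hxd
    rw [← hhalf x hxV, ← pow_add]
    obtain ⟨k, hk⟩ := hodd
    rw [show (p + 1) / 2 + (p + 1) / 2 = 2 * ((p + 1) / 2) by omega, pow_mul, pow_two]
    conv_lhs => rw [show x * x = x * x⁻¹ by rw [← hxd]]
    rw [mul_inv_cancel, one_pow]
  have hV₀n : ∀ g : X, ∀ x ∈ V₀, g * x * g⁻¹ ∈ V₀ := by
    intro g x hx
    obtain ⟨hxV, hxd⟩ := (hV₀ x).1 hx
    refine (hV₀ _).2 ⟨hVn.conj_mem x hxV g, ?_⟩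
    obtain ⟨u, hu⟩ : ∃ u, u = d⁻¹ * (g⁻¹ * d * g) := ⟨_, rfl⟩
    have huV : u ∈ V := hker.le (by
      rw [MonoidHom.mem_ker, hu]
      simp only [map_mul, map_inv, hρd]
      rw [mul_assoc (ρ g)⁻¹, (Commute.neg_one_left (ρ g)).eq, inv_mul_cancel_left, inv_mul_cancel])
    calc d * (g * x * g⁻¹) * d⁻¹ = g * (d * (u * x * u⁻¹) * d⁻¹) * g⁻¹ := by rw [hu]; group
      _ = g * (d * x * d⁻¹) * g⁻¹ := by rw [(hVc u huV x hxV).eq, mul_inv_cancel_right]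
      _ = _ := by rw [hxd]; group
  haveI hV₀N : V₀.Normal := ⟨fun x hx g => hV₀n g x hx⟩
  have hdec : ∀ v ∈ V, ∃ a ∈ V₀, ∃ z ∈ E, v = a * z := by
    intro v hv
    have hc : d * v * d⁻¹ ∈ V := hVn.conj_mem v hv d
    obtain ⟨a₀, ha₀⟩ : ∃ a₀, a₀ = v * (d * v * d⁻¹)⁻¹ := ⟨_, rfl⟩
    have ha₀V : a₀ ∈ V := ha₀ ▸ mul_mem hv (inv_mem hc)
    have ha₀d : d * a₀ * d⁻¹ = a₀⁻¹ := by
      calc d * a₀ * d⁻¹ = (d * v * d⁻¹) * (d * d) * v⁻¹ * (d * d)⁻¹ := by rw [ha₀]; group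
        _ = (d * v * d⁻¹) * v⁻¹ := by rw [hdd]; group
        _ = _ := by rw [ha₀]; group
    obtain ⟨a, ha⟩ : ∃ a, a = a₀ ^ ((p + 1) / 2) := ⟨_, rfl⟩
    have haV : a ∈ V₀ := ha ▸ pow_mem ((hV₀ _).2 ⟨ha₀V, ha₀d⟩) _
    refine ⟨a, haV, a⁻¹ * v, hfix _ (mul_mem (inv_mem ((hV₀ a).1 haV).1) hv) ?_,
      (mul_inv_cancel_left a v).symm⟩
    calc d * (a⁻¹ * v) * d⁻¹ = (d * a * d⁻¹)⁻¹ * (d * v * d⁻¹) := by group
      _ = a * (a₀⁻¹ * v) := by
        rw [((hV₀ a).1 haV).2, inv_inv, ha₀]; group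
      _ = _ := by
        conv_lhs => rw [← hhalf a₀ ha₀V, ← ha]
        group
  have hcomm : ∀ g : X, ∀ v ∈ V, ⁅g, v⁆ ∈ V₀ := by
    intro g v hv
    obtain ⟨a, ha, z, hz, rfl⟩ := hdec v hv
    rw [show ⁅g, a * z⁆ = g * a * (z * g⁻¹) * z⁻¹ * a⁻¹ by simp only [commutatorElement_def]; group,
      (hEc z hz g⁻¹).eq, show g * a * (g⁻¹ * z) * z⁻¹ * a⁻¹ = (g * a * g⁻¹) * a⁻¹ by group]
    exact mul_mem (hV₀n g a ha) (inv_mem ha)
  -- the Sylow subgroups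
  have hsyl : ∀ {Y : Subgroup X}, IsPGroup p Y → ∀ a ∈ Y, ∀ b ∈ Y, ⁅a, b⁆ ∈ V₀ ∧ a ^ p = 1 := by
    intro Y hY a ha b hb
    obtain ⟨S', hS'⟩ := hY.exists_le_sylow
    obtain ⟨x, hx⟩ := MulAction.exists_smul_eq X S' S
    have hmem : ∀ y ∈ Y, x * y * x⁻¹ ∈ (S : Subgroup X) := fun y hy => by
      rw [← hx]; exact ⟨y, hS' hy, rfl⟩
    refine ⟨?_, ?_⟩
    · obtain ⟨a₁, ha₁, v, hv, e₁⟩ := hSA _ (hmem a ha)
      obtain ⟨b₁, hb₁, w, hw, e₂⟩ := hSA _ (hmem b hb)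
      have hcen : ∀ v ∈ V, ∀ g : X ⧸ V₀, Commute (QuotientGroup.mk' V₀ v) g := by
        intro v hv g
        obtain ⟨g, rfl⟩ := QuotientGroup.mk'_surjective V₀ g
        refine Commute.symm (commutatorElement_eq_one_iff_commute.1 ?_)
        rw [← map_commutatorElement]
        exact (QuotientGroup.eq_one_iff _).2 (hcomm g v hv)
      have h1 : ⁅x * a * x⁻¹, x * b * x⁻¹⁆ ∈ V₀ := by
        rw [e₁, e₂]
        refine (QuotientGroup.eq_one_iff _).1 ?_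
        show QuotientGroup.mk' V₀ ⁅a₁ * v, b₁ * w⁆ = 1
        rw [map_commutatorElement, map_mul, map_mul, comm_mul_of_commute (hcen v hv _) (hcen w hw _),
          ← map_commutatorElement, commutatorElement_eq_one_iff_commute.2 (hAc a₁ ha₁ b₁ hb₁), map_one]
      have h2 := hV₀n x⁻¹ _ h1
      rwa [show x⁻¹ * ⁅x * a * x⁻¹, x * b * x⁻¹⁆ * x⁻¹⁻¹ = ⁅a, b⁆ by
        simp only [commutatorElement_def]; group] at h2
    · have h1 := hSe _ (hmem a ha)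
      rw [conj_pow] at h1
      simpa using h1
  -- the centralizer of the involution
  obtain ⟨N, hN⟩ : ∃ N, N = centralizer ({d} : Set X) := ⟨_, rfl⟩
  have hNd : ∀ {g : X}, g ∈ N ↔ d * g * d⁻¹ = g := fun {g} => by
    rw [hN, mem_centralizer_singleton_iff, mul_inv_eq_iff_eq_mul]
    exact eq_comm
  have hρN : ∀ C : SL(2, F), ∃ g ∈ N, ρ g = C := by
    intro C
    obtain ⟨g, rfl⟩ := hρ C
    obtain ⟨u, hu⟩ : ∃ u, u = d * g * d⁻¹ * g⁻¹ := ⟨_, rfl⟩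
    have huV : u ∈ V := hker.le (by
      rw [MonoidHom.mem_ker, hu]
      simp only [map_mul, map_inv, hρd]
      rw [(Commute.neg_one_left (ρ g)).eq, mul_inv_cancel_right, mul_inv_cancel])
    have hu0 : d * u * d⁻¹ = u⁻¹ := by
      calc d * u * d⁻¹ = (d * d) * g * d⁻¹ * g⁻¹ * d⁻¹ := by rw [hu]; group
        _ = g * d * g⁻¹ * d⁻¹ := by rw [hdd, one_mul, hdi]
        _ = _ := by rw [hu]; group
    obtain ⟨w, hw⟩ : ∃ w, w = u ^ ((p + 1) / 2) := ⟨_, rfl⟩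
    have hwV : w ∈ V := hw ▸ pow_mem huV _
    refine ⟨w * g, hNd.2 ?_, by rw [map_mul, MonoidHom.mem_ker.1 (hker.ge hwV), one_mul]⟩
    calc d * (w * g) * d⁻¹ = (d * w * d⁻¹) * u * g := by rw [hu]; group
      _ = w⁻¹ * u * g := by rw [hw, ← conj_pow, hu0, inv_pow]
      _ = _ := by
        conv_lhs => rw [← hhalf u huV, ← hw]
        rw [inv_mul_cancel_left]
  have hNV : ∀ g ∈ N, g ∈ V → g ∈ E := fun g hg hgV => hfix g hgV (hNd.1 hg)
  obtain ⟨σ, hσρ, hσN⟩ : ∃ σ : SL(2, F) →* X, (∀ C, ρ (σ C) = C) ∧ ∀ C, σ C ∈ N := by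
    have hEN : E ≤ N := fun z hz => hNd.2 (by rw [← (hEc z hz d).eq, mul_inv_cancel_right])
    haveI hKn : (E.subgroupOf N).Normal := ⟨fun z hz g => by
      rw [mem_subgroupOf] at hz ⊢
      rw [coe_mul, coe_mul, coe_inv, ← (hEc _ hz _).eq, mul_inv_cancel_right]
      exact hz⟩
    haveI : IsMulCommutative ↥(E.subgroupOf N) :=
      ⟨⟨fun a b => Subtype.ext (Subtype.ext (hEc _ a.2 _).eq)⟩⟩
    have hEp : IsPGroup p ↥(E.subgroupOf N) := fun z =>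
      ⟨1, Subtype.ext (Subtype.ext (by simpa using hVe _ (hEV z.2)))⟩
    obtain ⟨P⟩ : Nonempty (Sylow p ↥N) := inferInstance
    have hKP : E.subgroupOf N ≤ P := (CfsgLib.PGroup.le_pCore hKn hEp).trans
      (CfsgLib.PGroup.pCore_le_sylow P)
    have hP := @hsyl ((P : Subgroup ↥N).map N.subtype) (P.2.map _)
    have hPc : ∀ a ∈ (P : Subgroup ↥N), ∀ b ∈ (P : Subgroup ↥N), a * b = b * a := by
      intro a ha b hb
      have h1 := (hP a (mem_map_of_mem _ ha) b (mem_map_of_mem _ hb)).1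
      exact commutatorElement_eq_one_iff_mul_comm.1 (Subtype.ext
        (hV₀E _ h1 (hNV _ (⁅a, b⁆ : ↥N).2 ((hV₀ _).1 h1).1)))
    have hPe : ∀ a ∈ (P : Subgroup ↥N), a ^ p = 1 := fun a ha =>
      Subtype.ext (hP a (mem_map_of_mem _ ha) a (mem_map_of_mem _ ha)).2
    obtain ⟨B, hBP, hBK, hKB⟩ :=
      CfsgLib.Isolated.exists_complement_of_exponent hKP hPc hPe
    have D : CfsgLib.Coprime.GzData (E.subgroupOf N) P B := ⟨hBP, hBK, hKB⟩
    have hcop : (Nat.card ↥(E.subgroupOf N)).Coprime (P : Subgroup ↥N).index := by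
      obtain ⟨j, hj⟩ := IsPGroup.iff_card.1 hEp
      rw [hj]
      exact Nat.Coprime.pow_left j (hp.coprime_iff_not_dvd.2 P.not_dvd_index)
    obtain ⟨C, hC⟩ := CfsgLib.Coprime.gaschutz_exists D hcop
    obtain ⟨r, hr⟩ : ∃ r : ↥C →* SL(2, F), ∀ c : ↥C, r c = ρ ((c : ↥N) : X) :=
      ⟨ρ.comp (N.subtype.comp C.subtype), fun _ => rfl⟩
    have hrb : Function.Bijective r := by
      refine ⟨(injective_iff_map_eq_one r).2 fun c hc => Subtype.ext ?_, fun M => ?_⟩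
      · rw [hr] at hc
        exact mem_bot.1 (hC.disjoint.le_bot
          ⟨(mem_subgroupOf.2 (hNV _ (c : ↥N).2 (hker.le hc)) : (c : ↥N) ∈ E.subgroupOf N), c.2⟩)
      · obtain ⟨g, hg, rfl⟩ := hρN M
        have hgm : (⟨g, hg⟩ : ↥N) ∈ E.subgroupOf N ⊔ C := hC.sup_eq_top.ge (mem_top _)
        obtain ⟨z, hz, c, hc, e⟩ := mem_sup_of_normal_left.1 hgm
        refine ⟨⟨c, hc⟩, ?_⟩
        rw [hr]
        have := congrArg (fun y : ↥N => ρ (y : X)) e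
        simp only [coe_mul, map_mul] at this
        rw [show ρ (z : X) = 1 from MonoidHom.mem_ker.1 (hker.ge (hEV (mem_subgroupOf.1 hz))),
          one_mul] at this
        exact this
    refine ⟨(N.subtype.comp C.subtype).comp (MulEquiv.ofBijective r hrb).symm.toMonoidHom,
      fun M => ?_, fun M => ((MulEquiv.ofBijective r hrb).symm M : ↥C).1.2⟩
    exact (hr _).symm.trans ((MulEquiv.ofBijective r hrb).apply_symm_apply M)
  -- the module part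
  obtain ⟨ι, hιV, hιψ⟩ : ∃ ι : Multiplicative (Fin 2 → F) →* X, (∀ x, ι x ∈ V₀) ∧
      ∀ x (v : ↥V), (v : X) = ι x → ψ v = x := by
    have hle : V₀ ≤ V := fun x hx => ((hV₀ x).1 hx).1
    obtain ⟨f, hf⟩ : ∃ f : ↥V₀ →* Multiplicative (Fin 2 → F), ∀ a, f a = ψ (inclusion hle a) :=
      ⟨ψ.comp (inclusion hle), fun _ => rfl⟩
    have hfb : Function.Bijective f := by
      refine ⟨(injective_iff_map_eq_one f).2 fun a ha => Subtype.ext ?_, fun x => ?_⟩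
      · rw [hf, hψ1] at ha
        exact hV₀E _ a.2 (hE ▸ mem_inf.2 ⟨hle a.2, ha⟩)
      · obtain ⟨v, rfl⟩ := hψ x
        obtain ⟨a, ha, z, hz, e⟩ := hdec v v.2
        refine ⟨⟨a, ha⟩, ?_⟩
        rw [hf, show v = inclusion hle ⟨a, ha⟩ * ⟨z, hEV hz⟩ from Subtype.ext e, map_mul,
          (hψ1 ⟨z, hEV hz⟩).2 (mem_inf.1 (hE ▸ hz : z ∈ V ⊓ center X)).2, mul_one]
    refine ⟨V₀.subtype.comp (MulEquiv.ofBijective f hfb).symm.toMonoidHom,
      fun x => ((MulEquiv.ofBijective f hfb).symm x).2, fun x v hv => ?_⟩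
    rw [show v = inclusion hle ((MulEquiv.ofBijective f hfb).symm x) from Subtype.ext hv, ← hf]
    exact (MulEquiv.ofBijective f hfb).apply_symm_apply x
  have hιinj : ∀ a ∈ V₀, ∀ x, (∀ v : ↥V, (v : X) = a → ψ v = x) → ι x = a := by
    intro a ha x h
    have hιxV : ι x ∈ V := ((hV₀ _).1 (hιV x)).1
    have h1 := hιψ x ⟨_, hιxV⟩ rfl
    have h2 := h ⟨a, ((hV₀ a).1 ha).1⟩ rfl
    have h3 : ψ (⟨_, hιxV⟩ * (⟨a, ((hV₀ a).1 ha).1⟩ : ↥V)⁻¹) = 1 := by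
      rw [map_mul, map_inv, h1, h2, mul_inv_cancel]
    refine mul_inv_eq_one.1 (hV₀E _ (mul_mem (hιV x) (inv_mem ha)) ?_)
    rw [hE]
    exact mem_inf.2 ⟨mul_mem hιxV (inv_mem ((hV₀ a).1 ha).1), (hψ1 _).1 h3⟩
  have hρι : ∀ x, ρ (ι x) = 1 := fun x => MonoidHom.mem_ker.1 (hker.ge ((hV₀ _).1 (hιV x)).1)
  have hact : ∀ (M : SL(2, F)) (v : Fin 2 → F), σ M * ι (Multiplicative.ofAdd v) * (σ M)⁻¹ =
      ι (Multiplicative.ofAdd ((M : Matrix (Fin 2) (Fin 2) F).mulVec v)) := by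
    intro M v
    refine (hιinj _ (hV₀n _ _ (hιV _)) _ fun w hw => ?_).symm
    have h1 := heq (σ M) ⟨_, ((hV₀ _).1 (hιV (Multiplicative.ofAdd v))).1⟩ w hw
    rw [hσρ, hιψ (Multiplicative.ofAdd v) ⟨_, ((hV₀ _).1 (hιV _)).1⟩ rfl, toAdd_ofAdd] at h1
    rw [← h1, ofAdd_toAdd]
  obtain ⟨Φ, hΦ⟩ : ∃ Φ : ↥(Cfsg.qdOver F) →* X,
      ∀ x, Φ x = ι (Multiplicative.ofAdd (co x)) * σ (lin x) := by
    refine ⟨MonoidHom.mk' (fun x => ι (Multiplicative.ofAdd (co x)) * σ (lin x)) fun x y => ?_,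
      fun _ => rfl⟩
    obtain ⟨M, w, rfl⟩ := exists_el x
    obtain ⟨M', w', rfl⟩ := exists_el y
    rw [el_mul, co_el, co_el, co_el, lin_el, lin_el, lin_el, ofAdd_add, map_mul, map_mul, ← hact]
    group
  refine ⟨Φ.range, E, ?_, ?_, ?_, ⟨⟨⟨fun a b => Subtype.ext (hEc _ a.2 _).eq⟩⟩,
    fun z hz => hVe z (hEV hz)⟩, ⟨(MonoidHom.ofInjective ?_).symm⟩⟩
  · rintro a - b hb
    exact (hEc b hb a).symm.eq
  · rw [Subgroup.eq_bot_iff_forall]
    rintro g ⟨⟨x, rfl⟩, hgE⟩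
    have h1 : ρ (Φ x) = 1 := MonoidHom.mem_ker.1 (hker.ge (hEV hgE))
    rw [hΦ, map_mul, hρι, hσρ, one_mul] at h1
    have h2 : Φ x = ι (Multiplicative.ofAdd (co x)) := by rw [hΦ, h1, map_one, mul_one]
    exact hV₀E _ (h2 ▸ hιV _) hgE
  · refine eq_top_iff.2 fun g _ => ?_
    have hg : g * (σ (ρ g))⁻¹ ∈ V := hker.le (by
      rw [MonoidHom.mem_ker, map_mul, map_inv, hσρ, mul_inv_cancel])
    obtain ⟨a, ha, z, hz, e⟩ := hdec _ hg
    obtain ⟨w, hw⟩ : ∃ w, ψ ⟨a, ((hV₀ a).1 ha).1⟩ = Multiplicative.ofAdd w :=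
      ⟨Multiplicative.toAdd (ψ ⟨a, ((hV₀ a).1 ha).1⟩), (ofAdd_toAdd _).symm⟩
    have hwa : ι (Multiplicative.ofAdd w) = a := hιinj a ha _ fun v hv => by
      rw [← hw]; exact congrArg ψ (Subtype.ext hv)
    rw [show g = Φ (el (ρ g) w) * z by
      rw [hΦ, co_el, lin_el, hwa, mul_assoc, ← (hEc z hz _).eq, ← mul_assoc, ← e,
        inv_mul_cancel_right]]
    exact mul_mem_sup ⟨_, rfl⟩ hz
  · intro x y h
    have h1 := congrArg ρ h
    rw [hΦ, hΦ, map_mul, map_mul, hρι, hρι, hσρ, hσρ, one_mul, one_mul] at h1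
    rw [hΦ, hΦ, h1] at h
    have hco := mul_right_cancel h
    have h2 : co x = co y := by
      have ha := hιψ (Multiplicative.ofAdd (co x)) ⟨_, ((hV₀ _).1 (hιV _)).1⟩ rfl
      have hb := hιψ (Multiplicative.ofAdd (co y))
        ⟨_, ((hV₀ _).1 (hιV (Multiplicative.ofAdd (co x)))).1⟩ hco
      exact Multiplicative.ofAdd.injective (ha.symm.trans hb)
    rw [← el_lin_co x, ← el_lin_co y, h1, h2]

end CfsgLib.PushAmalgam
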