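import Cfsg.Agent.Lib.PushAmalgam.Transfer
import Cfsg.Agent.Lib.PushAmalgam.QdSplit

/-!
# A maximal `p`-local subgroup which is not pushed up

For `p ≥ 5` a maximal `p`-local subgroup in the pushing-up situation which does not contain the normalizer
of its Sylow subgroup is `Qd(q) × E`.
-/

set_option autoImplicit false
set_option linter.style.haveILetI false
set_option linter.unusedSectionVars false

open Subgroup
open scoped MatrixGroups commutatorElement Pointwise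
open CfsgLib.PushUp (cj mem_cj conj_mem_cj cj_mono ctr Fr Sit)

namespace CfsgLib.PushAmalgam

universe u

variable {Γ : Type u} [Group Γ] {p : ℕ} [Fact p.Prime] {T H K : Subgroup Γ}

theorem Mem.derived_core_le (mH : Mem p T H) (mK : Mem p T K) (hnle : ¬ Vo p H ≤ Qo p K) :
    ⁅Qo p H, Qo p H⁆ ≤ ⁅Qo p K, Qo p K⁆ := by
  refine commutator_le.2 fun a ha b hb => ?_
  obtain ⟨c, hc, r, hr, rfl⟩ := mK.T_eq_VQ mH hnle (mH.good.Q_le ha)
  obtain ⟨d, hd, s, hs, rfl⟩ := mK.T_eq_VQ mH hnle (mH.good.Q_le hb)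
  have hrQ : r ∈ Qo p H := by
    simpa using mul_mem (inv_mem (mH.V_le_Q hc)) ha
  have hsQ : s ∈ Qo p H := by
    simpa using mul_mem (inv_mem (mH.V_le_Q hd)) hb
  have hcen : ∀ v ∈ Vo p H, ∀ q ∈ Qo p H, Commute v q := fun v hv q hq =>
    (commute_of_cent (mH.V_cent_Q hv) hq).symm
  rw [(hcen c hc r hrQ).eq, (hcen d hd s hsQ).eq,
    comm_mul_of_commute (hcen c hc _ (mul_mem hsQ (mH.V_le_Q hd))) (hcen d hd r hrQ)]
  exact commutator_mem_commutator hr hs

/-- In a maximal local subgroup which is not pushed up `O_p` is abelian. -/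
theorem Mem.abelian_core (mH : Mem p T H) (prim : Prim T H) (sm : Small p T) (hp3 : p ≠ 3)
    (hloc : ∀ Y : Subgroup Γ, Y ≤ T → Y ≠ ⊥ → H ≤ normalizer (Y : Set Γ) →
      normalizer (Y : Set Γ) ≤ H) :
    Qo p H = Vo p H ∧ ∃ K, Mem p T K ∧ ∀ t ∈ T, ∃ a ∈ Vo p K, ∃ v ∈ Vo p H, t = a * v := by
  haveI := mH.good.fin
  obtain ⟨g, -, mK, hnf⟩ := mH.exists_not_flat prim
  have hnle : ¬ Vo p (cj g H) ≤ Qo p H := by
    intro hle
    obtain ⟨z, -, hzF, hzK, -⟩ := mH.exists_z mK hle hnf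
    rw [sm.comm hp3, mem_bot] at hzF
    exact hzK (hzF ▸ one_mem _)
  have hnle' : ¬ Vo p H ≤ Qo p (cj g H) := fun hle => hnle (mK.le_Q_symm mH hle)
  have hY : ⁅Qo p H, Qo p H⁆ = ⊥ := by
    by_contra hne
    have hgn : g ∈ normalizer ((⁅Qo p H, Qo p H⁆ : Subgroup Γ) : Set Γ) := by
      refine mem_normalizer_of_cj ?_
      rw [cj_commutator, ← Qo_cj]
      exact le_antisymm (mK.derived_core_le mH hnle) (mH.derived_core_le mK hnle')
    have hT : ⁅Qo p H, Qo p H⁆ ≤ T := commutator_le.2 fun a ha b hb => by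
      rw [commutatorElement_def]
      exact mH.good.Q_le (mul_mem (mul_mem (mul_mem ha hb) (inv_mem ha)) (inv_mem hb))
    have hn : H ≤ normalizer ((⁅Qo p H, Qo p H⁆ : Subgroup Γ) : Set Γ) := fun x hx =>
      mem_normalizer_of_cj (by rw [cj_commutator, mH.good.cjQ hx])
    refine hnle ?_
    rw [mH.good.cjH (hloc _ hT hne hn hgn)]
    exact mH.V_le_Q
  have hQV : Qo p H = Vo p H :=
    le_antisymm (le_inf le_rfl (commutator_eq_bot_iff_le_centralizer.1 hY)) mH.V_le_Q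
  refine ⟨hQV, _, mK, fun t ht => ?_⟩
  obtain ⟨a, ha, q, hq, rfl⟩ := mH.T_eq_VQ mK hnle ht
  exact ⟨a, ha, q, hQV ▸ hq, rfl⟩

/-- The structure of a maximal local subgroup which is not pushed up. -/
theorem maximal_local_qd {X : Type u} [Group X] [Finite X] (hp : 5 ≤ p) (G : Subgroup X)
    (hmax : ∀ R : Subgroup X, IsPGroup p ↥R → R ≠ ⊥ → G ≤ normalizer (R : Set X) →
      normalizer (R : Set X) = G)
    (S : Sylow p ↥G) (sit : Sit p (S : Subgroup ↥G)) (K : Subgroup ↥G) [K.Normal] {F : Type}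
    [Field F] [Fintype F] {n : ℕ} (hF : Fintype.card F = p ^ n)
    (φ : ↥G ⧸ K ≃* Matrix.ProjectiveSpecialLinearGroup (Fin 2) F)
    (hN : ¬ normalizer (((S : Subgroup ↥G).map G.subtype : Subgroup X) : Set X) ≤ G) :
    ∃ G₀ E : Subgroup X, Cfsg.IsInternalDirectProduct G₀ E G ∧ Cfsg.IsElementaryAbelian p E ∧
      Nonempty (↥G₀ ≃* ↥(Cfsg.qdOver F)) := by
  classical
  haveI := (CfsgLib.PushUp.charP_of_card hF).1
  obtain ⟨T, hT⟩ : ∃ T, T = (S : Subgroup ↥G).map G.subtype := ⟨_, rfl⟩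
  rw [← hT] at hN
  obtain ⟨τ, hτdef⟩ : ∃ τ : ↥(S : Subgroup ↥G) →* X, τ = G.subtype.comp (S : Subgroup ↥G).subtype :=
    ⟨_, rfl⟩
  have hτ : Function.Injective τ := hτdef ▸ G.subtype_injective.comp (subtype_injective _)
  have hτT : τ.range = T := by rw [hτdef, MonoidHom.range_comp, range_subtype, hT]
  have hTp : IsPGroup p T := hT ▸ S.2.map _
  have hTG : T ≤ G := hT ▸ map_subtype_le _
  have hTsub : T.subgroupOf G = (S : Subgroup ↥G) :=
    hT ▸ comap_map_eq_self_of_injective G.subtype_injective _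
  have hloc : ∀ Y : Subgroup X, Y ≤ T → Y ≠ ⊥ → G ≤ normalizer (Y : Set X) →
      normalizer (Y : Set X) ≤ G := fun Y hY hne hn => (hmax Y (hTp.to_le hY) hne hn).le
  have hprim : Prim T G := by
    intro Y hY hn hG
    by_contra hne
    exact hN (hn.trans (hloc Y hY hne hG))
  have hd : ∀ Y : Subgroup ↥(S : Subgroup ↥G), Y ≠ ⊥ → Y.Characteristic →
      ¬ (Y.map (S : Subgroup ↥G).subtype).Normal := by
    intro Y hne hc hn
    refine hne ((Subgroup.map_eq_bot_iff_of_injective _ hτ).1 (hprim _ ?_ ?_ ?_))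
    · exact hτT ▸ map_le_range τ Y
    · exact hτT ▸ map_char_normalized hτ hc
    · have e : Y.map τ = (Y.map (S : Subgroup ↥G).subtype).map G.subtype := by rw [hτdef, map_map]
      refine (normal_subgroupOf_iff_le_normalizer (e ▸ map_subtype_le _)).1 ?_
      have e2 : (Y.map τ).subgroupOf G = Y.map (S : Subgroup ↥G).subtype := by
        rw [e]; exact comap_map_eq_self_of_injective G.subtype_injective _
      exact e2.symm ▸ hn
  obtain ⟨hex, hnt, -⟩ := exists_shape (p := p) (S : Subgroup ↥G).subtype (subtype_injective _)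
    ((range_subtype (S : Subgroup ↥G)).symm ▸ sit) hd
  have hbase : Base p T := hτT ▸ Reduced.base_range hτ hex.red
  have hctr : ctr T = (center ↥(S : Subgroup ↥G)).map τ := hτT ▸ ctr_map_range hτ
  have good : Good p T G := by
    refine ⟨inferInstance, hTG, hTsub.symm ▸ sit, fun hc => center_ne_bot hex.red.isp ?_⟩
    have h0 := hprim (ctr T) (CfsgLib.PushUp.ctr_le T) (normalizer_le_ctr T)
      ((le_centralizer_iff.1 hc).trans (centralizer_le_normalizer _))
    rw [hctr] at h0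
    exact (Subgroup.map_eq_bot_iff_of_injective _ hτ).1 h0
  have mH : Mem p T G := ⟨hbase, good⟩
  have h0 := hex.zero
  rw [bigS0, if_neg (by omega), if_neg (by omega)] at h0
  have htop : (⊤ : Subgroup ↥(S : Subgroup ↥G)).map τ = T := by rw [← MonoidHom.range_eq_map, hτT]
  have hexp : ∀ s : ↥(S : Subgroup ↥G), s ^ p = 1 := fun s => mem_bot.1
    ((sup_eq_bot_iff.1 h0).2.le (subset_closure ⟨s, mem_top s, by rw [pow_one]⟩))
  have sm : Small p T := by
    refine ⟨fun _ => ?_, fun h3 => absurd h3 (by omega), fun _ _ t ht => ?_⟩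
    · rw [← htop, CfsgLib.PushUp.Fr_map hτ, frattini_top, ← map_commutator,
        (sup_eq_bot_iff.1 h0).1, Subgroup.map_bot]
    · obtain ⟨s, rfl⟩ := (hτT.ge ht : t ∈ τ.range)
      rw [← map_pow, hexp, map_one]
  obtain ⟨hQV, L, mL, hTL⟩ := mH.abelian_core hprim sm (by omega) hloc
  obtain ⟨F₀, _, _, -, hcard, ρ₀, ψ₀, hρ₀, hker₀, -, hψ₀, hψ₀1, hψ₀h, -⟩ := mH.natural
  have hCQ : (centralizer (Vo p G : Set X)).subgroupOf G = (Qo p G).subgroupOf G := by
    ext x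
    refine ⟨fun hx => ?_, fun hx => ?_⟩
    · exact mH.good.self_cent ⟨x.2, by rw [hQV]; exact hx⟩
    · exact mH.Q_cent_V hx
  have hCn : G ≤ normalizer ((Vo p G ⊓ centralizer (G : Set X) : Subgroup X) : Set X) :=
    le_normalizer_inf mH.good.normV fun g hg => mem_normalizer_of_cj (by
      rw [cj_centralizer, mH.good.cjH hg])
  have hns₀ := natStep_mk (Y := Vo p G) (Y' := Vo p G ⊓ centralizer (G : Set X)) mH.V_le_Q
    inf_le_left mH.good.normV hCn ρ₀ ψ₀ hρ₀ (hker₀.trans hCQ) hψ₀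
    (fun v => (hψ₀1 v).trans ⟨fun h => mem_inf.2 ⟨v.2, h⟩, fun h => h.2⟩) hψ₀h
  have hidx : Fintype.card F₀ = Fintype.card F := by
    rw [hcard, hF, ← relIndex_of_psl sit K hF φ, hT, Qo, Cfsg.pCoreOf,
      relIndex_map_map_of_injective _ _ G.subtype_injective]
  obtain σ := FiniteField.ringEquivOfCardEq hidx
  obtain ⟨ρ, ψ, hρ, hker, hψ, hψ1, heq⟩ := (hns₀.mapField σ).nat
  haveI : ((Vo p G).subgroupOf G).Normal :=
    (normal_subgroupOf_iff_le_normalizer (mH.V_le.trans hTG)).2 mH.good.normV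
  obtain ⟨G₀, E, hcomm, hinf, hsup, hEel, ⟨e⟩⟩ := split_natural (F := F) (p := p) (X := ↥G)
    (by omega) ((Vo p G).subgroupOf G) (fun a ha b hb => Subtype.ext (mH.V_comm ha hb).eq)
    (fun v hv => Subtype.ext (mH.elemV hv)) ρ hρ
    (hker.trans (by rw [pCore_eq, hQV])) ψ hψ
    (fun v => (hψ1 v).trans ⟨fun h => mem_center_iff.2 fun g => Subtype.ext
      (commute_of_cent h.2 g.2).eq, fun h => mem_inf.2 ⟨v.2, mem_centralizer_iff.2 fun g hg =>
        congrArg Subtype.val (mem_center_iff.1 h ⟨g, hg⟩)⟩⟩) heq S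
    (fun s hs => congrArg Subtype.val (hexp ⟨s, hs⟩)) ((Vo p L).subgroupOf G)
    (fun a ha b hb => Subtype.ext (mL.V_comm ha hb).eq) fun s hs => by
      obtain ⟨a, ha, v, hv, e⟩ := hTL _ (hT ▸ mem_map_of_mem _ hs : (s : X) ∈ T)
      exact ⟨⟨a, hTG (mL.V_le ha)⟩, ha, ⟨v, hTG (mH.V_le hv)⟩, hv, Subtype.ext e⟩
  refine ⟨G₀.map G.subtype, E.map G.subtype, ⟨map_subtype_le _, map_subtype_le _, ?_, ?_, ?_⟩,
    ⟨⟨⟨fun a b => Subtype.ext ?_⟩⟩, ?_⟩,
    ⟨(G₀.equivMapOfInjective G.subtype G.subtype_injective).symm.trans e⟩⟩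
  · rintro _ ⟨a, ha, rfl⟩ _ ⟨b, hb, rfl⟩
    rw [← map_mul, ← map_mul, hcomm a ha b hb]
  · rw [← map_inf _ _ _ G.subtype_injective, hinf, Subgroup.map_bot]
  · rw [← Subgroup.map_sup, hsup, ← MonoidHom.range_eq_map, range_subtype]
  · obtain ⟨a', ha', ea⟩ := a.2
    obtain ⟨b', hb', eb⟩ := b.2
    haveI := hEel.1
    show (a : X) * b = b * a
    rw [← ea, ← eb, ← map_mul, ← map_mul,
      show a' * b' = b' * a' from congrArg Subtype.val (hEel.1.is_comm.comm ⟨a', ha'⟩ ⟨b', hb'⟩)]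
  · rintro _ ⟨z, hz, rfl⟩
    rw [← map_pow, hEel.2 z hz, map_one]

end CfsgLib.PushAmalgam
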