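import Cfsg.Agent.Lib.PushAmalgam.Five

/-!
# Pushing up in rank one: the pair of characteristic subgroups
-/

set_option autoImplicit false
set_option linter.style.haveILetI false
set_option linter.unusedSectionVars false

open Subgroup
open scoped commutatorElement Pointwise
open CfsgLib.PushUp (MA cj mem_cj conj_mem_cj cj_mono card_cj ctr Fr)

namespace CfsgLib.PushAmalgam

universe u

variable {Γ : Type u} [Group Γ] {p : ℕ} [Fact p.Prime] {S X : Subgroup Γ}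

theorem not_flat (cb : CB p S X 1) {B K K' e e' : Subgroup Γ} (mB : MemX p S X e B)
    (mK : MemX p S X e K) (mB' : MemX p S X e' B) (mK' : MemX p S X e' K') (hn : ¬ Com p K K') :
    ¬ B ≤ normalizer ((Vo p B ⊔ Vo p K : Subgroup Γ) : Set Γ) := by
  intro hN
  refine hn fun v hv w hw => ?_
  obtain ⟨g, hg, rfl⟩ := mB.mem.good.conjugate mB'.mem.good
  haveI := mK.mem.good.fin
  have hv' : v ∈ Vo p B ⊔ Vo p (cj g K) := by
    have h1 : cj g (Vo p B ⊔ Vo p K) = Vo p B ⊔ Vo p K :=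
      CfsgLib.PushUp.cj_eq_of_mem_normalizer (hN hg)
    rw [cj_sup, CfsgLib.PushUp.cj_eq_of_mem_normalizer (mB.mem.good.normV hg)] at h1
    rw [Vo_cj, h1]
    exact mem_sup_right hv
  have hle : Vo p B ⊔ Vo p (cj g K) ≤ centralizer (Vo p K' : Set Γ) :=
    sup_le (cb 1 _ _ le_rfl (.one mK' mB')).le_cent (cb 1 _ _ le_rfl (.one mK' (mK.conj g))).le_cent
  exact (commute_of_cent (hle hv') hw).symm

/-- Without a common subgroup there are four members in critical position. -/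
theorem exists_quad (R : Ref p S X) (hX : X ≤ Big p S) (orb : OneOrbit p S X)
    (hcb : ¬ ∀ n, CB p S X n) :
    ∃ A B C D e₀ e₁ e₂, Quad p A B C D e₀ e₁ e₂ ∧ MemX p S X e₁ B ∧ MemX p S X e₁ C ∧
      ∃ n ∈ Vo p A, ∃ y ∈ Vo p D, ⁅n, y⁆ ∉ Vo p B := by
  have hnfl : ∃ T H K, MemX p S X T H ∧ MemX p S X T K ∧
      ¬ H ≤ normalizer ((Vo p H ⊔ Vo p K : Subgroup Γ) : Set Γ) := by
    by_contra! hall
    exact hcb (cb_of_flat (cb_one R hX) fun T H K => hall T H K)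
  classical
  push Not at hcb
  obtain ⟨b, hb, hmin⟩ : ∃ b, ¬ CB p S X b ∧ ∀ k < b, CB p S X k :=
    ⟨Nat.find hcb, Nat.find_spec hcb, fun k hk => not_not.1 (Nat.find_min hcb hk)⟩
  obtain ⟨c, rfl⟩ : ∃ c, b = c + 2 := by
    refine ⟨b - 2, ?_⟩
    by_contra h
    rcases Nat.le_one_iff_eq_zero_or_eq_one.1 (show b ≤ 1 by omega) with rfl | rfl
    · exact hb cb_zero
    · exact hb (cb_one R hX)
  have cb : CB p S X (c + 1) := hmin (c + 1) (by omega)
  obtain ⟨H, T, l⟩ := exists_line orb hnfl (b := c + 2) cb (by omega) hb (c + 2)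
  rw [show c + 2 + (c + 2) = 2 * c + 4 by omega] at l
  rcases Nat.eq_zero_or_pos c with rfl | hc
  swap
  · exact (l.false_of_three cb hc).elim
  obtain ⟨m00, m01⟩ := l.walk 0 (by omega)
  obtain ⟨m11, m12⟩ := l.walk 1 (by omega)
  obtain ⟨m22, m23⟩ := l.walk 2 (by omega)
  have hAC : ¬ Com p (H 0) (H 2) := l.crit 0 (by omega)
  have hBD : ¬ Com p (H 1) (H 3) := l.crit 1 (by omega)
  have d : Quad p (H 0) (H 1) (H 2) (H 3) (T 0) (T 1) (T 2) :=
    { mA := m00.mem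
      mB₀ := m01.mem
      mB := m11.mem
      mC := m12.mem
      mC₂ := m22.mem
      mD := m23.mem
      cAB := cb 1 _ _ le_rfl (.one m00 m01)
      cBC := cb 1 _ _ le_rfl (.one m11 m12)
      cCD := cb 1 _ _ le_rfl (.one m22 m23)
      nAC := hAC
      nBD := hBD
      joinB := l.joint 0 (by omega)
      joinC := l.joint 1 (by omega)
      nfBA := not_flat cb m01 m00 m11 m12 hAC
      nfBC := not_flat cb m11 m12 m01 m00 (fun h => hAC h.symm)
      nfCB := not_flat cb m12 m11 m22 m23 hBD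
      nfCD := not_flat cb m22 m23 m12 m11 (fun h => hBD h.symm)
      inner := fun n hn y hy => by
        have := l.mem_seg cb (n := n) (y := y) hn hy
        simpa [seg] using this }
  obtain ⟨n, hn, y, hy, hny⟩ := l.moved 0 (by omega)
  exact ⟨_, _, _, _, _, _, _, d, m11, m12, n, hn, y, hy, hny⟩

/-- Some nontrivial invariant subgroup of the centre has a centrally large companion normal in every
member moving it. -/
theorem exists_pair (R₀ : Ref p S X) (hne : X ≠ ⊥) (hX : X ≤ Big p S)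
    (h3 : p = 3 → X ≤ ⁅⁅Fr S, S⁆, S⁆ ⊔ Fr (Fr S)) :
    ∃ X₁, Ref p S X₁ ∧ X₁ ≠ ⊥ ∧ ∃ S₂, S₂ ≤ S ∧ Lg S S₂ ∧
      S ⊓ centralizer (S₂ : Set Γ) ≤ S₂ ∧ normalizer (S : Set Γ) ≤ normalizer (S₂ : Set Γ) ∧
      ∀ H, MemX p S X₁ S H → H ≤ normalizer (S₂ : Set Γ) := by
  have done : ∀ Y, Ref p S Y → Y ≠ ⊥ → (∀ n, CB p S Y n) →
      ∃ X₁, Ref p S X₁ ∧ X₁ ≠ ⊥ ∧ ∃ S₂, S₂ ≤ S ∧ Lg S S₂ ∧
        S ⊓ centralizer (S₂ : Set Γ) ≤ S₂ ∧ normalizer (S : Set Γ) ≤ normalizer (S₂ : Set Γ) ∧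
        ∀ H, MemX p S X₁ S H → H ≤ normalizer (S₂ : Set Γ) := by
    intro Y RY hY hcb
    refine ⟨Y, RY, hY, ?_⟩
    by_cases hm : ∃ H, MemX p S Y S H
    · exact exists_common RY hcb hm
    · exact ⟨S, le_rfl, RY.base.lg_self, inf_le_left, le_rfl, fun H m => absurd ⟨H, m⟩ hm⟩
  have nonflat : ∀ {Y : Subgroup Γ}, CB p S Y 1 → ¬ (∀ n, CB p S Y n) →
      ∃ T H K, MemX p S Y T H ∧ MemX p S Y T K ∧
        ¬ H ≤ normalizer ((Vo p H ⊔ Vo p K : Subgroup Γ) : Set Γ) := by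
    intro Y cb h
    by_contra! hall
    exact h (cb_of_flat cb fun T H K => hall T H K)
  by_cases hcb0 : ∀ n, CB p S X n
  · exact done X R₀ hne hcb0
  obtain ⟨X₁, R₁, hX₁F, hX₁, orb, hlift⟩ := exists_orbit R₀ hX (nonflat (cb_one R₀ hX) hcb0)
  have hX₁B : X₁ ≤ Big p S := hX₁F.trans (le_sup_left.trans le_sup_left)
  by_cases hcb1 : ∀ n, CB p S X₁ n
  · exact done X₁ R₁ hX₁ hcb1
  exfalso
  obtain ⟨A, B, C, D, e₀, e₁, e₂, d, m11, -, n, hn, y, hy, hny'⟩ := exists_quad R₁ hX₁B orb hcb1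
  have hy' : y ∈ Vo p D := hy
  rcases (show p = 2 ∨ p = 3 ∨ 5 ≤ p by
    have h2 := (Fact.out : p.Prime).two_le
    rcases (Nat.lt_or_ge p 5) with h | h
    · interval_cases p
      · exact Or.inl rfl
      · exact Or.inr (Or.inl rfl)
      · exact absurd (Fact.out : Nat.Prime 4) (by norm_num)
    · exact Or.inr (Or.inr h)) with h2 | h3' | h5
  · exact hny' (d.two h2 hn hy')
  · obtain ⟨L, mL, hLV⟩ := hlift e₁ B m11
    obtain ⟨γ, hγ, hmove⟩ := mL.moved
    refine hmove fun z hz => ?_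
    refine d.Fr_central mL.mem hLV (hγ ▸ (cj_ctr γ S).le (cj_mono R₀.le hz)) (d.three_bound ?_)
    have h1 := cj_mono (g := γ) (h3 h3') hz
    rw [cj_sup, cj_commutator, cj_commutator, cj_Fr, cj_Fr, cj_Fr, ← hγ] at h1
    exact h1
  · exact hny' (d.flip.five h5 hy' hn)

end CfsgLib.PushAmalgam
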