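import Cfsg.Agent.Lib.PushAmalgam.Transfer

/-!
# Pushing up in rank one: the neighbours in the case of two natural factors

When no nontrivial characteristic subgroup of `S` is normal and `S` is not of class two, the critical
quadruple is moved to the given member. What it says is recorded inside `S`: for the centre `Y` of
`P = O_p(G)` the centre `V` of a neighbour, an elementary abelian supplement `A` of `P` from the member
at distance two, and an abelian supplement of largest order.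
-/

set_option autoImplicit false
set_option linter.style.haveILetI false
set_option linter.unusedSectionVars false

open Subgroup
open scoped commutatorElement Pointwise
open CfsgLib.PushUp (MA cj mem_cj conj_mem_cj cj_mono card_cj ctr Fr Sit)

namespace CfsgLib.PushAmalgam

universe u

/-- The two neighbours and an abelian supplement, inside the `p`-group. -/
structure Nbr (p : ℕ) {S : Type u} [Group S] (P V A A₀ : Subgroup S) : Prop where
  center_le_P : center S ≤ P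
  V_le : V ≤ P
  center_le : center S ≤ V
  V_comm : ∀ v ∈ V, ∀ w ∈ V, Commute v w
  V_elem : ∀ v ∈ V, v ^ p = 1
  V_card : Nat.card ↥V = Nat.card ↥(ctr P)
  fix : ∀ v ∈ V, ∀ s : S, Commute s v → v ∈ center S ∨ ∀ w ∈ V, Commute w s
  quad : ∀ v ∈ V, ∀ s : S, ⁅s, v⁆ ∈ center S
  qq : ∀ s : S, ∃ a ∈ P, ∃ c : S, (∀ w ∈ V, Commute w c) ∧ s = a * c
  A_comm : ∀ a ∈ A, ∀ b ∈ A, Commute a b
  A_elem : ∀ a ∈ A, a ^ p = 1
  A_sup : ∀ s : S, ∃ a ∈ A, ∃ c ∈ P, s = a * c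
  A_Fr : ∀ a ∈ A, ∀ f ∈ Fr P, Commute a f
  A_P : ∀ c ∈ P, ∀ a ∈ A, ⁅c, a⁆ ∈ V ⊔ ctr P
  cube : ∃ n ∈ A, ∃ y ∈ P, ∃ v ∈ ctr P, ⁅n, ⁅n, y⁆⁆ = ⁅n, v⁆ ∧ ⁅n, v⁆ ≠ 1
  A₀_comm : ∀ a ∈ A₀, ∀ b ∈ A₀, Commute a b
  A₀_sup : ∀ s : S, ∃ a ∈ A₀, ∃ c ∈ P, s = a * c
  A₀_self : ∀ s : S, (∀ x ∈ A₀ ⊓ P ⊔ ctr P, Commute x s) → s ∈ A₀ ⊓ P ⊔ ctr P

variable {p : ℕ} [Fact p.Prime]

/-- The neighbours of a member which is not of class two. -/
theorem Mem.exists_nbr {Γ : Type u} [Group Γ] {T H : Subgroup Γ} (mH : Mem p T H) (prim : Prim T H)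
    (sm : Small p T) (hncl : ⁅Fr T, T⁆ ≠ ⊥) :
    ∃ A B C D e₀ e₂, Quad p A B C D e₀ T e₂ ∧ Vo p C = Vo p H ∧
      Nat.card ↥(Vo p B) = Nat.card ↥(Vo p H) ∧ ∃ n ∈ Vo p A, ∃ y ∈ Vo p D, ⁅n, y⁆ ∉ Vo p B := by
  classical
  haveI := mH.good.fin
  have hA : ∀ K, Mem p T K → Vo p K ≤ Qo p H := fun K mK => by
    by_contra hnle
    exact hncl (mH.case_one mK hnle prim).1
  obtain ⟨g, hg, mK, hnf⟩ := mH.exists_not_flat prim
  obtain ⟨K, hK⟩ : ∃ K, K = cj g H := ⟨_, rfl⟩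
  rw [← hK] at hnf mK
  have hKQ : Vo p K ≤ Qo p H := hA K mK
  obtain ⟨z, hz, hzF, hzK, -⟩ := mH.exists_z mK hKQ hnf
  obtain ⟨X, hX⟩ : ∃ X, X = ctr T ⊓ ⁅Fr T, T⁆ := ⟨_, rfl⟩
  have hXB : X ≤ Big p T := hX ▸ inf_le_right.trans (le_sup_left.trans le_sup_left)
  have R : Ref p T X := ⟨mH.base, hX ▸ inf_le_left, fun x hx => mem_normalizer_of_cj (by
    rw [hX, cj_inf, cj_ctr, cj_commutator, cj_Fr, CfsgLib.PushUp.cj_eq_of_mem_normalizer hx])⟩
  have mKX : MemX p T X T K := ⟨mK, 1, (cj_one T).symm, fun h => hzK (h (by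
    rw [cj_one, hX]; exact mem_inf.2 ⟨hz, hzF⟩))⟩
  have hback : ∀ {Y : Subgroup Γ}, MemX p T Y T K → MemX p T Y T H := fun {Y} m => by
    have h1 := m.conj g⁻¹
    rwa [CfsgLib.PushUp.cj_eq_of_mem_normalizer (inv_mem hg), hK, cj_inv_cj] at h1
  obtain ⟨X₁, R₁, hX₁F, -, orb, mK₁, -⟩ := exists_orbit_pair R hXB (hback mKX) mKX hnf
  have mH₁ := hback mK₁
  have hX₁B : X₁ ≤ Big p T := hX₁F.trans (le_sup_left.trans le_sup_left)
  have hcb : ¬ ∀ n, CB p T X₁ n := by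
    intro hcb
    obtain ⟨S₂, hS₂, -, hS₂c, hS₂n, hS₂H⟩ := exists_common R₁ hcb ⟨H, mH₁⟩
    have h0 : S₂ = ⊥ := prim S₂ hS₂ hS₂n (hS₂H H mH₁)
    refine mH.good.not_le_Q fun t ht => ?_
    have : t ∈ S₂ := hS₂c ⟨ht, mem_centralizer_iff.2 fun x hx => by
      rw [h0, SetLike.mem_coe, mem_bot] at hx
      rw [hx, one_mul, mul_one]⟩
    rw [h0, mem_bot] at this
    exact this ▸ one_mem _
  obtain ⟨A, B, C, D, e₀, e₁, e₂, d, mB, mC, n, hn, y, hy, hny⟩ := exists_quad R₁ hX₁B orb hcb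
  obtain ⟨δ, hδT, hδV⟩ := orb e₁ C T H mC mH₁
  obtain ⟨ε, -, hεV⟩ := orb e₁ B T H mB mH₁
  haveI := mB.mem.good.fin
  haveI := mC.mem.good.fin
  haveI := d.mA.good.fin
  haveI := d.mD.good.fin
  refine ⟨cj δ A, cj δ B, cj δ C, cj δ D, cj δ e₀, cj δ e₂, hδT ▸ d.conj δ, ?_, ?_,
    δ * n * δ⁻¹, ?_, δ * y * δ⁻¹, ?_, ?_⟩
  · rw [Vo_cj, hδV]
  · rw [Vo_cj, card_cj, ← card_cj ε (Vo p B), hεV]
  · rw [Vo_cj]; exact conj_mem_cj hn
  · rw [Vo_cj]; exact conj_mem_cj hy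
  · intro h
    refine hny ?_
    rw [Vo_cj, mem_cj] at h
    simpa [commutatorElement_def, mul_assoc] using h

/-- The neighbours, inside the abstract group. -/
theorem exists_nbr {S G : Type u} [Group S] [Finite S] [Group G] [Finite G] (τ : S →* G)
    (hτ : Function.Injective τ) (sit : Sit p τ.range)
    (hd : ∀ Y : Subgroup S, Y ≠ ⊥ → Y.Characteristic → ¬ (Y.map τ).Normal)
    (hex : Exceptional p S) (hncl : ⁅frattini S, (⊤ : Subgroup S)⁆ ≠ ⊥) :
    ∃ V A A₀, Nbr p ((Cfsg.pCore p G).comap τ) V A A₀ := by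
  classical
  haveI hnt : Nontrivial S := by
    by_contra h
    haveI := not_nontrivial_iff_subsingleton.1 h
    refine Sit.not_le_pCore sit ?_
    rintro _ ⟨s, rfl⟩
    rw [Subsingleton.elim s 1, map_one]
    exact one_mem _
  obtain ⟨j, hj, hjτ⟩ := exists_extension τ hτ
  obtain ⟨T, hT⟩ : ∃ T, T = (emb S).range := ⟨_, rfl⟩
  have hTτ : T = τ.range.map j := by
    rw [hT, MonoidHom.map_range]
    exact congrArg MonoidHom.range (MonoidHom.ext fun s => (hjτ s).symm)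
  have hmapτ : ∀ Y : Subgroup S, (Y.map τ).map j = Y.map (emb S) := fun Y => by
    rw [map_map]; exact congrArg (fun f => Y.map f) (MonoidHom.ext hjτ)
  obtain ⟨e, he⟩ : ∃ e : G ≃* ↥j.range, ∀ g, (e g : Equiv.Perm (S × ℕ)) = j g :=
    ⟨MonoidHom.ofInjective hj, fun _ => rfl⟩
  haveI : Finite ↥j.range := Finite.of_equiv _ e.toEquiv
  have hTj : T ≤ j.range := by rw [hTτ]; exact map_le_range j _
  have hje : j.range.subtype.comp e.toMonoidHom = j := MonoidHom.ext he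
  have hsit : Sit p (T.subgroupOf j.range) := by
    have := Sit.map_equiv sit e
    convert this using 1
    refine map_injective j.range.subtype_injective ?_
    rw [map_subgroupOf_eq_of_le hTj, map_map, hje, hTτ]
  have hprim : Prim T j.range := by
    intro Y hY hn hH
    have hc := characteristic_of_normalized (hT ▸ hY) (hT ▸ hn)
    have h0 : Y.comap (emb S) = ⊥ := by
      by_contra h0
      refine hd _ h0 hc ⟨fun y hy g => ?_⟩
      have h1 : j y ∈ Y := by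
        have : j y ∈ ((Y.comap (emb S)).map τ).map j := ⟨y, hy, rfl⟩
        rwa [hmapτ, map_comap_eq_self (hT ▸ hY : Y ≤ (emb S).range)] at this
      have h2 := mem_normalizer_conj (hH ⟨g, rfl⟩) h1
      rw [← map_mul, ← map_inv, ← map_mul] at h2
      obtain ⟨s, hs⟩ := (hT ▸ hY h2 : j (g * y * g⁻¹) ∈ (emb S).range)
      rw [← hs] at h2
      exact ⟨s, h2, hj (by rw [hjτ, hs])⟩
    rw [← map_comap_eq_self (hT ▸ hY : Y ≤ (emb S).range), h0, Subgroup.map_bot]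
  have hS : IsPGroup p S := hex.red.isp
  have hctrT : ctr T = (center S).map (emb S) := hT ▸ ctr_range
  have good : Good p T j.range := by
    refine ⟨inferInstance, hTj, hsit, fun hc => center_ne_bot hS ?_⟩
    have h0 := hprim (ctr T) (CfsgLib.PushUp.ctr_le T) (normalizer_le_ctr T)
      ((le_centralizer_iff.1 hc).trans (centralizer_le_normalizer _))
    rw [hctrT] at h0
    exact (Subgroup.map_eq_bot_iff_of_injective _ emb_injective).1 h0
  have mH : Mem p T j.range := ⟨hT ▸ hex.red.base, good⟩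
  have htop : (⊤ : Subgroup S).map (emb S) = T := by rw [hT, MonoidHom.range_eq_map]
  have hFr : Fr T = (frattini S).map (emb S) := by
    rw [← htop, CfsgLib.PushUp.Fr_map emb_injective, frattini_top]
  have hinj : ∀ {X : Subgroup S}, X.map (emb S) = ⊥ ↔ X = ⊥ :=
    Subgroup.map_eq_bot_iff_of_injective _ emb_injective
  have hncl' : ⁅Fr T, T⁆ ≠ ⊥ := by
    rw [hFr, ← htop, ← map_commutator, Ne, hinj]
    exact hncl
  have sm : Small p T := by
    have h0 := hex.zero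
    rw [bigS0] at h0
    refine ⟨fun hp => ?_, fun hp => ?_, fun hp hp' => ?_⟩
    · rw [hFr, ← htop, ← map_commutator, hinj]
      split_ifs at h0
      · exact (sup_eq_bot_iff.1 h0).1
      · exact (sup_eq_bot_iff.1 h0).1
    · rw [if_neg (by omega), if_pos hp] at h0
      rw [hFr, ← htop, ← map_commutator, ← map_commutator, CfsgLib.PushUp.Fr_map emb_injective,
        hinj, hinj]
      exact sup_eq_bot_iff.1 h0
    · rw [if_neg hp, if_neg hp'] at h0
      intro t ht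
      obtain ⟨s, rfl⟩ := (hT ▸ ht : t ∈ (emb S).range)
      have h1 : s ^ p = 1 := mem_bot.1 ((sup_eq_bot_iff.1 h0).2.le
        (subset_closure ⟨s, mem_top s, by rw [pow_one]⟩))
      rw [← map_pow, h1, map_one]
  obtain ⟨A, B, C, D, e₀, e₂, d, hVC, hcard, n, hn, y, hy, hny⟩ := mH.exists_nbr hprim sm hncl'
  haveI := d.mB.base.fin
  have hQC : Qo p C = Qo p j.range := by rw [← d.mC.centV, hVC, mH.centV]
  obtain ⟨P, hP⟩ : ∃ P, P = (Cfsg.pCore p G).comap τ := ⟨_, rfl⟩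
  rw [← hP]
  obtain ⟨ι, hι⟩ : ∃ ι, ι = emb S := ⟨_, rfl⟩
  have hιi : Function.Injective ι := hι ▸ emb_injective
  rw [← hι] at hT hctrT
  have hQP : Qo p j.range = P.map ι := by
    rw [hP, hι, ← hmapτ, map_comap_eq_self sit.pCore_le,
      show Qo p j.range = (Cfsg.pCore p G).map j by
        rw [Qo, Cfsg.pCoreOf, ← pCore_map_equiv e, map_map, hje]]
  have hVP : Vo p j.range = (ctr P).map ι := by
    rw [Vo, hQP, CfsgLib.PushUp.ctr_map hιi]
  have hmemT : ∀ s, ι s ∈ T := fun s => hT ▸ ⟨s, rfl⟩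
  have hpull : ∀ {x : Equiv.Perm (S × ℕ)}, x ∈ T → ∃ s, ι s = x := fun hx => (hT ▸ hx : _ ∈ ι.range)
  have hmemP : ∀ {s : S}, ι s ∈ Qo p j.range ↔ s ∈ P := fun {s} => by
    rw [hQP]; exact mem_map_iff_mem hιi
  have hmemY : ∀ {s : S}, ι s ∈ Vo p j.range ↔ s ∈ ctr P := fun {s} => by
    rw [hVP]; exact mem_map_iff_mem hιi
  have hmemZ : ∀ {s : S}, ι s ∈ ctr T ↔ s ∈ center S := fun {s} => by
    rw [hctrT]; exact mem_map_iff_mem hιi
  have hcomm : ∀ {a b : S}, Commute (ι a) (ι b) → Commute a b := fun h =>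
    hιi (by rw [map_mul, map_mul]; exact h)
  have hVB : Vo p B ≤ Qo p j.range := hQC ▸ d.VB_le
  have ne : Vo p B ≠ Vo p C := fun h => d.nfCB (by rw [h, sup_idem]; exact d.mC.good.normV)
  obtain ⟨A₀, hA₀, hA₀Q⟩ := mH.facts.ex
  obtain ⟨hA₀T, hA₁⟩ := mH.facts.off A₀ hA₀ hA₀Q
  obtain ⟨N, hN⟩ : ∃ N, N = A₀.comap ι ⊓ P ⊔ ctr P := ⟨_, rfl⟩
  have hN' : N.map ι = A₀ ⊓ Qo p j.range ⊔ Vo p j.range := by
    rw [hN, Subgroup.map_sup, hVP, map_inf _ _ _ hιi, map_comap_eq_self (hT ▸ hA₀.1), ← hQP]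
  refine ⟨(Vo p B).comap ι, (Vo p A).comap ι, A₀.comap ι,
    { center_le_P := fun z hz => hmemP.1 (mH.ctr_le_Q (hmemZ.2 hz))
      V_le := fun v hv => hmemP.1 (hVB hv)
      center_le := fun z hz => d.mB.facts.zle (hmemZ.2 hz)
      V_comm := fun v hv w hw => hcomm (d.mB.V_comm hv hw)
      V_elem := fun v hv => hιi (by rw [map_pow, map_one]; exact d.mB.elemV hv)
      V_card := ?_
      fix := fun v hv s hc => ?_
      quad := fun v hv s => hmemZ.1 (by
        rw [map_commutatorElement]; exact d.mB.facts.quad _ hv _ (hmemT s))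
      qq := fun s => ?_
      A_comm := fun a ha b hb => hcomm (d.mA.V_comm ha hb)
      A_elem := fun a ha => hιi (by rw [map_pow, map_one]; exact d.mA.elemV ha)
      A_sup := fun s => ?_
      A_Fr := fun a ha f hf => hcomm (d.flip.Fr_QB.2 _ ha _ (by
        rw [hQC, hQP, CfsgLib.PushUp.Fr_map hιi]; exact mem_map_of_mem ι hf))
      A_P := fun c hc a ha => ?_
      cube := ?_
      A₀_comm := fun a ha b hb => ?_
      A₀_sup := fun s => ?_
      A₀_self := fun s hs => ?_ }⟩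
  · rw [← card_map_of_injective hιi, map_comap_eq_self (hT ▸ d.mB.V_le), hcard, hVP,
      card_map_of_injective hιi]
  · by_cases hz : ι v ∈ ctr T
    · exact Or.inl (hmemZ.1 hz)
    · exact Or.inr fun w hw => hcomm (commute_of_cent
        (d.mB.Q_cent_V (d.mB.cent_elem hv hz (hmemT s) (hc.map ι))) hw)
  · obtain ⟨a, ha, c, hc, hac⟩ := d.mC.T_eq_QQ d.mB ne (hmemT s)
    obtain ⟨a', rfl⟩ := hpull (d.mC.good.Q_le ha)
    obtain ⟨c', rfl⟩ := hpull (d.mB.good.Q_le hc)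
    exact ⟨a', hmemP.1 (hQC ▸ ha), c', fun w hw => hcomm (commute_of_cent (d.mB.Q_cent_V hc) hw),
      hιi (by rw [map_mul]; exact hac)⟩
  · obtain ⟨a, ha, c, hc, hac⟩ := d.e₁_eq (hmemT s)
    obtain ⟨a', rfl⟩ := hpull (d.VA_le_e₁ ha)
    obtain ⟨c', rfl⟩ := hpull (d.mC.good.Q_le hc)
    exact ⟨a', ha, c', hmemP.1 (hQC ▸ hc), hιi (by rw [map_mul]; exact hac)⟩
  · have hmap : ((Vo p B).comap ι ⊔ ctr P).map ι = Vo p B ⊔ Vo p C := by
      rw [Subgroup.map_sup, map_comap_eq_self (hT ▸ d.mB.V_le), ← hVP, hVC]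
    refine (mem_map_iff_mem hιi).1 (hmap ▸ ?_)
    rw [map_commutatorElement]
    obtain ⟨w, hw, u, hu, e'⟩ := d.flip.QB_eq (hQC ▸ hmemP.2 hc : ι c ∈ Qo p C)
    have hua : ⁅u, ι a⁆ ∈ ctr T := by
      refine ⟨?_, centralizer_le d.mB.good.le (d.P_cent ha hu.2)⟩
      rw [commutatorElement_def]
      exact T.mul_mem (T.mul_mem (T.mul_mem (d.mB.good.Q_le hu.2) (hmemT a))
        (T.inv_mem (d.mB.good.Q_le hu.2))) (T.inv_mem (hmemT a))
    rw [e', show ⁅w * u, ι a⁆ = w * ⁅u, ι a⁆ * w⁻¹ * ⁅w, ι a⁆ by simp only [commutatorElement_def]; group,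
      (commute_of_cent hua.2 (d.VD_le hw)).eq, mul_inv_cancel_right, ← commutatorElement_inv (ι a) w]
    exact mul_mem (mem_sup_right (d.mC.facts.zle hua)) (inv_mem (d.inner _ ha w hw))
  · obtain ⟨n', rfl⟩ := hpull (d.VA_le_e₁ hn)
    obtain ⟨y', rfl⟩ := hpull (d.VD_le hy)
    have h := d.inner _ hn _ hy
    rw [← SetLike.mem_coe, coe_mul_of_left_le_normalizer_right _ _ (d.mB.V_le.trans d.mC.T_normV)] at h
    obtain ⟨b, hb, c, hc, e'⟩ := h
    obtain ⟨c', rfl⟩ := hpull (d.mC.V_le hc)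
    have hbn : Commute (ι n') b := d.cAB _ hn b hb
    have h1 : ⁅ι n', ⁅ι n', ι y'⁆⁆ = ⁅ι n', ι c'⁆ := by
      rw [← show b * ι c' = ⁅ι n', ι y'⁆ from e',
        show ⁅ι n', b * ι c'⁆ = ⁅ι n', b⁆ * (b * ⁅ι n', ι c'⁆ * b⁻¹) by
          simp only [commutatorElement_def]; group,
        commutatorElement_eq_one_iff_commute.2 hbn, one_mul,
        (commute_of_cent (d.mC.facts.quad _ hc _ (hmemT n')).2 (d.mB.V_le hb)).eq, mul_inv_cancel_right]
    refine ⟨n', hn, y', hmemP.1 (hQC ▸ d.flip.VA_le hy), c', hmemY.1 (hVC ▸ hc), hιi ?_, fun h0 => ?_⟩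
    · simpa only [map_commutatorElement] using h1
    · refine d.not_commute hn hy hny (commutatorElement_eq_one_iff_commute.1 ?_)
      rw [h1, ← map_commutatorElement, h0, map_one]
  · haveI := hA₀.2.1
    exact hcomm (commute_of_cent (le_centralizer A₀ hb) ha)
  · have hs := hA₀T.ge (hmemT s)
    rw [← SetLike.mem_coe, coe_mul_of_left_le_normalizer_right _ _ (hA₀.1.trans mH.T_normQ)] at hs
    obtain ⟨a, ha, c, hc, hac⟩ := hs
    obtain ⟨a', rfl⟩ := hpull (hA₀.1 ha)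
    obtain ⟨c', rfl⟩ := hpull (mH.good.Q_le hc)
    exact ⟨a', ha, c', hmemP.1 hc, hιi (by rw [map_mul]; exact hac.symm)⟩
  · rw [← hN] at hs ⊢
    refine (mem_map_iff_mem hιi).1 ?_
    have h1 := mH.base.cent_ma hA₁
    rw [hN']
    refine h1.le ⟨hmemT s, mem_centralizer_iff.2 fun x hx => ?_⟩
    rw [SetLike.mem_coe, ← hN'] at hx
    obtain ⟨x', hx', rfl⟩ := hx
    exact (hs x' hx').map ι

end CfsgLib.PushAmalgam
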