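import Cfsg.Agent.Lib.PushAmalgam.Graph

/-!
# Pushing up in rank one: one orbit of members

From an adjacent pair which is not flat we get a central element `z` of `S` in `[Φ(S), S]`. In the
family of the subgroup generated by the conjugates of `z` under `N(S)` all the pairs `(T, V)` are
conjugate.
-/

set_option autoImplicit false
set_option linter.style.haveILetI false
set_option linter.unusedSectionVars false

open Subgroup
open scoped commutatorElement Pointwise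
open CfsgLib.PushUp (MA cj mem_cj conj_mem_cj cj_mono card_cj ctr Fr)

namespace CfsgLib.PushAmalgam

universe u

variable {Γ : Type u} [Group Γ] {p : ℕ} [Fact p.Prime] {S X T T' H K L : Subgroup Γ}

theorem Mem.exists_z (mH : Mem p T H) (mK : Mem p T K) (hle : Vo p K ≤ Qo p H)
    (hnf : ¬ H ≤ normalizer ((Vo p H ⊔ Vo p K : Subgroup Γ) : Set Γ)) :
    ∃ z, z ∈ ctr T ∧ z ∈ ⁅Fr T, T⁆ ∧ z ∉ centralizer (K : Set Γ) ∧
      ∃ t ∈ T, ∃ v ∈ Vo p K, z = ⁅t, v⁆ := by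
  haveI := mH.base.fin
  have ne : Vo p K ≠ Vo p H := fun e => hnf (by rw [e, sup_idem]; exact mH.good.normV)
  obtain ⟨x, hx, e⟩ := mH.good.exists_opp
  obtain ⟨a, ha, q, hq, v, hv, hz⟩ : ∃ a ∈ cj x T, ∃ q ∈ Qo p H, ∃ v ∈ Vo p K, ⁅⁅a, q⁆, v⁆ ≠ 1 := by
    by_contra! hall
    refine hnf ?_
    conv_lhs => rw [← e]
    refine sup_le (le_normalizer_sup mH.T_normV mK.T_normV) ?_
    have key : ∀ a ∈ cj x T, ∀ y ∈ Vo p H ⊔ Vo p K, a * y * a⁻¹ ∈ Vo p H ⊔ Vo p K := by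
      intro a ha y hy
      have haH : a ∈ H := (mH.edge hx).good.le ha
      have hmap : Vo p H ⊔ Vo p K ≤ (Vo p H ⊔ Vo p K).comap (MulAut.conj a).toMonoidHom := by
        refine sup_le (fun y hy => mem_sup_left (mem_normalizer_conj (mH.good.normV haH) hy)) ?_
        intro v hv
        show a * v * a⁻¹ ∈ Vo p H ⊔ Vo p K
        have hw : v⁻¹ * (a * v * a⁻¹) ∈ Vo p H := by
          have hwQ : v⁻¹ * (a * v * a⁻¹) ∈ Qo p H :=
            mul_mem (inv_mem (hle hv)) (mem_normalizer_conj (mH.good.normQ haH) (hle hv))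
          refine ⟨hwQ, mem_centralizer_iff.2 fun q' hq' => ?_⟩
          have hq := mem_normalizer_conj' (mH.good.normQ haH) hq'
          obtain ⟨q, hqdef⟩ : ∃ q, q = a⁻¹ * q' * a := ⟨_, rfl⟩
          rw [← hqdef] at hq
          have hq'e : q' = ⁅a, q⁆ * q := by rw [hqdef, commutatorElement_def]; group
          have hc : ⁅q, v⁆ ∈ centralizer (H : Set Γ) :=
            mH.comm_central mK ne hle hv (mH.good.Q_le hq)
          have e1 : ⁅q', v⁆ = ⁅q, v⁆ := by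
            rw [hq'e, show ⁅⁅a, q⁆ * q, v⁆ = ⁅a, q⁆ * ⁅q, v⁆ * ⁅a, q⁆⁻¹ * ⁅⁅a, q⁆, v⁆ by
              simp only [commutatorElement_def]; group, hall a ha q hq v hv, mul_one,
              (commute_of_cent hc (Qo_le H (comm_mem (mH.good.normQ haH) hq))).eq, mul_inv_cancel_right]
          have e2 : ⁅q', a * v * a⁻¹⁆ = ⁅q', v⁆ := by
            rw [e1, show ⁅q', a * v * a⁻¹⁆ = a * ⁅q, v⁆ * a⁻¹ by
              rw [hqdef]; simp only [commutatorElement_def]; group,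
              (commute_of_cent hc haH).eq, mul_inv_cancel_right]
          simp only [commutatorElement_def] at e2
          have e3 : (a * v * a⁻¹) * q'⁻¹ * (a * v * a⁻¹)⁻¹ = v * q'⁻¹ * v⁻¹ := by
            refine mul_left_cancel (a := q') ?_
            simpa [mul_assoc] using e2
          have e4 : Commute (v⁻¹ * (a * v * a⁻¹)) q'⁻¹ := by
            show v⁻¹ * (a * v * a⁻¹) * q'⁻¹ = q'⁻¹ * (v⁻¹ * (a * v * a⁻¹))
            calc v⁻¹ * (a * v * a⁻¹) * q'⁻¹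
                = v⁻¹ * ((a * v * a⁻¹) * q'⁻¹ * (a * v * a⁻¹)⁻¹) * (a * v * a⁻¹) := by group
              _ = v⁻¹ * (v * q'⁻¹ * v⁻¹) * (a * v * a⁻¹) := by rw [e3]
              _ = _ := by group
          simpa using e4.inv_right.eq.symm
        rw [show a * v * a⁻¹ = v * (v⁻¹ * (a * v * a⁻¹)) by group]
        exact mul_mem (mem_sup_right hv) (mem_sup_left hw)
      exact hmap hy
    exact fun a ha => CfsgLib.PushUp.mem_normalizer_of_forall (key a ha)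
      fun y hy => by simpa using key a⁻¹ (inv_mem ha) y hy
  obtain ⟨t, ht⟩ : ∃ t, t = ⁅a, q⁆ := ⟨_, rfl⟩
  rw [← ht] at hz
  have haH : a ∈ H := (mH.edge hx).good.le ha
  have htT : t ∈ T := ht ▸ mH.good.Q_le (comm_mem (mH.good.normQ haH) hq)
  have hzH := mH.comm_central mK ne hle hv htT
  refine ⟨⁅t, v⁆, mK.facts.quad v hv t htT, ?_,
    fun h => hz (mK.single hv htT h), t, htT, v, hv, rfl⟩
  have e1 : x⁻¹ * ⁅t, v⁆ * x = ⁅t, v⁆ := by
    rw [mul_assoc, ← (commute_of_cent hzH hx).eq, inv_mul_cancel_left]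
  rw [← e1, ht, show x⁻¹ * ⁅⁅a, q⁆, v⁆ * x =
      ⁅⁅x⁻¹ * a * x, x⁻¹ * q * x⁆, x⁻¹ * v * x⁆ by simp only [commutatorElement_def]; group]
  exact commutator_mem_commutator
    (comm_mem_Fr mH.base.isp (mem_cj.1 ha)
      (mH.good.Q_le (mem_normalizer_conj' (mH.good.normQ hx) hq)))
    (mH.good.Q_le (mem_normalizer_conj' (mH.good.normQ hx) (hle hv)))

/-- All pairs `(T, V)` of the family are conjugate. -/
def OneOrbit (p : ℕ) (S X : Subgroup Γ) : Prop :=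
  ∀ T H T' L, MemX p S X T H → MemX p S X T' L → ∃ δ, cj δ T = T' ∧ cj δ (Vo p H) = Vo p L

theorem exists_orbit_pair (R : Ref p S X) (hX : X ≤ Big p S) (mH : MemX p S X T H)
    (mK : MemX p S X T K) (hnf : ¬ H ≤ normalizer ((Vo p H ⊔ Vo p K : Subgroup Γ) : Set Γ)) :
    ∃ X₁, Ref p S X₁ ∧ X₁ ≤ ⁅Fr S, S⁆ ∧ X₁ ≠ ⊥ ∧ OneOrbit p S X₁ ∧ MemX p S X₁ T K ∧
      ∀ T H, MemX p S X₁ T H → ∃ H', MemX p S X T H' ∧ Vo p H' = Vo p H := by
  obtain ⟨γ, hγ, -⟩ := mH.moved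
  have hle : Vo p K ≤ Qo p H :=
    mH.mem.le_Q_of_comm mK.mem (cb_one R hX 1 H K le_rfl (.one mH mK))
  obtain ⟨z, hzc, hzF, hzK, t, htT, v, hv, hz⟩ := mH.mem.exists_z mK.mem hle hnf
  haveI := mK.mem.good.fin
  -- transport to `S`
  obtain ⟨K₀, hK₀⟩ : ∃ K₀, K₀ = cj γ⁻¹ K := ⟨_, rfl⟩
  have mK₀ : MemX p S X S K₀ := by
    have := mK.conj γ⁻¹
    rwa [hγ, cj_inv_cj, ← hK₀] at this
  haveI := mK₀.mem.good.fin
  obtain ⟨zS, hzS⟩ : ∃ zS, zS = γ⁻¹ * z * γ := ⟨_, rfl⟩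
  have hmv : ∀ {Y : Subgroup Γ} {y : Γ}, y ∈ cj γ Y → γ⁻¹ * y * γ ∈ Y := fun h => mem_cj.1 h
  have hzSc : zS ∈ ctr S := hzS ▸ hmv ((cj_ctr γ S).ge (hγ ▸ hzc))
  have hzSF : zS ∈ ⁅Fr S, S⁆ := by
    refine hzS ▸ hmv ?_
    rw [cj_commutator, cj_Fr, ← hγ]
    exact hzF
  have hzSK : zS ∉ centralizer (K₀ : Set Γ) := fun h => hzK (by
    rw [hK₀, ← cj_centralizer, mem_cj, hzS] at h
    simpa [mul_assoc] using h)
  obtain ⟨t₀, ht₀, v₀, hv₀, hz₀⟩ : ∃ t₀ ∈ S, ∃ v₀ ∈ Vo p K₀, zS = ⁅t₀, v₀⁆ := by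
    refine ⟨γ⁻¹ * t * γ, hmv (hγ ▸ htT), γ⁻¹ * v * γ, ?_, ?_⟩
    · rw [hK₀, Vo_cj, mem_cj, inv_inv]
      simpa [mul_assoc] using hv
    · rw [hzS, hz]
      simp only [commutatorElement_def]
      group
  obtain ⟨X₁, hX₁⟩ : ∃ X₁, X₁ = closure {y | ∃ g ∈ normalizer (S : Set Γ), y = g * zS * g⁻¹} :=
    ⟨_, rfl⟩
  have hgen : ∀ {g : Γ}, g ∈ normalizer (S : Set Γ) → g * zS * g⁻¹ ∈ X₁ := fun hg =>
    hX₁ ▸ subset_closure ⟨_, hg, rfl⟩
  have hinv : ∀ g ∈ normalizer (S : Set Γ), cj g X₁ ≤ X₁ := by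
    intro g hg
    have hle : X₁ ≤ X₁.comap (MulAut.conj g).toMonoidHom := by
      conv_lhs => rw [hX₁]
      rw [closure_le]
      rintro _ ⟨h, hh, rfl⟩
      show g * (h * zS * h⁻¹) * g⁻¹ ∈ X₁
      simpa [mul_assoc] using hgen (mul_mem hg hh)
    exact map_le_iff_le_comap.2 hle
  have hX₁F : X₁ ≤ ctr S ⊓ ⁅Fr S, S⁆ := by
    rw [hX₁, closure_le]
    rintro _ ⟨g, hg, rfl⟩
    refine mem_inf.2 ⟨mem_normalizer_conj (normalizer_le_ctr S hg) hzSc, ?_⟩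
    have h := conj_mem_cj (g := g) hzSF
    rwa [cj_commutator, cj_Fr, CfsgLib.PushUp.cj_eq_of_mem_normalizer hg] at h
  have R₁ : Ref p S X₁ := ⟨R.base, hX₁F.trans inf_le_left, fun g hg =>
    CfsgLib.PushUp.mem_normalizer_of_forall (fun y hy => hinv g hg (conj_mem_cj hy))
      fun y hy => by simpa using hinv g⁻¹ (inv_mem hg) (conj_mem_cj hy)⟩
  have hBig₁ : X₁ ≤ Big p S := (hX₁F.trans inf_le_right).trans (le_sup_left.trans le_sup_left)
  have hzX₁ : zS ∈ X₁ := by simpa using hgen (one_mem _)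
  have mK₁ : MemX p S X₁ S K₀ := ⟨mK₀.mem, 1, (cj_one S).symm, fun h => hzSK (h (by
    rw [cj_one]; exact hzX₁))⟩
  -- one orbit
  have horb : ∀ T' L, MemX p S X₁ T' L → ∃ δ, cj δ S = T' ∧ cj δ (Vo p K₀) = Vo p L := by
    intro T' L m
    obtain ⟨δ, e, hm⟩ := m.moved
    obtain ⟨g, hg, hgm⟩ : ∃ g ∈ normalizer (S : Set Γ),
        (δ * g) * zS * (δ * g)⁻¹ ∉ centralizer (L : Set Γ) := by
      by_contra! hall
      refine hm ?_
      rw [hX₁, cj, MonoidHom.map_closure, closure_le]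
      rintro _ ⟨_, ⟨g, hg, rfl⟩, rfl⟩
      simpa [mul_assoc] using hall g hg
    have eT : T' = cj (δ * g) S := by
      rw [cj_mul, CfsgLib.PushUp.cj_eq_of_mem_normalizer hg, e]
    refine ⟨δ * g, eT.symm, ?_⟩
    by_contra hne
    refine hgm ?_
    have mK' : MemX p S X₁ T' (cj (δ * g) K₀) := eT ▸ mK₁.conj (δ * g)
    have hneV : Vo p (cj (δ * g) K₀) ≠ Vo p L := by rwa [Vo_cj]
    have hle' := m.mem.le_Q_of_comm mK'.mem (cb_one R₁ hBig₁ 1 _ _ le_rfl (.one m mK'))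
    have hc := m.mem.comm_central mK'.mem hneV hle' (v := (δ * g) * v₀ * (δ * g)⁻¹)
      (t := (δ * g) * t₀ * (δ * g)⁻¹) (by rw [Vo_cj]; exact conj_mem_cj hv₀)
      (by rw [eT]; exact conj_mem_cj ht₀)
    rw [hz₀]
    simpa [commutatorElement_def, mul_assoc] using hc
  refine ⟨X₁, R₁, hX₁F.trans inf_le_right, fun h => hzSK ?_, ?_, ?_, ?_⟩
  · rw [h, mem_bot] at hzX₁
    rw [hzX₁]
    exact one_mem _
  · intro T H T' L m m'
    obtain ⟨δ, h1, h2⟩ := horb T H m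
    obtain ⟨ε, h3, h4⟩ := horb T' L m'
    exact ⟨ε * δ⁻¹, by rw [cj_mul, ← h1, cj_inv_cj, h3], by rw [cj_mul, ← h2, cj_inv_cj, h4]⟩
  · have := mK₁.conj γ
    rwa [hK₀, ← cj_mul, mul_inv_cancel, cj_one, ← hγ] at this
  · intro T H m
    obtain ⟨δ, h1, h2⟩ := horb T H m
    exact ⟨cj δ K₀, h1 ▸ mK₀.conj δ, by rw [Vo_cj, h2]⟩

/-- `exists_orbit_pair` without the pair. -/
theorem exists_orbit (R : Ref p S X) (hX : X ≤ Big p S)
    (hnf : ∃ T H K, MemX p S X T H ∧ MemX p S X T K ∧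
      ¬ H ≤ normalizer ((Vo p H ⊔ Vo p K : Subgroup Γ) : Set Γ)) :
    ∃ X₁, Ref p S X₁ ∧ X₁ ≤ ⁅Fr S, S⁆ ∧ X₁ ≠ ⊥ ∧ OneOrbit p S X₁ ∧
      ∀ T H, MemX p S X₁ T H → ∃ H', MemX p S X T H' ∧ Vo p H' = Vo p H := by
  obtain ⟨T, H, K, mH, mK, hnf⟩ := hnf
  obtain ⟨X₁, h1, h2, h3, h4, -, h5⟩ := exists_orbit_pair R hX mH mK hnf
  exact ⟨X₁, h1, h2, h3, h4, h5⟩

/-- Every member can be replaced by one with the same `V` in an adjacent pair which is not flat. -/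
theorem OneOrbit.lift (orb : OneOrbit p S X)
    (hnf : ∃ T H K, MemX p S X T H ∧ MemX p S X T K ∧
      ¬ H ≤ normalizer ((Vo p H ⊔ Vo p K : Subgroup Γ) : Set Γ))
    (m : MemX p S X T L) :
    ∃ L' U, MemX p S X T L' ∧ MemX p S X T U ∧ Vo p L' = Vo p L ∧
      ¬ L' ≤ normalizer ((Vo p L' ⊔ Vo p U : Subgroup Γ) : Set Γ) := by
  obtain ⟨T₀, H, K, mH, mK, hnf⟩ := hnf
  obtain ⟨δ, h1, h2⟩ := orb T₀ H T L mH m
  haveI := mH.mem.good.fin
  haveI := mK.mem.good.fin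
  refine ⟨cj δ H, cj δ K, h1 ▸ mH.conj δ, h1 ▸ mK.conj δ, by rw [Vo_cj, h2], fun hle => hnf ?_⟩
  intro h hh
  refine mem_normalizer_of_cj ?_
  have h3 := CfsgLib.PushUp.cj_eq_of_mem_normalizer (hle (conj_mem_cj (g := δ) hh))
  rw [Vo_cj, Vo_cj, ← cj_sup, ← cj_mul, show δ * h * δ⁻¹ * δ = δ * h by group, cj_mul] at h3
  exact map_injective (MulAut.conj δ).injective h3

end CfsgLib.PushAmalgam
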