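import Cfsg.Agent.Lib.PushAmalgam.CaseA
import Cfsg.Agent.Lib.PushAmalgam.Double
import Cfsg.Agent.Lib.PushAmalgam.Main

/-!
# Pushing up in rank one: the structure when no invariant subgroup is normal
-/

set_option autoImplicit false
set_option linter.style.haveILetI false
set_option linter.unusedSectionVars false

open Subgroup
open scoped MatrixGroups commutatorElement Pointwise
open CfsgLib.PushUp (MA cj mem_cj conj_mem_cj cj_mono card_cj ctr Fr)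

namespace CfsgLib.PushAmalgam

universe u

variable {Γ : Type u} [Group Γ] {p : ℕ} [Fact p.Prime] {T H : Subgroup Γ}

theorem Mem.ctr_ne_bot (mH : Mem p T H) : ctr T ≠ ⊥ := fun e =>
  mH.good.moved (e ▸ bot_le)

/-- An element of `V_A` does not commute with its critical commutator. -/
theorem Quad.not_commute {A B C D e₀ e₁ e₂ : Subgroup Γ} (d : Quad p A B C D e₀ e₁ e₂) {n y : Γ}
    (hn : n ∈ Vo p A) (hy : y ∈ Vo p D) (hny : ⁅n, y⁆ ∉ Vo p B) : ¬ Commute n ⁅n, y⁆ := by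
  intro hc
  by_cases hnQ : n ∈ Qo p C
  · have h0 := d.mem_ctr₀ hn fun w hw => commute_of_cent (d.mC.V_cent_Q hw) hnQ
    exact hny (comm_mem' (d.mB.good.normV (d.mB.good.le (d.VD_le hy))) (d.mB₀.facts.zle h0))
  have h := d.inner n hn y hy
  rw [← SetLike.mem_coe, coe_mul_of_left_le_normalizer_right _ _ (d.mB.V_le.trans d.mC.T_normV)] at h
  obtain ⟨b, hb, c, hcC, e⟩ := h
  have h1 : Commute n b := d.cAB n hn b hb
  have h2 : Commute n c := by
    have hbc : Commute n (b * c) := by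
      rw [show b * c = ⁅n, y⁆ from e]; exact hc
    have := h1.inv_right.mul_right hbc
    rwa [inv_mul_cancel_left] at this
  refine hny ?_
  rw [← show b * c = ⁅n, y⁆ from e]
  refine mul_mem hb (d.mB.facts.zle ?_)
  exact d.mC.facts.fix c hcC n (d.VA_le_e₁ hn) hnQ h2

theorem relIndex_cj (g : Γ) (X Y : Subgroup Γ) : (cj g X).relIndex (cj g Y) = X.relIndex Y := by
  exact relIndex_map_map_of_injective X Y (MulAut.conj g).injective

/-- Some conjugate of a member under `N(T)` gives a pair which is not flat. -/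
theorem Mem.exists_not_flat (mH : Mem p T H) (prim : Prim T H) :
    ∃ g ∈ normalizer (T : Set Γ), Mem p T (cj g H) ∧
      ¬ H ≤ normalizer ((Vo p H ⊔ Vo p (cj g H) : Subgroup Γ) : Set Γ) := by
  haveI := mH.good.fin
  have hconj : ∀ g ∈ normalizer (T : Set Γ), Mem p T (cj g H) := fun g hg => by
    have := mH.conj g
    rwa [CfsgLib.PushUp.cj_eq_of_mem_normalizer hg] at this
  suffices h : ∃ g ∈ normalizer (T : Set Γ),
      ¬ H ≤ normalizer ((Vo p H ⊔ Vo p (cj g H) : Subgroup Γ) : Set Γ) by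
    obtain ⟨g, hg, h⟩ := h
    exact ⟨g, hg, hconj g hg, h⟩
  by_contra! hall
  obtain ⟨W, hW⟩ : ∃ W, W = sSup {V | ∃ g ∈ normalizer (T : Set Γ), V = cj g (Vo p H)} := ⟨_, rfl⟩
  have hVW : Vo p H ≤ W := hW ▸ le_sSup ⟨1, one_mem _, (cj_one _).symm⟩
  have hWn : ∀ h ∈ normalizer (T : Set Γ), cj h W ≤ W := fun h hh => by
    rw [hW]
    refine cj_sSup_vs h ?_
    rintro _ ⟨g, hg, rfl⟩
    exact le_sSup ⟨h * g, mul_mem hh hg, (cj_mul h g _).symm⟩
  have hWH : ∀ h ∈ H, cj h W ≤ W := fun h hh => by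
    conv_lhs => rw [hW]
    refine cj_sSup_vs h ?_
    rintro _ ⟨g, hg, rfl⟩
    haveI := (hconj g hg).good.fin
    have e := CfsgLib.PushUp.cj_eq_of_mem_normalizer (hall g hg hh)
    rw [cj_sup] at e
    rw [← Vo_cj]
    exact (le_sup_right.trans e.le).trans (sup_le hVW (by rw [Vo_cj, hW]; exact le_sSup ⟨g, hg, rfl⟩))
  have hnorm : ∀ X : Subgroup Γ, (∀ h ∈ X, cj h W ≤ W) → X ≤ normalizer (W : Set Γ) :=
    fun X hX h hh => CfsgLib.PushUp.mem_normalizer_of_forall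
      (fun y hy => hX h hh (conj_mem_cj hy))
      fun y hy => by simpa using hX h⁻¹ (inv_mem hh) (conj_mem_cj hy)
  refine mH.ctr_ne_bot (eq_bot_iff.2 ((mH.facts.zle.trans hVW).trans
    (prim W ?_ (hnorm _ hWn) (hnorm _ hWH)).le))
  rw [hW]
  refine sSup_le ?_
  rintro _ ⟨g, hg, rfl⟩
  exact (cj_mono mH.V_le).trans (CfsgLib.PushUp.cj_eq_of_mem_normalizer hg).le

/-- The structure of a member without invariant normal subgroups of `T`. -/
theorem Mem.rank_one (mH : Mem p T H) (prim : Prim T H) (sm : Small p T) :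
    ∃ (F : Type) (_ : Field F) (_ : Fintype F), CharP F p ∧
      Fintype.card F = (Qo p H).relIndex T ∧
      ((ShapeOne F p ↥H ∧ ⁅Fr T, T⁆ = ⊥ ∧ (p ≠ 2 → ∀ t ∈ T, t ^ p = 1)) ∨
        (p = 3 ∧ ShapeTwo F p ↥H ∧ ∃ n ∈ T, ∃ y ∈ T, ¬ Commute n ⁅n, y⁆)) := by
  classical
  haveI := mH.good.fin
  by_cases hA : ∃ K, Mem p T K ∧ ¬ Vo p K ≤ Qo p H
  · obtain ⟨K, mK, hnle⟩ := hA
    obtain ⟨h1, h2, F, iF, iFt, hchar, hcard, hshape⟩ := mH.case_one mK hnle prim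
    exact ⟨F, iF, iFt, hchar, hcard, Or.inl ⟨hshape, h1, h2⟩⟩
  push Not at hA
  -- some conjugate gives a pair which is not flat
  obtain ⟨g, hg, mK, hnf⟩ := mH.exists_not_flat prim
  obtain ⟨K, hK⟩ : ∃ K, K = cj g H := ⟨_, rfl⟩
  rw [← hK] at hnf mK
  have hKQ : Vo p K ≤ Qo p H := hA K mK
  obtain ⟨z, hz, hzF, hzK, -⟩ := mH.exists_z mK hKQ hnf
  have hp3 : p = 3 := by
    by_contra hp
    rw [sm.comm hp, mem_bot] at hzF
    exact hzK (hzF ▸ one_mem _)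
  obtain ⟨hc3, hFF⟩ := sm.three hp3
  obtain ⟨X, hX⟩ : ∃ X, X = ctr T ⊓ ⁅Fr T, T⁆ := ⟨_, rfl⟩
  have hXB : X ≤ Big p T := hX ▸ inf_le_right.trans (le_sup_left.trans le_sup_left)
  have R : Ref p T X := ⟨mH.base, hX ▸ inf_le_left, fun x hx => mem_normalizer_of_cj (by
    rw [hX, cj_inf, cj_ctr, cj_commutator, cj_Fr, CfsgLib.PushUp.cj_eq_of_mem_normalizer hx])⟩
  have mKX : MemX p T X T K := ⟨mK, 1, (cj_one T).symm, fun h => hzK (h (by
    rw [cj_one, hX]; exact mem_inf.2 ⟨hz, hzF⟩))⟩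
  have hback : ∀ {Y : Subgroup Γ}, MemX p T Y T K → MemX p T Y T H := fun {Y} m => by
    have h1 := m.conj g⁻¹
    rwa [CfsgLib.PushUp.cj_eq_of_mem_normalizer (inv_mem hg), hK, cj_inv_cj] at h1
  obtain ⟨X₁, R₁, hX₁F, -, orb, mK₁, -⟩ := exists_orbit_pair R hXB (hback mKX) mKX hnf
  have mH₁ := hback mK₁
  have hX₁B : X₁ ≤ Big p T := hX₁F.trans (le_sup_left.trans le_sup_left)
  have hcb : ¬ ∀ n, CB p T X₁ n := by
    intro hcb
    obtain ⟨S₂, hS₂, -, hS₂c, hS₂n, hS₂H⟩ := exists_common R₁ hcb ⟨H, mH₁⟩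
    have h0 : S₂ = ⊥ := prim S₂ hS₂ hS₂n (hS₂H H mH₁)
    refine mH.good.not_le_Q fun t ht => ?_
    have : t ∈ S₂ := hS₂c ⟨ht, mem_centralizer_iff.2 fun x hx => by
      rw [h0, SetLike.mem_coe, mem_bot] at hx
      rw [hx, one_mul, mul_one]⟩
    rw [h0, mem_bot] at this
    exact this ▸ one_mem _
  obtain ⟨A, B, C, D, e₀, e₁, e₂, d, mB, mC, n, hn, y, hy, hny⟩ := exists_quad R₁ hX₁B orb hcb
  obtain ⟨δ, hδT, hδV⟩ := orb e₁ B T H mB mH₁
  haveI := mB.mem.good.fin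
  haveI := mC.mem.good.fin
  obtain ⟨ε, hεT, hεV⟩ := orb T H T (cj δ C) mH₁ (hδT ▸ mC.conj δ)
  have hcardC : (Qo p (cj δ C)).relIndex T = (Qo p H).relIndex T := by
    have e : Qo p (cj δ C) = cj ε (Qo p H) := by
      rw [← (hδT ▸ mC.conj δ : MemX p T X₁ T (cj δ C)).mem.centV, ← mH.centV, cj_inf, cj_centralizer,
        hεT, hεV]
    rw [e]
    conv_lhs => rw [← hεT]
    exact relIndex_cj ε _ _
  have d' : Quad p (cj δ A) (cj δ B) (cj δ C) (cj δ D) (cj δ e₀) T (cj δ e₂) := hδT ▸ d.conj δ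
  obtain ⟨F, iF, iFt, hchar, hcard, hshape⟩ := case_two d' mH (by rw [Vo_cj, hδV]) mK hKQ hnf hcardC
    (by omega) hc3 hFF
  refine ⟨F, iF, iFt, hchar, hcard, Or.inr ⟨hp3, hshape, ?_⟩⟩
  refine ⟨δ * n * δ⁻¹, hδT ▸ conj_mem_cj (d.VA_le_e₁ hn), δ * y * δ⁻¹, hδT ▸ conj_mem_cj (d.VD_le hy),
    fun h => d.not_commute hn hy hny ?_⟩
  have h1 := h.map (MulAut.conj δ⁻¹).toMonoidHom
  rw [map_commutatorElement] at h1
  simpa [mul_assoc] using h1

end CfsgLib.PushAmalgam
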