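import Cfsg.Agent.Lib.PushAmalgam.Double

/-!
# `SL₂` in characteristic three on its natural module

An additive map commuting with the elements of order dividing four is a scalar, an invariant alternating
biadditive form has at most `|F|` values, and an additive subgroup of a root group invariant under the torus is
trivial or everything.
-/

set_option autoImplicit false
set_option linter.style.haveILetI false
set_option linter.unusedSectionVars false

open Matrix
open scoped MatrixGroups
open CfsgLib.PushUpTwo (up lo upGroup slExt slDet up_val lo_val up_mem eq_up_of_mem)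

namespace CfsgLib.PushAmalgam.SLThree

variable {F : Type*} [Field F] [CharP F 3]

theorem three_eq : (3 : F) = 0 := by exact_mod_cast CharP.cast_eq_zero F 3

theorem two_ne : (2 : F) ≠ 0 := fun h => one_ne_zero (α := F) (by linear_combination three_eq (F := F) - h)

/-- Every element is a difference of two squares. -/
theorem sq_sub_sq (t : F) : (t + 1) ^ 2 - (t - 1) ^ 2 = t := by
  linear_combination t * three_eq (F := F)

/-- The elements of square one are the scalars `±1`. -/
theorem eq_one_or_neg_one {x : SL(2, F)} (h : x * x = 1) :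
    x = 1 ∨ (x : Matrix (Fin 2) (Fin 2) F) = -1 := by
  have he : x⁻¹ = x := inv_eq_of_mul_eq_one_right h
  have e := congrArg (fun y : SL(2, F) => (y : Matrix (Fin 2) (Fin 2) F)) he
  simp only [Matrix.SpecialLinearGroup.coe_inv, Matrix.adjugate_fin_two] at e
  have e01 := congrFun (congrFun e 0) 1
  have e10 := congrFun (congrFun e 1) 0
  have e00 := congrFun (congrFun e 0) 0
  simp at e01 e10 e00
  have hb : x.1 0 1 = 0 := mul_left_cancel₀ (two_ne (F := F)) (by linear_combination -e01)
  have hc : x.1 1 0 = 0 := mul_left_cancel₀ (two_ne (F := F)) (by linear_combination -e10)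
  have hd := slDet x
  rw [hb, zero_mul, sub_zero, e00, mul_self_eq_one_iff] at hd
  rcases hd with h1 | h1
  · left
    refine slExt ?_ ?_ ?_ ?_ <;> simp [hb, hc, h1, e00]
  · right
    ext i j
    fin_cases i <;> fin_cases j <;> simp [hb, hc, h1, e00]

/-- The element of order four. -/
theorem swap_pow_four : swapSL F ^ 4 = 1 := by
  refine slExt ?_ ?_ ?_ ?_ <;>
    simp [pow_succ, swapSL_val, Matrix.mul_apply, Fin.sum_univ_two]

theorem conj_pow_four (g : SL(2, F)) {w : SL(2, F)} (hw : w ^ 4 = 1) : (g * w * g⁻¹) ^ 4 = 1 := by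
  rw [conj_pow, hw, mul_one, mul_inv_cancel]

/-- Two elements of order four which do not commute. -/
theorem exists_noncommuting :
    ∃ g h : SL(2, F), g ^ 4 = 1 ∧ h ^ 4 = 1 ∧ ¬ Commute g h := by
  refine ⟨swapSL F, up 1 * swapSL F * (up 1)⁻¹, swap_pow_four, conj_pow_four _ swap_pow_four, fun h => ?_⟩
  have e := congrArg (fun y : SL(2, F) => y.1 0 0) h.eq
  simp [swapSL_val, up_val, Matrix.mul_apply, Fin.sum_univ_two, Matrix.SpecialLinearGroup.coe_inv,
    Matrix.adjugate_fin_two] at e

/-- An additive map commuting with the elements of order dividing four commutes with everything. -/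
theorem commutes_all (φ : (Fin 2 → F) →+ (Fin 2 → F))
    (h : ∀ g : SL(2, F), g ^ 4 = 1 → ∀ v, φ (g.1.mulVec v) = g.1.mulVec (φ v)) (g : SL(2, F)) :
    ∀ v, φ (g.1.mulVec v) = g.1.mulVec (φ v) := by
  classical
  -- the subgroup of commuting elements
  obtain ⟨C, hC⟩ : ∃ C : Subgroup SL(2, F), ∀ g, g ∈ C ↔ ∀ v, φ (g.1.mulVec v) = g.1.mulVec (φ v) := by
    refine ⟨{ carrier := {g | ∀ v, φ (g.1.mulVec v) = g.1.mulVec (φ v)}
              one_mem' := fun v => by simp
              mul_mem' := fun {a b} ha hb v => by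
                rw [Matrix.SpecialLinearGroup.coe_mul, ← Matrix.mulVec_mulVec, ha, hb, Matrix.mulVec_mulVec]
              inv_mem' := fun {a} ha v => ?_ }, fun _ => Iff.rfl⟩
    have h1 := ha ((a⁻¹).1.mulVec v)
    rw [Matrix.mulVec_mulVec, ← Matrix.SpecialLinearGroup.coe_mul, mul_inv_cancel,
      Matrix.SpecialLinearGroup.coe_one, Matrix.one_mulVec] at h1
    rw [h1, Matrix.mulVec_mulVec, ← Matrix.SpecialLinearGroup.coe_mul, inv_mul_cancel,
      Matrix.SpecialLinearGroup.coe_one, Matrix.one_mulVec]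
  -- the nilpotent matrices commute
  have hsq : ∀ t : F, ∀ v, φ ((!![0, -(t ^ 2); 0, 0] : Matrix (Fin 2) (Fin 2) F).mulVec v) =
      (!![0, -(t ^ 2); 0, 0] : Matrix (Fin 2) (Fin 2) F).mulVec (φ v) := by
    intro t v
    have e : (!![0, -(t ^ 2); 0, 0] : Matrix (Fin 2) (Fin 2) F) =
        (up t * swapSL F * (up t)⁻¹).1 + (up (-t) * swapSL F * (up (-t))⁻¹).1 + (swapSL F).1 := by
      ext i j
      fin_cases i <;> fin_cases j <;>
        simp [swapSL_val, up_val, Matrix.mul_apply, Fin.sum_univ_two, Matrix.SpecialLinearGroup.coe_inv,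
          Matrix.adjugate_fin_two] <;>
        first
          | ring1
          | linear_combination three_eq (F := F)
          | linear_combination -(three_eq (F := F))
          | linear_combination (t ^ 2 + 2) * three_eq (F := F)
          | linear_combination -(t ^ 2 + 2) * three_eq (F := F)
          | linear_combination (t ^ 2 + 1) * three_eq (F := F)
          | linear_combination -(t ^ 2 + 1) * three_eq (F := F)
    rw [e, Matrix.add_mulVec, Matrix.add_mulVec, map_add, map_add, h _ (conj_pow_four _ swap_pow_four),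
      h _ (conj_pow_four _ swap_pow_four), h _ swap_pow_four, Matrix.add_mulVec, Matrix.add_mulVec]
  have hup : ∀ t, up t ∈ C := fun t => (hC _).2 fun v => by
    have e : (up t).1 = 1 + ((!![0, -((t - 1) ^ 2); 0, 0] : Matrix (Fin 2) (Fin 2) F)
        - !![0, -((t + 1) ^ 2); 0, 0]) := by
      rw [up_val]
      ext i j
      fin_cases i <;> fin_cases j <;> simp <;> linear_combination -(sq_sub_sq t)
    rw [e, Matrix.add_mulVec, Matrix.sub_mulVec, Matrix.one_mulVec, map_add, map_sub, hsq, hsq,
      Matrix.add_mulVec, Matrix.sub_mulVec, Matrix.one_mulVec]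
  have hw : swapSL F ∈ C := (hC _).2 (h _ swap_pow_four)
  have hlo : lo (1 : F) ∈ C := by
    have := mul_mem (mul_mem hw (hup (-1))) (inv_mem hw)
    rwa [swapSL_conj, neg_neg] at this
  have htop : C = ⊤ := CfsgLib.PushUpTwo.eq_top_of_upGroup_le
    (fun x hx => by rw [eq_up_of_mem hx]; exact hup _) hlo CfsgLib.PushUpTwo.lo_not_normalizes
  exact (hC g).1 (htop ▸ Subgroup.mem_top g)

/-- Such a map is a scalar. -/
theorem exists_scalar (φ : (Fin 2 → F) →+ (Fin 2 → F))
    (h : ∀ g : SL(2, F), g ^ 4 = 1 → ∀ v, φ (g.1.mulVec v) = g.1.mulVec (φ v)) :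
    ∃ c : F, ∀ v, φ v = c • v := by
  have hall := commutes_all φ h
  have h1 : ∀ x : F, φ ![x, 0] 1 = 0 := fun x => by
    have e0 : (up (1 : F)).1.mulVec ![x, 0] = ![x, 0] := by
      ext i; fin_cases i <;> simp [up_val, Matrix.mulVec, dotProduct, Fin.sum_univ_two]
    have e := congrFun (hall (up 1) ![x, 0]) 0
    rw [e0] at e
    simpa [up_val, Matrix.mulVec, dotProduct, Fin.sum_univ_two] using e
  have hd : ∀ t : F, t ≠ 0 → ∀ x : F, φ ![t * x, 0] 0 = t * φ ![x, 0] 0 := fun t ht x => by
    obtain ⟨g, hg⟩ : ∃ g : SL(2, F), g.1 = !![t, 0; 0, t⁻¹] :=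
      ⟨⟨_, by simp [Matrix.det_fin_two, ht]⟩, rfl⟩
    have e0 : g.1.mulVec ![x, 0] = ![t * x, 0] := by
      ext i; fin_cases i <;> simp [hg, Matrix.mulVec, dotProduct, Fin.sum_univ_two]
    have e := congrFun (hall g ![x, 0]) 0
    rw [e0] at e
    simpa [hg, Matrix.mulVec, dotProduct, Fin.sum_univ_two] using e
  obtain ⟨c, hc⟩ : ∃ c, c = φ ![1, 0] 0 := ⟨_, rfl⟩
  have hx : ∀ x : F, φ ![x, 0] = ![c * x, 0] := fun x => by
    ext i
    fin_cases i
    · by_cases hx0 : x = 0
      · rw [hx0, show (![0, 0] : Fin 2 → F) = 0 by ext i; fin_cases i <;> rfl, map_zero]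
        simp
      · have := hd x hx0 1
        rw [mul_one] at this
        simp only [Fin.zero_eta, Fin.isValue, Matrix.cons_val_zero]
        rw [this, hc, mul_comm]
    · simpa using h1 x
  refine ⟨c, fun v => ?_⟩
  have hsw : (swapSL F).1.mulVec ![v 1, 0] = ![0, -v 1] := by
    ext i; fin_cases i <;> simp [swapSL_val, Matrix.mulVec, dotProduct, Fin.sum_univ_two]
  have e : v = ![v 0, 0] - (swapSL F).1.mulVec ![v 1, 0] := by
    rw [hsw]; ext i; fin_cases i <;> simp
  rw [e, map_sub, hall, hx, hx, smul_sub, ← Matrix.mulVec_smul]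
  congr 1
  · ext i; fin_cases i <;> simp
  · congr 1
    ext i; fin_cases i <;> simp

/-- An invariant alternating biadditive form has at most `|F|` values. -/
theorem card_values_le [Finite F] {Z : Type*} [AddCommGroup Z] [Finite Z]
    (g : (Fin 2 → F) →+ (Fin 2 → F) →+ Z) (halt : ∀ x, g x x = 0)
    (hinv : ∀ (A : SL(2, F)) x y, g (A.1.mulVec x) (A.1.mulVec y) = g x y) :
    Nat.card ↥(AddSubgroup.closure {z : Z | ∃ x y, g x y = z}) ≤ Nat.card F := by
  classical
  have hanti : ∀ x y, g x y = - g y x := fun x y => by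
    have h := halt (x + y)
    simp only [map_add, AddMonoidHom.add_apply, halt, zero_add, add_zero] at h
    first
      | exact eq_neg_of_add_eq_zero_left h
      | exact eq_neg_of_add_eq_zero_right h
  have hline : ∀ x z : F, g ![x, 0] ![z, 0] = 0 := fun x z => by
    have h := hinv (up z) ![x, 0] ![0, 1]
    have e1 : (up z).1.mulVec ![x, 0] = ![x, 0] := by
      ext i; fin_cases i <;> simp [up_val, Matrix.mulVec, dotProduct, Fin.sum_univ_two]
    have e2 : (up z).1.mulVec ![0, 1] = ![z, 0] + ![0, 1] := by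
      ext i; fin_cases i <;> simp [up_val, Matrix.mulVec, dotProduct, Fin.sum_univ_two]
    rw [e1, e2, map_add, add_eq_right] at h
    exact h
  have hline2 : ∀ y z : F, g ![0, y] ![0, z] = 0 := fun y z => by
    have h := hinv (swapSL F) ![-y, 0] ![-z, 0]
    have e : ∀ a : F, (swapSL F).1.mulVec ![-a, 0] = ![0, a] := fun a => by
      ext i; fin_cases i <;> simp [swapSL_val, Matrix.mulVec, dotProduct, Fin.sum_univ_two]
    rw [e, e, hline] at h
    exact h
  have hmove : ∀ t y y' : F, g ![t * y, 0] ![0, y'] = g ![t * y', 0] ![0, y] := fun t y y' => by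
    have h := hinv (up t) ![0, y] ![0, y']
    have e : ∀ a : F, (up t).1.mulVec ![0, a] = ![t * a, 0] + ![0, a] := fun a => by
      ext i; fin_cases i <;> simp [up_val, Matrix.mulVec, dotProduct, Fin.sum_univ_two]
    rw [e, e] at h
    simp only [map_add, AddMonoidHom.add_apply, hline, hline2, zero_add, add_zero] at h
    rw [hanti ![0, y]] at h
    first
      | exact add_neg_eq_zero.1 h
      | exact (neg_add_eq_zero.1 h).symm
      | exact neg_add_eq_zero.1 h
  obtain ⟨k, hk⟩ : ∃ k : F →+ Z, ∀ x, k x = g ![x, 0] ![0, 1] := by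
    refine ⟨AddMonoidHom.mk' (fun x => g ![x, 0] ![0, 1]) fun a b => ?_, fun _ => rfl⟩
    rw [← AddMonoidHom.add_apply, ← map_add]
    congr 2
    ext i; fin_cases i <;> simp
  have hh : ∀ x y : F, g ![x, 0] ![0, y] = k (x * y) := fun x y => by
    have := hmove x 1 y
    rw [mul_one] at this
    rw [this, hk]
  have hsub : AddSubgroup.closure {z : Z | ∃ x y, g x y = z} ≤ k.range := by
    refine (AddSubgroup.closure_le _).2 ?_
    rintro _ ⟨x, y, rfl⟩
    refine ⟨x 0 * y 1 - y 0 * x 1, ?_⟩
    have ex : ∀ v : Fin 2 → F, v = ![v 0, 0] + ![0, v 1] := fun v => by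
      ext i; fin_cases i <;> simp
    conv_rhs => rw [ex x, ex y]
    simp only [map_add, AddMonoidHom.add_apply, hline, hline2, zero_add, add_zero]
    rw [hanti ![0, x 1], hh, hh, map_sub, sub_eq_add_neg]
    first
      | rfl
      | exact add_comm _ _
  refine (Nat.card_le_card_of_injective _ (AddSubgroup.inclusion_injective hsub)).trans ?_
  exact Nat.card_le_card_of_surjective k.rangeRestrict k.rangeRestrict_surjective

/-- A nontrivial subgroup of the root group invariant under the torus is the root group. -/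
theorem upGroup_le_of_torus {S₁ : Subgroup SL(2, F)} (hle : S₁ ≤ upGroup F) (hne : S₁ ≠ ⊥)
    (hinv : ∀ g : SL(2, F), g.1 1 0 = 0 → ∀ x ∈ S₁, g * x * g⁻¹ ∈ S₁) : upGroup F ≤ S₁ := by
  obtain ⟨x, hx, hx1⟩ := (Subgroup.bot_or_exists_ne_one S₁).resolve_left hne
  obtain ⟨s, hs⟩ : ∃ s, s = x.1 0 1 := ⟨_, rfl⟩
  have hxs : x = up s := hs ▸ eq_up_of_mem (hle hx)
  have hs0 : s ≠ 0 := fun h => hx1 (by rw [hxs, h]; exact up_zero)
  have hsq : ∀ t : F, up (t ^ 2 * s) ∈ S₁ := fun t => by
    by_cases ht : t = 0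
    · rw [ht, zero_pow two_ne_zero, zero_mul, up_zero]; exact one_mem _
    obtain ⟨g, hg⟩ : ∃ g : SL(2, F), g.1 = !![t, 0; 0, t⁻¹] :=
      ⟨⟨_, by simp [Matrix.det_fin_two, ht]⟩, rfl⟩
    have h1 := hinv g (by simp [hg]) x hx
    have e : g * x * g⁻¹ = up (t ^ 2 * s) := by
      refine slExt ?_ ?_ ?_ ?_ <;>
        simp [hg, hxs, up_val, Matrix.mul_apply, Fin.sum_univ_two, Matrix.SpecialLinearGroup.coe_inv,
          Matrix.adjugate_fin_two, ht] <;> ring
    rwa [e] at h1
  intro y hy
  obtain ⟨a, rfl⟩ : ∃ a, y = up a := ⟨_, eq_up_of_mem hy⟩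
  have e : up a = up (((a / s) + 1) ^ 2 * s) * (up (((a / s) - 1) ^ 2 * s))⁻¹ := by
    rw [eq_mul_inv_iff_mul_eq, ← up_add, ← sub_eq_iff_eq_add.1 (?_ : (a / s + 1) ^ 2 * s - ((a / s) - 1) ^ 2 * s = a)]
    rw [← sub_mul, sq_sub_sq, div_mul_cancel₀ _ hs0]
  rw [e]
  exact mul_mem (hsq _) (inv_mem (hsq _))

/-- An upper triangular element normalizes the root group. -/
theorem conj_up_mem {g : SL(2, F)} (hg : g.1 1 0 = 0) {a : F} : g * up a * g⁻¹ ∈ upGroup F := by
  have hd := slDet g
  rw [hg, mul_zero, sub_zero] at hd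
  have e : g * up a * g⁻¹ = up (g.1 0 0 ^ 2 * a) := by
    refine slExt ?_ ?_ ?_ ?_ <;>
      simp [up_val, hg, Matrix.mul_apply, Fin.sum_univ_two, Matrix.SpecialLinearGroup.coe_inv,
        Matrix.adjugate_fin_two]
    · linear_combination hd
    · ring
    · linear_combination hd
  rw [e]
  exact up_mem _

theorem conj_up_mem' {g : SL(2, F)} (hg : g.1 1 0 = 0) {a : F} : g⁻¹ * up a * g ∈ upGroup F := by
  have h := conj_up_mem (g := g⁻¹) (a := a) (by
    simp [Matrix.SpecialLinearGroup.coe_inv, Matrix.adjugate_fin_two, hg])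
  rwa [inv_inv] at h

end CfsgLib.PushAmalgam.SLThree
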