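import Cfsg.Agent.Lib.PushAmalgam.Member
import Cfsg.Prelude.Def_BaumannBlocks

/-!
# Pushing up in rank one: series with natural factors

A natural step is a pair of normal subgroups inside `O_p(G)` whose quotient is the natural module for
`G / O_p(G) ≅ SL₂(F)`. In a series whose other steps are central every noncentral chief factor inside
`O_p(G)` is natural.
-/

set_option autoImplicit false
set_option linter.style.haveILetI false
set_option linter.unusedSectionVars false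

open Subgroup
open scoped MatrixGroups commutatorElement

namespace CfsgLib.PushAmalgam

universe u

variable {F : Type} [Field F] [Fintype F] {p : ℕ} {G : Type u} [Group G]

/-- `Y / Y'` is the natural module for `G / O_p(G) ≅ SL₂(F)`. -/
structure NatStep (F : Type) [Field F] [Fintype F] (p : ℕ) (Y Y' : Subgroup G) : Prop where
  le : Y' ≤ Y
  below : Y ≤ Cfsg.pCore p G
  normal : Y.Normal
  normal' : Y'.Normal
  nat : ∃ (ρ : G →* SL(2, F)) (ψ : ↥Y →* Multiplicative (Fin 2 → F)),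
    Function.Surjective ρ ∧ ρ.ker = Cfsg.pCore p G ∧ Function.Surjective ψ ∧
    (∀ v : ↥Y, ψ v = 1 ↔ (v : G) ∈ Y') ∧
    ∀ (g : G) (v w : ↥Y), (w : G) = g * v * g⁻¹ →
      Multiplicative.toAdd (ψ w) =
        ((ρ g : SL(2, F)) : Matrix (Fin 2) (Fin 2) F).mulVec (Multiplicative.toAdd (ψ v))

theorem sl_eq_one_of_fix {A : SL(2, F)}
    (h : ∀ x : Fin 2 → F, (A : Matrix (Fin 2) (Fin 2) F).mulVec x = x) : A = 1 := by
  refine Subtype.ext ?_
  rw [Matrix.SpecialLinearGroup.coe_one]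
  ext i j
  have := congrFun (h (Pi.single j 1)) i
  simpa [Matrix.mulVec_single, Matrix.one_apply, Pi.single_apply] using this

/-- An invariant subgroup of the natural module is trivial or everything. -/
theorem addSubgroup_natural (N : AddSubgroup (Fin 2 → F))
    (hN : ∀ A : SL(2, F), ∀ x ∈ N, (A : Matrix (Fin 2) (Fin 2) F).mulVec x ∈ N) : N = ⊥ ∨ N = ⊤ := by
  classical
  refine or_iff_not_imp_left.2 fun hne => ?_
  obtain ⟨x, hx, hx0⟩ := (AddSubgroup.bot_or_exists_ne_zero N).resolve_left hne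
  have hup : ∀ t : F, ∀ y ∈ N, (![t * y 1, 0] : Fin 2 → F) ∈ N := by
    intro t y hy
    obtain ⟨A, hA⟩ : ∃ A : SL(2, F), (A : Matrix (Fin 2) (Fin 2) F) = !![1, t; 0, 1] :=
      ⟨⟨_, by simp [Matrix.det_fin_two]⟩, rfl⟩
    have h := N.sub_mem (hN A y hy) hy
    convert h using 1
    rw [hA]
    ext i
    fin_cases i <;> simp [Matrix.mulVec, dotProduct, Fin.sum_univ_two]
  have hlo : ∀ t : F, ∀ y ∈ N, (![0, t * y 0] : Fin 2 → F) ∈ N := by
    intro t y hy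
    obtain ⟨A, hA⟩ : ∃ A : SL(2, F), (A : Matrix (Fin 2) (Fin 2) F) = !![1, 0; t, 1] :=
      ⟨⟨_, by simp [Matrix.det_fin_two]⟩, rfl⟩
    have h := N.sub_mem (hN A y hy) hy
    convert h using 1
    rw [hA]
    ext i
    fin_cases i <;> simp [Matrix.mulVec, dotProduct, Fin.sum_univ_two]
  obtain ⟨y, hy, hy1⟩ : ∃ y ∈ N, y 1 ≠ 0 := by
    by_cases h1 : x 1 = 0
    · have h0 : x 0 ≠ 0 := fun h0 => hx0 (funext fun i => by fin_cases i <;> assumption)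
      exact ⟨_, hlo 1 x hx, by simpa using h0⟩
    · exact ⟨x, hx, h1⟩
  refine (AddSubgroup.eq_top_iff' _).2 fun z => ?_
  have e0 : (![z 0, 0] : Fin 2 → F) ∈ N := by
    have := hup (z 0 / y 1) y hy
    rwa [div_mul_cancel₀ _ hy1] at this
  have e1 : (![0, z 1] : Fin 2 → F) ∈ N := by
    have h1 : (![1, 0] : Fin 2 → F) ∈ N := by
      have := hup (1 / y 1) y hy
      rwa [div_mul_cancel₀ _ hy1] at this
    simpa using hlo (z 1) _ h1
  convert N.add_mem e0 e1 using 1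
  ext i
  fin_cases i <;> simp

namespace NatStep

variable {Y Y' : Subgroup G}

/-- Nothing normal lies strictly between. -/
theorem between (h : NatStep F p Y Y') {N : Subgroup G} (hN : N.Normal) (h1 : Y' ≤ N) (h2 : N ≤ Y) :
    N = Y' ∨ N = Y := by
  obtain ⟨ρ, ψ, hρ, -, hψ, hψ1, heq⟩ := h.nat
  obtain ⟨A, hA⟩ : ∃ A : AddSubgroup (Fin 2 → F), ∀ x, x ∈ A ↔
      ∃ v : ↥Y, (v : G) ∈ N ∧ Multiplicative.toAdd (ψ v) = x := by
    refine ⟨Subgroup.toAddSubgroup' ((N.subgroupOf Y).map ψ), fun x => ?_⟩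
    constructor
    · rintro ⟨v, hv, e⟩
      exact ⟨v, hv, congrArg Multiplicative.toAdd e⟩
    · rintro ⟨v, hv, rfl⟩
      exact ⟨v, hv, rfl⟩
  have hinv : ∀ B : SL(2, F), ∀ x ∈ A, (B : Matrix (Fin 2) (Fin 2) F).mulVec x ∈ A := by
    intro B x hx
    obtain ⟨g, rfl⟩ := hρ B
    obtain ⟨v, hv, rfl⟩ := (hA x).1 hx
    exact (hA _).2 ⟨⟨g * v * g⁻¹, h.normal.conj_mem _ v.2 g⟩, hN.conj_mem _ hv g, heq g v _ rfl⟩
  rcases addSubgroup_natural A hinv with e | e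
  · refine Or.inl (le_antisymm (fun x hx => ?_) h1)
    have : Multiplicative.toAdd (ψ ⟨x, h2 hx⟩) ∈ A := (hA _).2 ⟨_, hx, rfl⟩
    rw [e, AddSubgroup.mem_bot] at this
    exact (hψ1 ⟨x, h2 hx⟩).1 (toAdd_eq_zero.1 this)
  · refine Or.inr (le_antisymm h2 fun x hx => ?_)
    obtain ⟨v, hv, hvx⟩ := (hA (Multiplicative.toAdd (ψ ⟨x, hx⟩))).1 (e ▸ AddSubgroup.mem_top _)
    have : ψ (v⁻¹ * ⟨x, hx⟩) = 1 := by
      rw [map_mul, map_inv, Multiplicative.toAdd.injective hvx, inv_mul_cancel]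
    have h3 := N.mul_mem hv (h1 ((hψ1 _).1 this))
    simpa using h3

theorem ne (h : NatStep F p Y Y') : Y' ≠ Y := by
  obtain ⟨ρ, ψ, -, -, hψ, hψ1, -⟩ := h.nat
  intro e
  obtain ⟨v, hv⟩ := hψ (Multiplicative.ofAdd ![1, 0])
  have h1 : ψ v = 1 := (hψ1 v).2 (e ▸ v.2)
  rw [hv, ofAdd_eq_one] at h1
  simpa using congrFun h1 0

theorem chief (h : NatStep F p Y Y') : Cfsg.IsChiefFactor Y Y' :=
  ⟨lt_of_le_of_ne h.le h.ne, h.normal, h.normal', fun _ hN h1 h2 => h.between hN h1 h2⟩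

theorem noncentral (h : NatStep F p Y Y') : ¬ ⁅Y, (⊤ : Subgroup G)⁆ ≤ Y' := by
  obtain ⟨ρ, ψ, hρ, -, hψ, hψ1, heq⟩ := h.nat
  intro hc
  obtain ⟨A, hA⟩ : ∃ A : SL(2, F), (A : Matrix (Fin 2) (Fin 2) F) = !![1, 1; 0, 1] :=
    ⟨⟨_, by simp [Matrix.det_fin_two]⟩, rfl⟩
  obtain ⟨g, rfl⟩ := hρ A
  obtain ⟨v, hv⟩ := hψ (Multiplicative.ofAdd ![0, 1])
  obtain ⟨w, hw⟩ : ∃ w : ↥Y, (w : G) = g * v * g⁻¹ := ⟨⟨_, h.normal.conj_mem _ v.2 g⟩, rfl⟩
  have h1 : ψ (v * w⁻¹) = 1 := by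
    rw [hψ1]
    have := hc (commutator_mem_commutator v.2 (mem_top g))
    convert this using 1
    rw [commutatorElement_def, Subgroup.coe_mul, Subgroup.coe_inv, hw]
    group
  rw [map_mul, map_inv, mul_inv_eq_one] at h1
  have h2 := heq g v w hw
  rw [← h1, hv, hA] at h2
  simpa [Matrix.mulVec, dotProduct, Fin.sum_univ_two] using congrFun h2 0

variable [Finite G] [Fact p.Prime]

/-- Transport along an isomorphism. -/
theorem map {G' : Type u} [Group G'] [Finite G'] (h : NatStep F p Y Y') (e : G ≃* G') :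
    NatStep F p (Y.map e.toMonoidHom) (Y'.map e.toMonoidHom) := by
  obtain ⟨ρ, ψ, hρ, hker, hψ, hψ1, heq⟩ := h.nat
  obtain ⟨f, hf⟩ : ∃ f : ↥(Y.map e.toMonoidHom) ≃* ↥Y, ∀ x, (f x : G) = e.symm x := by
    refine ⟨(Y.equivMapOfInjective e.toMonoidHom e.injective).symm, fun x => e.injective ?_⟩
    rw [e.apply_symm_apply]
    exact congrArg Subtype.val ((Y.equivMapOfInjective e.toMonoidHom e.injective).apply_symm_apply x)
  refine ⟨map_mono h.le, (map_mono h.below).trans (pCore_map_equiv e).le, h.normal.map _ e.surjective,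
    h.normal'.map _ e.surjective, ρ.comp e.symm.toMonoidHom, ψ.comp f.toMonoidHom,
    hρ.comp e.symm.surjective, ?_, hψ.comp f.surjective, fun v => ?_, fun g v w hw => ?_⟩
  · rw [← MonoidHom.comap_ker, hker, ← pCore_map_equiv e]
    exact (map_equiv_eq_comap_symm _ _).symm
  · show ψ (f v) = 1 ↔ _
    rw [hψ1, hf]
    constructor
    · exact fun hv => ⟨_, hv, e.apply_symm_apply _⟩
    · rintro ⟨x, hx, hxv⟩
      rw [← hxv]
      simpa using hx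
  · refine heq (e.symm g) (f v) (f w) ?_
    rw [hf, hf, hw, map_mul, map_mul, map_inv]

end NatStep

/-- Noncentral chief factors cannot start in a central step. -/
theorem inf_le_step {U W Y Y' : Subgroup G} (hUW : Cfsg.IsChiefFactor U W)
    (hnc : ¬ ⁅U, (⊤ : Subgroup G)⁆ ≤ W) (hY : Y.Normal) (hstep : ⁅Y, (⊤ : Subgroup G)⁆ ≤ Y')
    (h : U ⊓ Y' ≤ W) : U ⊓ Y ≤ W := by
  obtain ⟨hlt, hU, hW, hmax⟩ := hUW
  haveI := hU
  haveI := hW
  haveI := hY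
  by_contra hn
  refine hnc ?_
  have e : U ⊓ Y ⊔ W = U :=
    (hmax _ inferInstance le_sup_right (sup_le inf_le_left hlt.le)).resolve_left
      fun e => hn (le_sup_left.trans e.le)
  rw [commutator_le]
  intro x hx g _
  rw [← e, ← SetLike.mem_coe, Subgroup.normal_mul] at hx
  obtain ⟨a, ha, w, hw, rfl⟩ := hx
  have h1 : ⁅a, g⁆ ∈ W := h (mem_inf.2 ⟨Subgroup.commutator_le_left U ⊤
    (commutator_mem_commutator ha.1 (mem_top g)), hstep (commutator_mem_commutator ha.2 (mem_top g))⟩)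
  have h2 : ⁅w, g⁆ ∈ W := Subgroup.commutator_le_left W ⊤ (commutator_mem_commutator hw (mem_top g))
  rw [show ⁅a * w, g⁆ = a * ⁅w, g⁆ * a⁻¹ * ⁅a, g⁆ by simp only [commutatorElement_def]; group]
  exact mul_mem (hW.conj_mem _ h2 a) h1

/-- A noncentral chief factor starting in a natural step is natural. -/
theorem NatStep.natural {U W Y Y' : Subgroup G} (h : NatStep F p Y Y') [W.Normal]
    (hUQ : U ≤ Cfsg.pCore p G) (hUW : Cfsg.IsChiefFactor U W) (h1 : U ⊓ Y' ≤ W)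
    (h2 : ¬ U ⊓ Y ≤ W) :
    Cfsg.IsNaturalSL2Module F (U.map (QuotientGroup.mk' W)) (⊤ : Subgroup (G ⧸ W)) := by
  classical
  obtain ⟨hlt, hU, hW, hmax⟩ := hUW
  haveI := hU
  haveI := h.normal
  haveI := h.normal'
  obtain ⟨ρ, ψ, hρ, hker, hψ, hψ1, heq⟩ := h.nat
  have hUY : U ⊓ Y ⊔ W = U :=
    (hmax _ inferInstance le_sup_right (sup_le inf_le_left hlt.le)).resolve_left
      fun e => h2 (le_sup_left.trans e.le)
  have hYsup : U ⊓ Y ⊔ Y' = Y :=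
    (h.between inferInstance le_sup_right (sup_le inf_le_right h.le)).resolve_left
      fun e => h2 ((le_inf inf_le_left (le_sup_left.trans e.le)).trans h1)
  have hWY : W ⊓ Y ≤ Y' := by
    rcases h.between (N := W ⊓ Y ⊔ Y') inferInstance le_sup_right (sup_le inf_le_right h.le) with e | e
    · exact le_sup_left.trans e.le
    · exfalso
      refine h2 fun x hx => ?_
      have hx2 : x ∈ W ⊓ Y ⊔ Y' := e.ge hx.2
      rw [← SetLike.mem_coe, Subgroup.normal_mul] at hx2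
      obtain ⟨a, ha, b, hb, rfl⟩ := hx2
      refine mul_mem ha.1 (h1 (mem_inf.2 ⟨?_, hb⟩))
      have := mul_mem (inv_mem (hlt.le ha.1)) hx.1
      simpa using this
  obtain ⟨P, hP⟩ : ∃ P, P = U.map (QuotientGroup.mk' W) := ⟨_, rfl⟩
  rw [← hP]
  haveI hPn : P.Normal := hP ▸ hU.map _ (QuotientGroup.mk'_surjective W)
  obtain ⟨μ, hμ⟩ : ∃ μ : ↥(U ⊓ Y) →* ↥P, ∀ x, (μ x : G ⧸ W) = QuotientGroup.mk' W x := by
    refine ⟨((QuotientGroup.mk' W).comp (U ⊓ Y).subtype).codRestrict P fun x => ?_, fun _ => rfl⟩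
    exact hP ▸ mem_map_of_mem _ (mem_inf.1 x.2).1
  obtain ⟨ψ', hψ'⟩ : ∃ ψ' : ↥(U ⊓ Y) →* Multiplicative (Fin 2 → F),
      ∀ x, ψ' x = ψ (inclusion inf_le_right x) := ⟨ψ.comp (inclusion inf_le_right), fun _ => rfl⟩
  have hμs : Function.Surjective μ := by
    rintro ⟨y, hy⟩
    rw [hP] at hy
    obtain ⟨x, hx, rfl⟩ := hy
    rw [← hUY, SetLike.mem_coe, ← SetLike.mem_coe, Subgroup.normal_mul] at hx
    obtain ⟨a, ha, w, hw, rfl⟩ := hx
    refine ⟨⟨a, ha⟩, Subtype.ext ?_⟩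
    rw [hμ]
    show QuotientGroup.mk' W a = QuotientGroup.mk' W (a * w)
    rw [map_mul, show QuotientGroup.mk' W w = 1 from (QuotientGroup.eq_one_iff w).2 hw, mul_one]
  have hψs : Function.Surjective ψ' := by
    intro z
    obtain ⟨v, rfl⟩ := hψ z
    have hv : (v : G) ∈ U ⊓ Y ⊔ Y' := hYsup.ge v.2
    rw [← SetLike.mem_coe, Subgroup.normal_mul] at hv
    obtain ⟨a, ha, b, hb, e⟩ := hv
    refine ⟨⟨a, ha⟩, ?_⟩
    rw [hψ']
    have e2 : v = inclusion inf_le_right (⟨a, ha⟩ : ↥(U ⊓ Y)) * ⟨b, h.le hb⟩ := Subtype.ext e.symm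
    rw [e2, map_mul, (hψ1 ⟨b, h.le hb⟩).2 hb, mul_one]
  have hiff : ∀ x, μ x = 1 ↔ ψ' x = 1 := by
    intro x
    rw [hψ', hψ1, ← SetLike.coe_eq_coe, hμ, OneMemClass.coe_one, QuotientGroup.mk'_apply,
      QuotientGroup.eq_one_iff, coe_inclusion]
    exact ⟨fun hx => hWY (mem_inf.2 ⟨hx, x.2.2⟩), fun hx => h1 (mem_inf.2 ⟨x.2.1, hx⟩)⟩
  have hinj : ∀ a b, μ a = μ b ↔ ψ' a = ψ' b := fun a b => by
    rw [← mul_inv_eq_one (a := μ a), ← map_inv, ← map_mul, hiff, map_mul, map_inv, mul_inv_eq_one]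
  choose sec hsec using hμs
  obtain ⟨φ, hφ⟩ : ∃ φ : ↥P ≃* Multiplicative (Fin 2 → F), ∀ x, φ (μ x) = ψ' x := by
    refine ⟨MulEquiv.ofBijective (MonoidHom.mk' (fun y => ψ' (sec y)) fun a b => ?_) ⟨?_, ?_⟩,
      fun x => (hinj _ _).1 (hsec _)⟩
    · rw [← map_mul, ← hinj, hsec, map_mul, hsec, hsec]
    · intro a b hab
      have := (hinj _ _).2 hab
      rwa [hsec, hsec] at this
    · intro z
      obtain ⟨x, rfl⟩ := hψs z
      exact ⟨μ x, (hinj _ _).1 (hsec _)⟩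
  obtain ⟨ρ', hρ'⟩ : ∃ ρ' : (⊤ : Subgroup (G ⧸ W)) →* SL(2, F),
      ∀ (g : G) (hg : QuotientGroup.mk' W g ∈ (⊤ : Subgroup (G ⧸ W))), ρ' ⟨_, hg⟩ = ρ g :=
    ⟨(QuotientGroup.lift W ρ (hker ▸ hlt.le.trans hUQ)).comp (⊤ : Subgroup (G ⧸ W)).subtype,
      fun _ _ => rfl⟩
  have hact : ∀ (g : G) (hg) (v w : ↥P), (w : G ⧸ W) = QuotientGroup.mk' W g * v * (QuotientGroup.mk' W g)⁻¹ →
      Multiplicative.toAdd (φ w) = ((ρ' ⟨QuotientGroup.mk' W g, hg⟩ : SL(2, F)) :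
        Matrix (Fin 2) (Fin 2) F).mulVec (Multiplicative.toAdd (φ v)) := by
    intro g hg v w hw
    obtain ⟨a, rfl⟩ := (⟨sec v, hsec v⟩ : ∃ a, μ a = v)
    obtain ⟨b, hb⟩ : ∃ b : ↥(U ⊓ Y), (b : G) = g * a * g⁻¹ :=
      ⟨⟨_, (inferInstance : (U ⊓ Y).Normal).conj_mem _ a.2 g⟩, rfl⟩
    have hwb : w = μ b := Subtype.ext (by rw [hw, hμ, hμ, hb, map_mul, map_mul, map_inv])
    rw [hρ', hwb, hφ, hφ, hψ', hψ']
    exact heq g _ _ (by rw [coe_inclusion, coe_inclusion, hb])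
  refine ⟨by rw [normalizer_eq_top_iff.2 hPn], ρ',
    AddEquiv.trans (MulEquiv.toAdditive φ) (AddEquiv.additiveMultiplicative _), ?_, ?_, ?_⟩
  · intro A
    obtain ⟨g, rfl⟩ := hρ A
    exact ⟨⟨QuotientGroup.mk' W g, mem_top _⟩, hρ' g _⟩
  · ext ⟨y, hy⟩
    obtain ⟨g, rfl⟩ := QuotientGroup.mk'_surjective W y
    rw [MonoidHom.mem_ker, mem_subgroupOf, mem_centralizer_iff]
    constructor
    · intro hg v hv
      obtain ⟨w, hw⟩ : ∃ w : ↥P, (w : G ⧸ W) = QuotientGroup.mk' W g * v * (QuotientGroup.mk' W g)⁻¹ :=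
        ⟨⟨_, hPn.conj_mem _ hv _⟩, rfl⟩
      have := hact g hy ⟨v, hv⟩ w hw
      rw [hg, Matrix.SpecialLinearGroup.coe_one, Matrix.one_mulVec] at this
      have e := φ.injective (Multiplicative.toAdd.injective this)
      rw [e] at hw
      exact (mul_inv_eq_iff_eq_mul.1 hw.symm).symm
    · intro hc
      refine sl_eq_one_of_fix fun x => ?_
      obtain ⟨v, hv⟩ := φ.surjective (Multiplicative.ofAdd x)
      have := hact g hy v v (by rw [← hc v v.2, mul_inv_cancel_right])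
      rw [hv] at this
      exact this.symm
  · rintro ⟨y, hy⟩ v
    obtain ⟨g, rfl⟩ := QuotientGroup.mk'_surjective W y
    exact ⟨⟨_, hPn.conj_mem _ v.2 _⟩, rfl, hact g hy v _ rfl⟩

/-- One natural step. -/
def ShapeOne (F : Type) [Field F] [Fintype F] (p : ℕ) (G : Type u) [Group G] : Prop :=
  ∃ Y Y' : Subgroup G, NatStep F p Y Y' ∧ ⁅Y', (⊤ : Subgroup G)⁆ = ⊥ ∧
    ⁅Cfsg.pCore p G, (⊤ : Subgroup G)⁆ ≤ Y

/-- Two natural steps. -/
def ShapeTwo (F : Type) [Field F] [Fintype F] (p : ℕ) (G : Type u) [Group G] : Prop :=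
  ∃ Y Y' A B Z Z' : Subgroup G, NatStep F p Y Y' ∧ NatStep F p Z Z' ∧ A.Normal ∧ B.Normal ∧
    Y ≤ A ∧ A ≤ B ∧ B ≤ Z' ∧ ⁅Y', (⊤ : Subgroup G)⁆ = ⊥ ∧ ⁅A, (⊤ : Subgroup G)⁆ ≤ Y ∧
    ⁅B, (⊤ : Subgroup G)⁆ ≤ A ∧ ⁅Z', (⊤ : Subgroup G)⁆ ≤ B ∧
    ⁅Cfsg.pCore p G, (⊤ : Subgroup G)⁆ ≤ Z

theorem pCore_normal' (p : ℕ) (G : Type u) [Group G] : (Cfsg.pCore p G).Normal :=
  CfsgLib.PushUp.pCore_normal p G

theorem quotient_equiv_of_step {Y Y' : Subgroup G} (h : NatStep F p Y Y') :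
    Nonempty (G ⧸ Cfsg.pCore p G ≃* SL(2, F)) := by
  obtain ⟨ρ, -, hρ, hker, -, -, -⟩ := h.nat
  haveI := pCore_normal' p G
  exact ⟨(QuotientGroup.quotientMulEquivOfEq hker.symm).trans
    (QuotientGroup.quotientKerEquivOfSurjective ρ hρ)⟩

/-- The noncentral chief factors of either shape. -/
theorem natural_factors (h : ShapeOne F p G ∨ ShapeTwo F p G) :
    Nonempty (G ⧸ Cfsg.pCore p G ≃* SL(2, F)) ∧ ∀ (U W : Subgroup G) [W.Normal],
      U ≤ Cfsg.pCore p G → Cfsg.IsChiefFactor U W → ¬ ⁅U, (⊤ : Subgroup G)⁆ ≤ W →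
      Cfsg.IsNaturalSL2Module F (U.map (QuotientGroup.mk' W)) (⊤ : Subgroup (G ⧸ W)) := by
  have hQ := pCore_normal' p G
  rcases h with ⟨Y, Y', hY, h0, h1⟩ | ⟨Y, Y', A, B, Z, Z', hY, hZ, hA, hB, -, -, -, h0, h1, h2, h3, h4⟩
  · refine ⟨quotient_equiv_of_step hY, fun U W _ hUQ hUW hnc => ?_⟩
    have a0 : U ⊓ Y' ≤ W := inf_le_step hUW hnc hY.normal' h0.le (inf_le_right.trans bot_le)
    refine hY.natural hUQ hUW a0 fun a1 => ?_
    exact hUW.1.not_ge ((le_inf le_rfl hUQ).trans (inf_le_step hUW hnc hQ h1 a1))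
  · refine ⟨quotient_equiv_of_step hY, fun U W _ hUQ hUW hnc => ?_⟩
    have a0 : U ⊓ Y' ≤ W := inf_le_step hUW hnc hY.normal' h0.le (inf_le_right.trans bot_le)
    by_cases a1 : U ⊓ Y ≤ W
    swap
    · exact hY.natural hUQ hUW a0 a1
    have a2 : U ⊓ Z' ≤ W :=
      inf_le_step hUW hnc hZ.normal' h3 (inf_le_step hUW hnc hB h2 (inf_le_step hUW hnc hA h1 a1))
    refine hZ.natural hUQ hUW a2 fun a3 => ?_
    exact hUW.1.not_ge ((le_inf le_rfl hUQ).trans (inf_le_step hUW hnc hQ h4 a3))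

theorem iterCommutator_one (N : Subgroup G) :
    Cfsg.iterCommutator N (⊤ : Subgroup G) 1 = ⁅N, (⊤ : Subgroup G)⁆ := rfl

theorem ShapeOne.factors (h : ShapeOne F p G) :
    ∃ U W : Subgroup G, W ≤ U ∧ U ≤ Cfsg.pCore p G ∧ Cfsg.IsChiefFactor U W ∧
      ¬ ⁅U, (⊤ : Subgroup G)⁆ ≤ W ∧ (∃ k : ℕ, Cfsg.iterCommutator W ⊤ k = ⊥) ∧
      ∃ k : ℕ, Cfsg.iterCommutator (Cfsg.pCore p G) ⊤ k ≤ U := by
  obtain ⟨Y, Y', hY, h0, h1⟩ := h
  exact ⟨Y, Y', hY.le, hY.below, hY.chief, hY.noncentral, ⟨1, h0⟩, ⟨1, h1⟩⟩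

theorem ShapeTwo.factors (h : ShapeTwo F p G) :
    ∃ U₁ W₁ U₂ W₂ : Subgroup G, W₁ ≤ U₁ ∧ U₁ ≤ W₂ ∧ W₂ ≤ U₂ ∧ U₂ ≤ Cfsg.pCore p G ∧
      Cfsg.IsChiefFactor U₁ W₁ ∧ Cfsg.IsChiefFactor U₂ W₂ ∧ ¬ ⁅U₁, (⊤ : Subgroup G)⁆ ≤ W₁ ∧
      ¬ ⁅U₂, (⊤ : Subgroup G)⁆ ≤ W₂ ∧ (∃ k : ℕ, Cfsg.iterCommutator W₁ ⊤ k = ⊥) ∧
      (∃ k : ℕ, Cfsg.iterCommutator W₂ ⊤ k ≤ U₁) ∧
      ∃ k : ℕ, Cfsg.iterCommutator (Cfsg.pCore p G) ⊤ k ≤ U₂ := by
  obtain ⟨Y, Y', A, B, Z, Z', hY, hZ, -, -, hYA, hAB, hBZ, h0, h1, h2, h3, h4⟩ := h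
  refine ⟨Y, Y', Z, Z', hY.le, hYA.trans (hAB.trans hBZ), hZ.le, hZ.below, hY.chief, hZ.chief,
    hY.noncentral, hZ.noncentral, ⟨1, h0⟩, ⟨3, ?_⟩, ⟨1, h4⟩⟩
  show ⁅⁅⁅Z', (⊤ : Subgroup G)⁆, (⊤ : Subgroup G)⁆, (⊤ : Subgroup G)⁆ ≤ Y
  exact ((commutator_mono ((commutator_mono h3 le_rfl).trans h2) le_rfl).trans h1)

variable [Finite G] [Fact p.Prime]

theorem ShapeOne.map {G' : Type u} [Group G'] [Finite G'] (h : ShapeOne F p G) (e : G ≃* G') :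
    ShapeOne F p G' := by
  obtain ⟨Y, Y', hY, h0, h1⟩ := h
  have ht : (⊤ : Subgroup G).map e.toMonoidHom = ⊤ := map_top_of_surjective _ e.surjective
  refine ⟨_, _, hY.map e, ?_, ?_⟩
  · rw [← ht, ← map_commutator, h0, Subgroup.map_bot]
  · rw [← ht, ← pCore_map_equiv e, ← map_commutator]
    exact map_mono h1

theorem ShapeTwo.map {G' : Type u} [Group G'] [Finite G'] (h : ShapeTwo F p G) (e : G ≃* G') :
    ShapeTwo F p G' := by
  obtain ⟨Y, Y', A, B, Z, Z', hY, hZ, hA, hB, hYA, hAB, hBZ, h0, h1, h2, h3, h4⟩ := h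
  have ht : (⊤ : Subgroup G).map e.toMonoidHom = ⊤ := map_top_of_surjective _ e.surjective
  refine ⟨_, _, A.map e.toMonoidHom, B.map e.toMonoidHom, _, _, hY.map e, hZ.map e,
    hA.map _ e.surjective, hB.map _ e.surjective, map_mono hYA, map_mono hAB, map_mono hBZ,
    ?_, ?_, ?_, ?_, ?_⟩
  · rw [← ht, ← map_commutator, h0, Subgroup.map_bot]
  all_goals rw [← ht]
  · rw [← map_commutator]; exact map_mono h1
  · rw [← map_commutator]; exact map_mono h2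
  · rw [← map_commutator]; exact map_mono h3
  · rw [← pCore_map_equiv e, ← map_commutator]; exact map_mono h4

end CfsgLib.PushAmalgam
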