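import Cfsg.Agent.Lib.PushAmalgam.Window

/-!
# Pushing up in rank one: the case `b = 2`, common facts and the primes `2` and `3`
-/

set_option autoImplicit false
set_option linter.style.haveILetI false
set_option linter.unusedSectionVars false

open Subgroup
open scoped commutatorElement Pointwise
open CfsgLib.PushUp (MA cj mem_cj conj_mem_cj cj_mono card_cj ctr Fr)

namespace CfsgLib.PushAmalgam

universe u

variable {Γ : Type u} [Group Γ] {p : ℕ} [Fact p.Prime]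

/-- Four members `A - B - C - D` with both pairs at distance two critical. -/
structure Quad (p : ℕ) (A B C D e₀ e₁ e₂ : Subgroup Γ) : Prop where
  mA : Mem p e₀ A
  mB₀ : Mem p e₀ B
  mB : Mem p e₁ B
  mC : Mem p e₁ C
  mC₂ : Mem p e₂ C
  mD : Mem p e₂ D
  cAB : Com p A B
  cBC : Com p B C
  cCD : Com p C D
  nAC : ¬ Com p A C
  nBD : ¬ Com p B D
  joinB : e₀ ⊔ e₁ = B
  joinC : e₁ ⊔ e₂ = C
  nfBA : ¬ B ≤ normalizer ((Vo p B ⊔ Vo p A : Subgroup Γ) : Set Γ)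
  nfBC : ¬ B ≤ normalizer ((Vo p B ⊔ Vo p C : Subgroup Γ) : Set Γ)
  nfCB : ¬ C ≤ normalizer ((Vo p C ⊔ Vo p B : Subgroup Γ) : Set Γ)
  nfCD : ¬ C ≤ normalizer ((Vo p C ⊔ Vo p D : Subgroup Γ) : Set Γ)
  inner : ∀ n ∈ Vo p A, ∀ y ∈ Vo p D, ⁅n, y⁆ ∈ Vo p B ⊔ Vo p C

namespace Quad

variable {A B C D e₀ e₁ e₂ : Subgroup Γ} (d : Quad p A B C D e₀ e₁ e₂)

include d

theorem flip : Quad p D C B A e₂ e₁ e₀ where
  mA := d.mD
  mB₀ := d.mC₂
  mB := d.mC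
  mC := d.mB
  mC₂ := d.mB₀
  mD := d.mA
  cAB := d.cCD.symm
  cBC := d.cBC.symm
  cCD := d.cAB.symm
  nAC := fun h => d.nBD h.symm
  nBD := fun h => d.nAC h.symm
  joinB := (sup_comm _ _).trans d.joinC
  joinC := (sup_comm _ _).trans d.joinB
  nfBA := d.nfCD
  nfBC := d.nfCB
  nfCB := d.nfBC
  nfCD := d.nfBA
  inner := fun n hn y hy => by
    rw [sup_comm, ← commutatorElement_inv]
    exact inv_mem (d.inner y hy n hn)

theorem VA_le : Vo p A ≤ Qo p B :=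
  d.mB₀.le_Q_of_comm d.mA fun v hv w hw => (d.cAB w hw v hv).symm

theorem VB_le_A : Vo p B ≤ Qo p A := d.mA.le_Q_of_comm d.mB₀ d.cAB

theorem VC_le : Vo p C ≤ Qo p B := d.mB.le_Q_of_comm d.mC d.cBC

theorem VB_le : Vo p B ≤ Qo p C := d.mC.le_Q_of_comm d.mB fun v hv w hw => (d.cBC w hw v hv).symm

theorem VA_le_e₁ : Vo p A ≤ e₁ := d.VA_le.trans d.mB.good.Q_le

theorem VA_notQ : ¬ Vo p A ≤ Qo p C := fun hle => d.nAC fun v hv w hw =>
  commute_of_cent (d.mC.V_cent_Q hw) (hle hv)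

theorem VD_le : Vo p D ≤ e₁ := d.flip.VA_le_e₁

theorem VD_notQ : ¬ Vo p D ≤ Qo p B := d.flip.VA_notQ

theorem ctr₁_le : ctr e₁ ≤ Qo p B ⊓ Qo p C := le_inf d.mB.ctr_le_Q d.mC.ctr_le_Q

theorem ne_AB : Vo p A ≠ Vo p B := fun e => d.nAC (d.cBC.of_eq e)

/-- An element of `V_A` commuting with `V_C` is central in `e₀`. -/
theorem mem_ctr₀ {n : Γ} (hn : n ∈ Vo p A) (hc : ∀ w ∈ Vo p C, Commute n w) : n ∈ ctr e₀ := by
  by_contra hz
  refine d.nAC fun v hv w hw => ?_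
  have hwT : w ∈ e₀ := d.mB₀.good.Q_le (d.VC_le hw)
  exact (commute_of_cent (d.mA.V_cent_Q hv) (d.mA.cent_elem hn hz hwT (hc w hw).symm)).symm

theorem e₁_eq {t : Γ} (ht : t ∈ e₁) : ∃ n ∈ Vo p A, ∃ q ∈ Qo p C, t = n * q := by
  have h0 : Lg e₀ (Vo p A ⊔ Vo p B) := (d.mA.base.lg_sup d.mA.lgV d.mB₀.lgV).1
  have hle : Vo p A ⊔ Vo p B ≤ Qo p B := sup_le d.VA_le d.mB.V_le_Q
  have hC : e₀ ⊓ centralizer ((Vo p A ⊔ Vo p B : Subgroup Γ) : Set Γ) ≤ Qo p B :=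
    (inf_le_inf_left _ (centralizer_le (SetLike.coe_subset_coe.2 le_sup_right))).trans d.mB₀.centV.le
  obtain ⟨h1, -⟩ := d.mB₀.transport d.mB h0 hle hC
  obtain ⟨hcl, hcc⟩ := d.mB.base.lg_cent h1
  have hinf : e₁ ⊓ centralizer ((Vo p A ⊔ Vo p B : Subgroup Γ) : Set Γ) ⊓ Vo p C ≤ ctr e₁ := by
    intro v hv
    obtain ⟨w, hw, hwQ⟩ := SetLike.not_le_iff_exists.1 d.VA_notQ
    exact d.mC.facts.fix v hv.2 w (d.VA_le_e₁ hw) hwQ
      (commute_of_cent hv.1.2 (mem_sup_left hw))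
  obtain ⟨a, ha, c, hc, rfl⟩ := d.mB.base.prod_of_inf_le hcl d.mC.lgV hinf ht
  rw [hcc, ← SetLike.mem_coe, coe_mul_of_left_le_normalizer_right _ _
    ((d.VA_le_e₁.trans d.mB.T_normV))] at ha
  obtain ⟨n, hn, v, hv, rfl⟩ := ha
  exact ⟨n, hn, v * c, mul_mem (d.VB_le hv) (d.mC.centV.le hc), by group⟩

theorem QB_eq {q : Γ} (hq : q ∈ Qo p B) :
    ∃ n ∈ Vo p A, ∃ u ∈ Qo p B ⊓ Qo p C, q = n * u := by
  obtain ⟨n, hn, c, hc, rfl⟩ := d.e₁_eq (d.mB.good.Q_le hq)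
  exact ⟨n, hn, c, ⟨(mul_mem_cancel_left (d.VA_le hn)).1 hq, hc⟩, rfl⟩

theorem P_cent {n u : Γ} (hn : n ∈ Vo p A) (hu : u ∈ Qo p B) :
    ⁅u, n⁆ ∈ centralizer (B : Set Γ) :=
  d.mB₀.comm_central d.mA d.ne_AB d.VA_le hn (d.mB₀.good.Q_le hu)

/-- The Frattini subgroup of `Q_B` lies in `Q_C` and is centralized by `V_D`. -/
theorem Fr_QB : Fr (Qo p B) ≤ Qo p B ⊓ Qo p C ∧ ∀ y ∈ Vo p D, ∀ f ∈ Fr (Qo p B), Commute y f := by
  haveI := d.mB.base.fin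
  haveI : Finite ↥(Qo p B) := finite_of_le d.mB.good.Q_le
  haveI : Finite ↥(Qo p B ⊓ Qo p C) := finite_of_le inf_le_left
  have hPp : IsPGroup p ↥(Qo p B ⊓ Qo p C) :=
    d.mB.base.isp.to_le (inf_le_left.trans d.mB.good.Q_le)
  obtain ⟨M, hM⟩ : ∃ M, M = (e₁ ⊓ centralizer (B : Set Γ)) ⊔ Fr (Qo p B ⊓ Qo p C) := ⟨_, rfl⟩
  have hc1 : e₁ ⊓ centralizer (B : Set Γ) ≤ ctr e₁ :=
    le_inf inf_le_left (inf_le_right.trans (centralizer_le d.mB.good.le))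
  have hMP : M ≤ Qo p B ⊓ Qo p C := hM ▸ sup_le (hc1.trans d.ctr₁_le) (Fr_le_self _)
  have hy : ∀ y ∈ Vo p D, M ≤ centralizer ({y} : Set Γ) := by
    intro y hy
    rw [hM]
    refine sup_le (fun c hc => mem_centralizer_singleton_iff.2 ?_) ?_
    · exact (commute_of_cent hc.2 (d.mB.good.le (d.VD_le hy))).symm
    have hr : ∀ u ∈ Qo p B ⊓ Qo p C, ⁅y, u⁆ ∈ ctr e₂ := fun u hu =>
      d.mD.quad' hy (d.mC₂.good.Q_le hu.2)
    have hy' : ∀ u ∈ Qo p B ⊓ Qo p C, y * u * y⁻¹ = ⁅y, u⁆ * u := fun u _ => by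
      simp only [commutatorElement_def]; group
    have hu2 : ∀ u ∈ Qo p B ⊓ Qo p C, u ∈ e₂ := fun u hu => d.mC₂.good.Q_le hu.2
    refine Fr_le_of (p := p) (fun u hu => ?_) fun u hu v hv => ?_
    · refine mem_centralizer_singleton_iff.2 (mul_inv_eq_iff_eq_mul.1 ?_).symm
      rw [← conj_pow, hy' u hu, (commute_of_cent (hr u hu).2 (hu2 u hu)).symm.mul_pow,
        d.mD.base.elem _ (hr u hu), one_mul]
    · refine mem_centralizer_singleton_iff.2 (mul_inv_eq_iff_eq_mul.1 ?_).symm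
      obtain ⟨r, hr'⟩ : ∃ r, r = ⁅y, u⁆ := ⟨_, rfl⟩
      obtain ⟨s, hs'⟩ : ∃ s, s = ⁅y, v⁆ := ⟨_, rfl⟩
      have hz : ∀ z ∈ ctr e₂, ∀ w ∈ e₂, Commute z w := fun z hz w hw =>
        (commute_of_cent hz.2 hw).symm
      have hrz : r ∈ ctr e₂ := hr' ▸ hr u hu
      have hsz : s ∈ ctr e₂ := hs' ▸ hr v hv
      calc y * ⁅u, v⁆ * y⁻¹ = ⁅y * u * y⁻¹, y * v * y⁻¹⁆ := by
            simp only [commutatorElement_def]; group
        _ = ⁅r * u, s * v⁆ := by rw [hy' u hu, hy' v hv, ← hr', ← hs']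
        _ = r * (u * s) * v * (u⁻¹ * r⁻¹) * v⁻¹ * s⁻¹ := by simp only [commutatorElement_def]; group
        _ = r * (s * u) * v * (r⁻¹ * u⁻¹) * v⁻¹ * s⁻¹ := by
          rw [(hz s hsz u (hu2 u hu)).eq, (hz r hrz u (hu2 u hu)).inv_left.inv_right.eq]
        _ = r * s * (u * v * r⁻¹) * u⁻¹ * v⁻¹ * s⁻¹ := by group
        _ = r * s * (r⁻¹ * (u * v)) * u⁻¹ * v⁻¹ * s⁻¹ := by
          rw [((hz r hrz _ (mul_mem (hu2 u hu) (hu2 v hv))).inv_left).eq]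
        _ = (r * s * r⁻¹) * ⁅u, v⁆ * s⁻¹ := by simp only [commutatorElement_def]; group
        _ = s * ⁅u, v⁆ * s⁻¹ := by rw [(hz r hrz s hsz.1).eq, mul_inv_cancel_right]
        _ = _ := by
          rw [(hz s hsz _ (show ⁅u, v⁆ ∈ e₂ from mul_mem (mul_mem (mul_mem (hu2 u hu) (hu2 v hv))
            (inv_mem (hu2 u hu))) (inv_mem (hu2 v hv)))).eq, mul_inv_cancel_right]
  suffices h : Fr (Qo p B) ≤ M from ⟨h.trans hMP, fun y hy' f hf =>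
    (mem_centralizer_singleton_iff.1 (hy y hy' (h hf))).symm⟩
  have hc : ∀ n ∈ Vo p A, ∀ u ∈ Qo p B, ⁅u, n⁆ ∈ e₁ ⊓ centralizer (B : Set Γ) := fun n hn u hu =>
    mem_inf.2 ⟨mul_mem (mul_mem (mul_mem (d.mB.good.Q_le hu) (d.VA_le_e₁ hn))
      (inv_mem (d.mB.good.Q_le hu))) (inv_mem (d.VA_le_e₁ hn)), d.P_cent hn hu⟩
  refine Fr_le_of (p := p) (fun q hq => ?_) fun q hq r hr => ?_
  · obtain ⟨n, hn, u, hu, rfl⟩ := d.QB_eq hq
    have h1 : ⁅u, n⁆ ∈ centralizer (B : Set Γ) := d.P_cent hn hu.1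
    rw [pow_mul_of_comm (c := ⁅u, n⁆) (by simp only [commutatorElement_def]; group)
      (commute_of_cent h1 (d.mB.good.le (d.VA_le_e₁ hn))).symm
      (commute_of_cent h1 (Qo_le B hu.1)).symm p, d.mA.elemV hn, one_mul, hM]
    exact mul_mem (mem_sup_left (pow_mem (hc n hn u hu.1) _)) (mem_sup_right (pow_mem_Fr hPp hu))
  · obtain ⟨n, hn, u, hu, rfl⟩ := d.QB_eq hq
    obtain ⟨m, hm, v, hv, rfl⟩ := d.QB_eq hr
    have hfix : ∀ z ∈ centralizer (B : Set Γ), ∀ w ∈ Qo p B, w * z * w⁻¹ = z := fun z hz w hw =>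
      mul_inv_eq_iff_eq_mul.2 (commute_of_cent hz (Qo_le B hw)).eq
    have hnm : ⁅n, m⁆ = 1 := commutatorElement_eq_one_iff_commute.2 (d.mA.V_comm hn hm)
    rw [show ⁅n * u, m * v⁆ = n * ⁅u, m⁆ * n⁻¹ * (n * m) * ⁅u, v⁆ * (n * m)⁻¹ * ⁅n, m⁆ *
        (m * ⁅n, v⁆ * m⁻¹) by simp only [commutatorElement_def]; group]
    have h2 : ⁅n, v⁆ ∈ e₁ ⊓ centralizer (B : Set Γ) := by
      rw [← commutatorElement_inv]
      exact inv_mem (hc n hn v hv.1)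
    rw [hfix _ (hc m hm u hu.1).2 _ (d.VA_le hn), hfix _ h2.2 _ (d.VA_le hm), hnm, mul_one, hM]
    refine mul_mem ?_ (mem_sup_left h2)
    rw [show ⁅u, m⁆ * (n * m) * ⁅u, v⁆ * (n * m)⁻¹ = ⁅u, m⁆ * ((n * m) * ⁅u, v⁆ * (n * m)⁻¹) by
      group]
    exact mul_mem (mem_sup_left (hc m hm u hu.1)) (mem_sup_right (mem_normalizer_conj
      (((le_normalizer_inf d.mB.T_normQ d.mC.T_normQ).trans (normalizer_le_Fr _))
        (mul_mem (d.VA_le_e₁ hn) (d.VA_le_e₁ hm))) (comm_mem_Fr hPp hu hv)))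

/-- In a member with the vertex of `B` the centre of `e₁` meets `Φ(Q_B)` centrally. -/
theorem Fr_central {L : Subgroup Γ} (mL : Mem p e₁ L) (hL : Vo p L = Vo p B) {z : Γ}
    (hz : z ∈ ctr e₁) (hzF : z ∈ Fr (Qo p B)) : z ∈ centralizer (L : Set Γ) := by
  have hQ : Qo p L = Qo p B := by rw [← mL.centV, hL, d.mB.centV]
  obtain ⟨y, hy, hyQ⟩ := SetLike.not_le_iff_exists.1 d.VD_notQ
  obtain ⟨N, hN⟩ : ∃ N, N = L ⊓ centralizer (Fr (Qo p B) : Set Γ) := ⟨_, rfl⟩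
  have hn : L ≤ normalizer (N : Set Γ) := by
    rw [hN]
    refine le_normalizer_inf le_normalizer fun g hg => ?_
    refine mem_normalizer_of_cj ?_
    rw [cj_centralizer, CfsgLib.PushUp.cj_eq_of_mem_normalizer
      (((mL.good.normQ.trans (normalizer_le_Fr _)).trans (le_of_eq (by rw [hQ]))) hg)]
  have hyN : y ∈ N := hN ▸ mem_inf.2 ⟨mL.good.le (d.VD_le hy),
    mem_centralizer_iff.2 fun f hf => ((d.Fr_QB.2 y hy f hf).symm).eq⟩
  rw [← mL.sup_or (hN ▸ inf_le_left) hn (d.VD_le hy) hyN (hQ ▸ hyQ),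
    CfsgLib.CDLat.centralizer_sup]
  exact ⟨(le_centralizer_iff.1 (hN.le.trans inf_le_right)) hzF, hz.2⟩

theorem two (hp : p = 2) {n y : Γ} (hn : n ∈ Vo p A) (hy : y ∈ Vo p D) : ⁅n, y⁆ ∈ Vo p B := by
  have hsplit : ∀ w ∈ Vo p B ⊔ Vo p C, ∃ a ∈ Vo p B, ∃ c ∈ Vo p C, w = a * c := by
    intro w hw
    rw [← SetLike.mem_coe, coe_mul_of_left_le_normalizer_right _ _
      (d.mB.V_le.trans d.mC.T_normV)] at hw
    obtain ⟨a, ha, c, hc, rfl⟩ := hw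
    exact ⟨a, ha, c, hc, rfl⟩
  by_cases hnQ : n ∈ Qo p C
  · have h0 := d.mem_ctr₀ hn fun w hw => commute_of_cent (d.mC.V_cent_Q hw) hnQ
    exact comm_mem' (d.mB.good.normV (d.mB.good.le (d.VD_le hy))) (d.mB₀.facts.zle h0)
  obtain ⟨a, ha, c, hc, e⟩ := hsplit _ (d.inner n hn y hy)
  have hac : Commute a c := d.cBC a ha c hc
  have hn2 : n⁻¹ = n := by
    rw [inv_eq_iff_mul_eq_one, ← pow_two, ← hp]
    exact d.mA.elemV hn
  have hm2 : ⁅n, y⁆⁻¹ = ⁅n, y⁆ := by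
    rw [e, inv_eq_iff_mul_eq_one, ← pow_two, hac.mul_pow, ← hp, d.mB.elemV ha, d.mC.elemV hc, one_mul]
  have hcm : Commute n ⁅n, y⁆ := by
    refine mul_inv_eq_iff_eq_mul.1 ?_
    conv_rhs => rw [← hm2]
    calc n * ⁅n, y⁆ * n⁻¹ = (n * n) * y * n⁻¹ * y⁻¹ * n⁻¹ := by
          simp only [commutatorElement_def]; group
      _ = (n * n⁻¹) * y * n * y⁻¹ * n⁻¹ := by rw [hn2]
      _ = _ := by simp only [commutatorElement_def]; group
  have hna : Commute n a := d.cAB n hn a ha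
  have hnc : Commute n c := by
    have := hna.inv_right.mul_right (e ▸ hcm : Commute n (a * c))
    rwa [inv_mul_cancel_left] at this
  rw [e]
  exact mul_mem ha (d.mB.facts.zle (d.mC.facts.fix c hc n (d.VA_le_e₁ hn) hnQ hnc))

/-- The Frattini subgroup of `e₁`. -/
theorem three_bound :
    ⁅⁅Fr e₁, e₁⁆, e₁⁆ ⊔ Fr (Fr e₁) ≤ Fr (Qo p B) := by
  haveI := d.mB.base.fin
  haveI : Finite ↥(Qo p B) := finite_of_le d.mB.good.Q_le
  haveI : Finite ↥(Qo p B ⊓ Qo p C) := finite_of_le inf_le_left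
  haveI : Finite ↥(Fr e₁) := finite_of_le (Fr_le_self e₁)
  obtain ⟨P, hP⟩ : ∃ P, P = Qo p B ⊓ Qo p C := ⟨_, rfl⟩
  haveI : Finite ↥P := hP ▸ inferInstance
  have hPp : IsPGroup p ↥P := d.mB.base.isp.to_le (hP ▸ inf_le_left.trans d.mB.good.Q_le)
  have hPT : e₁ ≤ normalizer (Fr P : Set Γ) :=
    (hP ▸ le_normalizer_inf d.mB.T_normQ d.mC.T_normQ : e₁ ≤ normalizer (P : Set Γ)).trans
      (normalizer_le_Fr _)
  obtain ⟨M, hM⟩ : ∃ M, M = (Vo p B ⊔ Vo p C) ⊔ Fr P := ⟨_, rfl⟩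
  have hXT : Vo p B ⊔ Vo p C ≤ e₁ := sup_le d.mB.V_le d.mC.V_le
  have hMle : M ≤ e₁ := hM ▸ sup_le hXT
    ((Fr_le_self P).trans (hP ▸ inf_le_left.trans d.mB.good.Q_le))
  have hMn : e₁ ≤ normalizer (M : Set Γ) :=
    hM ▸ le_normalizer_sup (le_normalizer_sup d.mB.T_normV d.mC.T_normV) hPT
  haveI hMn' : (M.subgroupOf e₁).Normal := (normal_subgroupOf_iff_le_normalizer hMle).2 hMn
  obtain ⟨π, hπ⟩ : ∃ π : ↥e₁ →* ↥e₁ ⧸ M.subgroupOf e₁, π = QuotientGroup.mk' _ := ⟨_, rfl⟩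
  have hone : ∀ z : ↥e₁, (z : Γ) ∈ M → π z = 1 := fun z hz => by
    rw [hπ]; exact (QuotientGroup.eq_one_iff z).2 hz
  have hcom : ∀ {a b : Γ} (ha : a ∈ e₁) (hb : b ∈ e₁), ⁅a, b⁆ ∈ M →
      Commute (π ⟨a, ha⟩) (π ⟨b, hb⟩) := fun {a b} ha hb h => by
    rw [← commutatorElement_eq_one_iff_commute, ← map_commutatorElement]
    exact hone _ h
  have hpw : ∀ {a : Γ} (ha : a ∈ e₁), a ^ p ∈ M → π ⟨a, ha⟩ ^ p = 1 := fun {a} ha h => by
    rw [← map_pow]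
    exact hone _ (by rwa [SubgroupClass.coe_pow])
  have hXP : P ≤ centralizer ((Vo p B ⊔ Vo p C : Subgroup Γ) : Set Γ) := by
    rw [CfsgLib.CDLat.centralizer_sup, hP]
    exact le_inf (inf_le_left.trans d.mB.Q_cent_V) (inf_le_right.trans d.mC.Q_cent_V)
  -- every element of `e₁` is a product of three elements with commuting images
  have hdec : ∀ t ∈ e₁, ∃ n ∈ Vo p A, ∃ y ∈ Vo p D, ∃ u ∈ P, t = n * (y * u) := by
    intro t ht
    obtain ⟨n, hn, q, hq, rfl⟩ := d.e₁_eq ht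
    obtain ⟨y, hy, u, hu, rfl⟩ := d.flip.QB_eq hq
    exact ⟨n, hn, y, hy, u, hP ▸ ⟨hu.2, hu.1⟩, rfl⟩
  have hA1 : ∀ n ∈ Vo p A, n ∈ e₁ := fun n hn => d.VA_le_e₁ hn
  have hD1 : ∀ y ∈ Vo p D, y ∈ e₁ := fun y hy => d.VD_le hy
  have hP1 : ∀ u ∈ P, u ∈ e₁ := fun u hu => d.mB.good.Q_le (hP ▸ hu : u ∈ Qo p B ⊓ Qo p C).1
  have hAD : ∀ n ∈ Vo p A, ∀ y ∈ Vo p D, ⁅n, y⁆ ∈ M := fun n hn y hy =>
    hM ▸ mem_sup_left (d.inner n hn y hy)
  have hAP : ∀ n ∈ Vo p A, ∀ u ∈ P, ⁅u, n⁆ ∈ M := fun n hn u hu => by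
    refine hM ▸ mem_sup_left (mem_sup_left (d.mB.facts.zle (mem_inf.2 ⟨?_, ?_⟩)))
    · exact mul_mem (mul_mem (mul_mem (hP1 u hu) (hA1 n hn)) (inv_mem (hP1 u hu))) (inv_mem (hA1 n hn))
    · exact centralizer_le d.mB.good.le (d.P_cent hn (hP ▸ hu : u ∈ Qo p B ⊓ Qo p C).1)
  have hDP : ∀ y ∈ Vo p D, ∀ u ∈ P, ⁅u, y⁆ ∈ M := fun y hy u hu => by
    refine hM ▸ mem_sup_left (mem_sup_right (d.mC.facts.zle (mem_inf.2 ⟨?_, ?_⟩)))
    · exact mul_mem (mul_mem (mul_mem (hP1 u hu) (hD1 y hy)) (inv_mem (hP1 u hu))) (inv_mem (hD1 y hy))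
    · exact centralizer_le d.mC.good.le (d.flip.P_cent hy (hP ▸ hu : u ∈ Qo p B ⊓ Qo p C).2)
  have hπab : ∀ t s : ↥e₁, Commute (π t) (π s) ∧ π t ^ p = 1 := by
    intro t s
    obtain ⟨n, hn, y, hy, u, hu, e⟩ := hdec t t.2
    obtain ⟨n', hn', y', hy', u', hu', e'⟩ := hdec s s.2
    have et : π t = π ⟨n, hA1 n hn⟩ * (π ⟨y, hD1 y hy⟩ * π ⟨u, hP1 u hu⟩) := by
      rw [← map_mul, ← map_mul]; exact congrArg π (Subtype.ext e)
    have es : π s = π ⟨n', hA1 n' hn'⟩ * (π ⟨y', hD1 y' hy'⟩ * π ⟨u', hP1 u' hu'⟩) := by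
      rw [← map_mul, ← map_mul]; exact congrArg π (Subtype.ext e')
    have caa : ∀ {a b : Γ} (ha : a ∈ Vo p A) (hb : b ∈ Vo p A),
        Commute (π ⟨a, hA1 a ha⟩) (π ⟨b, hA1 b hb⟩) := fun ha hb => hcom _ _
      (by rw [commutatorElement_eq_one_iff_commute.2 (d.mA.V_comm ha hb)]; exact one_mem M)
    have cdd : ∀ {a b : Γ} (ha : a ∈ Vo p D) (hb : b ∈ Vo p D),
        Commute (π ⟨a, hD1 a ha⟩) (π ⟨b, hD1 b hb⟩) := fun ha hb => hcom _ _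
      (by rw [commutatorElement_eq_one_iff_commute.2 (d.mD.V_comm ha hb)]; exact one_mem M)
    have cpp : ∀ {a b : Γ} (ha : a ∈ P) (hb : b ∈ P),
        Commute (π ⟨a, hP1 a ha⟩) (π ⟨b, hP1 b hb⟩) := fun ha hb => hcom _ _
      (hM ▸ mem_sup_right (comm_mem_Fr hPp ha hb))
    have cad : ∀ {a b : Γ} (ha : a ∈ Vo p A) (hb : b ∈ Vo p D),
        Commute (π ⟨a, hA1 a ha⟩) (π ⟨b, hD1 b hb⟩) := fun ha hb => hcom _ _ (hAD _ ha _ hb)
    have cpa : ∀ {a b : Γ} (ha : a ∈ P) (hb : b ∈ Vo p A),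
        Commute (π ⟨a, hP1 a ha⟩) (π ⟨b, hA1 b hb⟩) := fun ha hb => hcom _ _ (hAP _ hb _ ha)
    have cpd : ∀ {a b : Γ} (ha : a ∈ P) (hb : b ∈ Vo p D),
        Commute (π ⟨a, hP1 a ha⟩) (π ⟨b, hD1 b hb⟩) := fun ha hb => hcom _ _ (hDP _ hb _ ha)
    refine ⟨?_, ?_⟩
    · rw [et, es]
      exact ((caa hn hn').mul_right ((cad hn hy').mul_right (cpa hu' hn).symm)).mul_left
        ((((cad hn' hy).symm).mul_right ((cdd hy hy').mul_right (cpd hu' hy).symm)).mul_left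
          ((cpa hu hn').mul_right ((cpd hu hy').mul_right (cpp hu hu'))))
    · rw [et, ((cad hn hy).mul_right (cpa hu hn).symm).mul_pow, (cpd hu hy).symm.mul_pow,
        hpw _ (by rw [d.mA.elemV hn]; exact one_mem M), hpw _ (by rw [d.mD.elemV hy]; exact one_mem M),
        hpw _ (hM ▸ mem_sup_right (pow_mem_Fr hPp hu)), one_mul, one_mul]
  have hFr : Fr e₁ ≤ M := by
    refine Fr_le_of (p := p) (fun t ht => ?_) fun t ht s hs => ?_
    · have := (hπab ⟨t, ht⟩ ⟨t, ht⟩).2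
      rw [← map_pow, hπ, QuotientGroup.mk'_apply, QuotientGroup.eq_one_iff, mem_subgroupOf,
        SubgroupClass.coe_pow] at this
      exact this
    · have := (hπab ⟨t, ht⟩ ⟨s, hs⟩).1
      rw [← commutatorElement_eq_one_iff_commute, ← map_commutatorElement, hπ,
        QuotientGroup.mk'_apply, QuotientGroup.eq_one_iff, mem_subgroupOf] at this
      exact this
  have hFF : Fr P ≤ P := Fr_le_self P
  have hMs : ∀ f ∈ Fr e₁, ∃ x ∈ Vo p B ⊔ Vo p C, ∃ u ∈ Fr P, f = x * u := by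
    intro f hf
    have := hFr hf
    rw [hM, ← SetLike.mem_coe, coe_mul_of_left_le_normalizer_right _ _ (hXT.trans hPT)] at this
    obtain ⟨x, hx, u, hu, rfl⟩ := this
    exact ⟨x, hx, u, hu, rfl⟩
  have hXc : ∀ x ∈ Vo p B ⊔ Vo p C, ∀ u ∈ P, Commute x u := fun x hx u hu =>
    commute_of_cent (hXP hu) hx
  have hZn : ctr e₁ ≤ normalizer (Fr P : Set Γ) := (CfsgLib.PushUp.ctr_le e₁).trans hPT
  have h1 : ⁅Fr e₁, e₁⁆ ≤ ctr e₁ ⊔ Fr P := by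
    refine commutator_le.2 fun f hf t ht => ?_
    obtain ⟨x, hx, u, hu, rfl⟩ := hMs f hf
    have hut : ⁅u, t⁆ ∈ Fr P := comm_mem' (hPT ht) hu
    rw [show ⁅x * u, t⁆ = x * ⁅u, t⁆ * x⁻¹ * ⁅x, t⁆ by simp only [commutatorElement_def]; group,
      (hXc x hx _ (hFF hut)).eq, mul_inv_cancel_right]
    refine mul_mem (mem_sup_right hut) (mem_sup_left ?_)
    rw [← SetLike.mem_coe, coe_mul_of_left_le_normalizer_right _ _
      (d.mB.V_le.trans d.mC.T_normV)] at hx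
    obtain ⟨a, ha, c, hc, rfl⟩ := hx
    rw [show ⁅a * c, t⁆ = a * ⁅c, t⁆ * a⁻¹ * ⁅a, t⁆ by simp only [commutatorElement_def]; group,
      (commute_of_cent (d.mC.quad' hc ht).2 (d.mB.V_le ha)).eq, mul_inv_cancel_right]
    exact mul_mem (d.mC.quad' hc ht) (d.mB.quad' ha ht)
  have hPQ : Fr P ≤ Fr (Qo p B) :=
    Fr_mono (d.mB.base.isp.to_le d.mB.good.Q_le) (hP ▸ inf_le_left)
  refine le_trans (sup_le ?_ ?_) hPQ
  · refine (commutator_mono h1 le_rfl).trans (commutator_le.2 fun f hf t ht => ?_)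
    rw [← SetLike.mem_coe, coe_mul_of_left_le_normalizer_right _ _ hZn] at hf
    obtain ⟨z, hz, u, hu, rfl⟩ := hf
    have hut : ⁅u, t⁆ ∈ Fr P := comm_mem' (hPT ht) hu
    rw [show ⁅z * u, t⁆ = z * ⁅u, t⁆ * z⁻¹ * ⁅z, t⁆ by simp only [commutatorElement_def]; group,
      commutatorElement_eq_one_iff_commute.2 (commute_of_cent hz.2 ht).symm, mul_one]
    exact mem_normalizer_conj (hZn hz) hut
  · refine Fr_le_of (p := p) (fun f hf => ?_) fun f hf g hg => ?_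
    · obtain ⟨x, hx, u, hu, rfl⟩ := hMs f hf
      have hxp : x ^ p = 1 := by
        rw [← SetLike.mem_coe, coe_mul_of_left_le_normalizer_right _ _
          (d.mB.V_le.trans d.mC.T_normV)] at hx
        obtain ⟨a, ha, c, hc, rfl⟩ := hx
        rw [Commute.mul_pow (d.cBC a ha c hc), d.mB.elemV ha, d.mC.elemV hc, one_mul]
      rw [(hXc x hx u (hFF hu)).mul_pow, hxp, one_mul]
      exact pow_mem hu p
    · obtain ⟨x, hx, u, hu, rfl⟩ := hMs f hf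
      obtain ⟨x', hx', u', hu', rfl⟩ := hMs g hg
      have hxx : Commute x x' := by
        refine commute_of_cent ((?_ : Vo p B ⊔ Vo p C ≤
          centralizer ((Vo p B ⊔ Vo p C : Subgroup Γ) : Set Γ)) hx') hx
        rw [CfsgLib.CDLat.centralizer_sup]
        exact le_inf (sup_le (fun w hw => mem_centralizer_iff.2 fun v hv => d.mB.V_comm hv hw)
            d.cBC.le_cent)
          (sup_le d.cBC.symm.le_cent fun w hw => mem_centralizer_iff.2 fun v hv => d.mC.V_comm hv hw)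
      have c1 : Commute x u' := hXc x hx u' (hFF hu')
      have c2 : Commute u x' := (hXc x' hx' u (hFF hu)).symm
      have c3 : Commute x (u * u' * u⁻¹ * u'⁻¹) :=
        hXc x hx _ (hFF (mul_mem (mul_mem (mul_mem hu hu') (inv_mem hu)) (inv_mem hu')))
      have e : ⁅x * u, x' * u'⁆ = ⁅u, u'⁆ := by
        rw [show ⁅x * u, x' * u'⁆ = x * (⁅u, x'⁆ * (x' * ⁅u, u'⁆ * x'⁻¹)) * x⁻¹ *
            (⁅x, x'⁆ * (x' * ⁅x, u'⁆ * x'⁻¹)) by simp only [commutatorElement_def]; group,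
          commutatorElement_eq_one_iff_commute.2 c2, commutatorElement_eq_one_iff_commute.2 hxx,
          commutatorElement_eq_one_iff_commute.2 c1]
        have c4 : Commute x' ⁅u, u'⁆ :=
          hXc x' hx' _ (hFF (mul_mem (mul_mem (mul_mem hu hu') (inv_mem hu)) (inv_mem hu')))
        rw [c4.eq, mul_inv_cancel_right, one_mul, show Commute x ⁅u, u'⁆ from c3 |>.eq]
        group
      rw [e]
      exact mul_mem (mul_mem (mul_mem hu hu') (inv_mem hu)) (inv_mem hu')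

end Quad

end CfsgLib.PushAmalgam
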