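import Cfsg.Agent.Lib.PushAmalgam.Orbit

/-!
# Pushing up in rank one: critical walks

A walk of length `b` with non-commuting ends, all shorter walks having commuting ends.
-/

set_option autoImplicit false
set_option linter.style.haveILetI false
set_option linter.unusedSectionVars false

open Subgroup
open scoped commutatorElement Pointwise
open CfsgLib.PushUp (MA cj mem_cj conj_mem_cj cj_mono card_cj ctr Fr)

namespace CfsgLib.PushAmalgam

universe u

variable {Γ : Type u} [Group Γ] {p : ℕ} [Fact p.Prime] {S X : Subgroup Γ} {H T : ℕ → Subgroup Γ}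
  {b n : ℕ}

/-- A walk with its edges. -/
def Walk (p : ℕ) (S X : Subgroup Γ) (H T : ℕ → Subgroup Γ) (b : ℕ) : Prop :=
  ∀ i < b, MemX p S X (T i) (H i) ∧ MemX p S X (T i) (H (i + 1))

theorem Walk.sub {N : ℕ} (w : Walk p S X H T N) {o : ℕ} (h : o + b ≤ N) :
    Walk p S X (fun i => H (o + i)) (fun i => T (o + i)) b := fun i hi => w (o + i) (by omega)

theorem Walk.rev (w : Walk p S X H T b) :
    Walk p S X (fun i => H (b - i)) (fun i => T (b - 1 - i)) b := fun i hi => by
  obtain ⟨h1, h2⟩ := w (b - 1 - i) (by omega)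
  rw [show b - 1 - i + 1 = b - i by omega] at h2
  refine ⟨h2, ?_⟩
  show MemX p S X (T (b - 1 - i)) (H (b - (i + 1)))
  rwa [show b - (i + 1) = b - 1 - i by omega]

theorem Walk.edge_at (w : Walk p S X H T b) {i : ℕ} (hi : i ≤ b) (hb : 0 < b) :
    ∃ T', MemX p S X T' (H i) := by
  by_cases h : i < b
  · exact ⟨_, (w i h).1⟩
  · obtain rfl : i = b := by omega
    have := (w (i - 1) (by omega)).2
    rw [show i - 1 + 1 = i by omega] at this
    exact ⟨_, this⟩

theorem Walk.conn (w : Walk p S X H T b) : ∀ (k i : ℕ), 0 < b → i + k ≤ b →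
    Conn p S X k (H i) (H (i + k)) := by
  intro k
  induction k with
  | zero =>
    intro i hb hi
    obtain ⟨T', m⟩ := w.edge_at (i := i) (by omega) hb
    exact .refl m
  | succ k ih =>
    intro i hb hi
    have h := ih (i + 1) hb (by omega)
    rw [show i + 1 + k = i + (k + 1) by omega] at h
    exact .step (w i (by omega)).1 (w i (by omega)).2 h

theorem Walk.com_le (w : Walk p S X H T b) (cb : CB p S X n) {i j : ℕ} (hij : i ≤ j) (hj : j ≤ b)
    (hb : 0 < b) (hd : j - i ≤ n) : Com p (H i) (H j) := by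
  have := w.conn (j - i) i hb (by omega)
  rw [show i + (j - i) = j by omega] at this
  exact cb _ _ _ hd this

theorem Walk.com (w : Walk p S X H T b) (cb : CB p S X n) {i j : ℕ} (hi : i ≤ b) (hj : j ≤ b)
    (hb : 0 < b) (hd : j - i ≤ n) (hd' : i - j ≤ n) : Com p (H i) (H j) := by
  rcases le_total i j with h | h
  · exact w.com_le cb h hj hb hd
  · exact (w.com_le cb h hi hb hd').symm

theorem exists_walk {k : ℕ} {A B : Subgroup Γ} (c : Conn p S X k A B) :
    ∃ H T : ℕ → Subgroup Γ, Walk p S X H T k ∧ H 0 = A ∧ H k = B := by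
  induction c with
  | @refl T₀ A m => exact ⟨fun _ => A, fun _ => T₀, fun i hi => absurd hi (Nat.not_lt_zero i), rfl, rfl⟩
  | @step k T₀ A L B m m' _ ih =>
    obtain ⟨H, T, w, h0, hk⟩ := ih
    refine ⟨fun i => if i = 0 then A else H (i - 1), fun i => if i = 0 then T₀ else T (i - 1),
      fun i hi => ?_, by simp, by simp [hk]⟩
    rcases Nat.eq_zero_or_pos i with rfl | hpos
    · simp only [Nat.zero_add, one_ne_zero, if_false, if_true, Nat.sub_self, h0]
      exact ⟨m, m'⟩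
    · obtain ⟨h1, h2⟩ := w (i - 1) (by omega)
      rw [show i - 1 + 1 = i by omega] at h2
      simp only [show i ≠ 0 by omega, show i + 1 ≠ 0 by omega, if_false, Nat.add_sub_cancel]
      exact ⟨h1, h2⟩

/-- The product of the `V`'s of a segment. -/
def seg (p : ℕ) (H : ℕ → Subgroup Γ) : ℕ → ℕ → Subgroup Γ
  | i, 0 => Vo p (H i)
  | i, k + 1 => Vo p (H i) ⊔ seg p H (i + 1) k

theorem le_seg : ∀ (k i j : ℕ), i ≤ j → j ≤ i + k → Vo p (H j) ≤ seg p H i k := by
  intro k
  induction k with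
  | zero => intro i j h1 h2; obtain rfl : j = i := (by omega); exact le_rfl
  | succ k ih =>
    intro i j h1 h2
    rcases Nat.eq_or_lt_of_le h1 with rfl | h
    · exact le_sup_left
    · exact (ih (i + 1) j h (by omega)).trans le_sup_right

theorem seg_le {Y : Subgroup Γ} : ∀ (k i : ℕ), (∀ j, i ≤ j → j ≤ i + k → Vo p (H j) ≤ Y) →
    seg p H i k ≤ Y := by
  intro k
  induction k with
  | zero => exact fun i h => h i le_rfl le_rfl
  | succ k ih =>
    exact fun i h => sup_le (h i le_rfl (by omega))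
      (ih (i + 1) fun j h1 h2 => h j (by omega) (by omega))

theorem Walk.seg_lg (w : Walk p S X H T b) (cb : CB p S X n) (hb : 0 < b) :
    ∀ (k i : ℕ), k ≤ n → i + k ≤ b → ∀ T', MemX p S X T' (H i) →
      Lg T' (seg p H i k) ∧ seg p H i k ≤ Qo p (H i) ∧
        T' ⊓ centralizer (seg p H i k : Set Γ) ≤ Qo p (H i) := by
  intro k
  induction k with
  | zero => exact fun i _ _ T' m => ⟨m.mem.lgV, m.mem.V_le_Q, m.mem.centV.le⟩
  | succ k ih =>
    intro i hk hi T' m
    obtain ⟨m₁, m₁'⟩ := w i (by omega)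
    obtain ⟨hP, -, -⟩ := ih (i + 1) (by omega) (by omega) _ m₁'
    have hPC : seg p H (i + 1) k ≤ centralizer (Vo p (H i) : Set Γ) :=
      seg_le k (i + 1) fun j h1 h2 => (w.com_le cb (by omega) (by omega) hb (by omega)).le_cent
    have hPQ : seg p H (i + 1) k ≤ Qo p (H i) := (le_inf hP.le hPC).trans m₁.mem.centV.le
    have hle : seg p H i (k + 1) ≤ Qo p (H i) := sup_le m₁.mem.V_le_Q hPQ
    have hC : T i ⊓ centralizer (seg p H i (k + 1) : Set Γ) ≤ Qo p (H i) :=
      (inf_le_inf_left _ (centralizer_le (SetLike.coe_subset_coe.2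
        (le_seg (k + 1) i i le_rfl (by omega))))).trans m₁.mem.centV.le
    obtain ⟨h1, h2⟩ := m₁.mem.transport m.mem (m₁.mem.base.lg_sup m₁.mem.lgV hP).1 hle hC
    exact ⟨h1, hle, h2.le.trans hC⟩

/-- `V_j ≤ T_i` when `i < j` and `j - i` is at most the commuting distance plus one. -/
theorem Walk.V_le_T (w : Walk p S X H T b) (cb : CB p S X n) {i j : ℕ} (hij : i < j) (hj : j ≤ b)
    (hd : j - (i + 1) ≤ n) : Vo p (H j) ≤ T i := by
  obtain ⟨h, -, -⟩ := w.seg_lg cb (by omega) (j - (i + 1)) (i + 1) hd (by omega) _ (w i (by omega)).2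
  exact (le_seg _ _ j hij (by omega)).trans h.le

/-- `V_j ≤ T_i` when `j ≤ i`. -/
theorem Walk.V_le_T' (w : Walk p S X H T b) (cb : CB p S X n) {i j : ℕ} (hij : j ≤ i) (hi : i < b)
    (hd : i - j ≤ n) : Vo p (H j) ≤ T i := by
  have h := w.rev.V_le_T cb (i := b - 1 - i) (j := b - j) (by omega) (by omega) (by omega)
  simpa [show b - (b - j) = j by omega, show b - 1 - (b - 1 - i) = i by omega] using h

theorem Walk.V_le_Q (w : Walk p S X H T b) (cb : CB p S X n) {i j : ℕ} (hi : i ≤ b) (hj : j ≤ b)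
    (hb : 0 < b) (hd : j - i ≤ n) (hd' : i - j ≤ n) : Vo p (H j) ≤ Qo p (H i) := by
  have hc := (w.com cb hi hj hb hd hd').le_cent
  by_cases hib : i < b
  · have hT : Vo p (H j) ≤ T i := by
      rcases Nat.lt_or_ge i j with h | h
      · exact w.V_le_T cb h hj (by omega)
      · exact w.V_le_T' cb h hib (by omega)
    exact (le_inf hT hc).trans (w i hib).1.mem.centV.le
  · obtain rfl : i = b := by omega
    obtain ⟨-, m⟩ := w (i - 1) (by omega)
    rw [show i - 1 + 1 = i by omega] at m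
    have hT : Vo p (H j) ≤ T (i - 1) := by
      rcases Nat.lt_or_ge (i - 1) j with h | h
      · exact w.V_le_T cb h hj (by omega)
      · exact w.V_le_T' cb h (by omega) (by omega)
    exact (le_inf hT hc).trans m.mem.centV.le

/-- Facts at the first edge of a critical walk. -/
theorem Walk.crit (w : Walk p S X H T b) (cb : CB p S X (b - 1)) (hb : 2 ≤ b)
    (hnc : ¬ Com p (H 0) (H b)) :
    Vo p (H b) ≤ T 0 ∧ ¬ Vo p (H b) ≤ Qo p (H 0) ∧
      (∀ t ∈ T 0, ∃ a ∈ Vo p (H b), ∃ c ∈ Qo p (H 0), t = a * c) ∧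
      ⁅Vo p (H 0), T 0⁆ = ⁅Vo p (H 0), Vo p (H b)⁆ := by
  have m0 := (w 0 (by omega)).1
  have hVT : Vo p (H b) ≤ T 0 := w.V_le_T cb (i := 0) (j := b) (by omega) le_rfl (by omega)
  have hnQ : ¬ Vo p (H b) ≤ Qo p (H 0) := fun hle => hnc fun v hv a ha =>
    (commute_of_cent (m0.mem.V_cent_Q hv) (hle ha)).symm
  obtain ⟨hP, -, -⟩ := w.seg_lg cb (by omega) (b - 1) 1 le_rfl (by omega) _ (w 0 (by omega)).2
  obtain ⟨hcl, hcc⟩ := m0.mem.base.lg_cent hP
  have hinf : T 0 ⊓ centralizer (seg p H 1 (b - 1) : Set Γ) ⊓ Vo p (H 0) ≤ ctr (T 0) := by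
    intro v hv
    obtain ⟨w', hw', hw'Q⟩ := SetLike.not_le_iff_exists.1 hnQ
    exact m0.mem.facts.fix v hv.2 w' (hVT hw') hw'Q
      (commute_of_cent hv.1.2 (le_seg (b - 1) 1 b (by omega) (by omega) hw'))
  have hprod : ∀ t ∈ T 0, ∃ a ∈ Vo p (H b), ∃ c ∈ Qo p (H 0), t = a * c := by
    intro t ht
    obtain ⟨a, ha, c, hc, rfl⟩ := m0.mem.base.prod_of_inf_le hcl m0.mem.lgV hinf ht
    rw [hcc] at ha
    have hle : seg p H 1 (b - 1) ≤ Vo p (H b) ⊔ Qo p (H 0) := seg_le _ _ fun j h1 h2 => by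
      rcases Nat.lt_or_ge j b with h | h
      · exact (w.V_le_Q cb (Nat.zero_le b) (by omega) (by omega) (by omega) (by omega)).trans
          le_sup_right
      · obtain rfl : j = b := by omega
        exact le_sup_left
    have := hle ha
    rw [← SetLike.mem_coe,
      coe_mul_of_left_le_normalizer_right _ _ (hVT.trans m0.mem.T_normQ)] at this
    obtain ⟨a', ha', c', hc', rfl⟩ := this
    exact ⟨a', ha', c' * c, mul_mem hc' (m0.mem.centV.le hc), by group⟩
  refine ⟨hVT, hnQ, hprod, le_antisymm (commutator_le.2 fun v hv t ht => ?_)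
    (commutator_mono le_rfl hVT)⟩
  obtain ⟨a, ha, c, hc, rfl⟩ := hprod t ht
  have hcv : c * v⁻¹ * c⁻¹ = v⁻¹ :=
    mul_inv_eq_iff_eq_mul.2 (commute_of_cent (m0.mem.V_cent_Q hv) hc).inv_right.eq
  rw [show ⁅v, a * c⁆ = v * a * (c * v⁻¹ * c⁻¹) * a⁻¹ by simp only [commutatorElement_def]; group,
    hcv]
  exact commutator_mem_commutator hv ha

theorem Walk.R_eq (w : Walk p S X H T b) (cb : CB p S X (b - 1)) (hb : 2 ≤ b)
    (hnc : ¬ Com p (H 0) (H b)) :
    ⁅Vo p (H 0), T 0⁆ = ⁅Vo p (H b), T (b - 1)⁆ := by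
  obtain ⟨-, -, -, e1⟩ := w.crit cb hb hnc
  obtain ⟨-, -, -, e2⟩ := w.rev.crit cb hb (fun h => hnc (by simpa using h.symm))
  simp only [Nat.sub_self, Nat.sub_zero] at e2
  rw [e1, e2, commutator_comm]

theorem Mem.R_le {T₀ H₀ : Subgroup Γ} (m : Mem p T₀ H₀) : ⁅Vo p H₀, T₀⁆ ≤ ctr T₀ :=
  commutator_le.2 fun _ hv _ ht => m.quad' hv ht

end CfsgLib.PushAmalgam
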