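import Cfsg.Agent.Lib.PushAmalgam.Line

/-!
# Pushing up in rank one: the window of a long line

In the indices of a line of length `2 c + 4` (`b = c + 2`) the commutator of `n ∈ V_c` and
`y ∈ V_{2c+3}` lies in `V_{c+1} ⋯ V_{2c+2}`, and for `c ≥ 1` even in `V_{c+1}`.
-/

set_option autoImplicit false
set_option linter.style.haveILetI false
set_option linter.unusedSectionVars false

open Subgroup
open scoped commutatorElement Pointwise
open CfsgLib.PushUp (MA cj mem_cj conj_mem_cj cj_mono card_cj ctr Fr)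

namespace CfsgLib.PushAmalgam

universe u

variable {Γ : Type u} [Group Γ] {p : ℕ} [Fact p.Prime] {S X : Subgroup Γ} {H T : ℕ → Subgroup Γ}

theorem Line.ne {b N : ℕ} (l : Line p S X b N H T) (cb : CB p S X (b - 1)) (hb : 2 ≤ b)
    (hN : 2 * b ≤ N + 2) {i : ℕ} (hi : i < N) : Vo p (H i) ≠ Vo p (H (i + 1)) := by
  intro e
  by_cases h : i + b ≤ N
  · exact l.crit i h ((l.walk.com_le cb (i := i + 1) (j := i + b) (by omega) h (by omega)
      (by omega)).of_eq e)
  · refine l.crit (i + 1 - b) (by omega) ?_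
    rw [show i + 1 - b + b = i + 1 by omega]
    exact ((l.walk.com_le cb (i := i + 1 - b) (j := i) (by omega) (by omega) (by omega)
      (by omega)).symm.of_eq e.symm).symm

theorem Line.central {b N : ℕ} (l : Line p S X b N H T) (cb : CB p S X (b - 1)) (hb : 2 ≤ b)
    (hN : 2 * b ≤ N + 2) {i : ℕ} (hi : i < N) :
    (∀ v ∈ Vo p (H i), ∀ t ∈ T i, ⁅t, v⁆ ∈ centralizer (H (i + 1) : Set Γ)) ∧
      ∀ v ∈ Vo p (H (i + 1)), ∀ t ∈ T i, ⁅t, v⁆ ∈ centralizer (H i : Set Γ) := by
  obtain ⟨m, m'⟩ := l.walk i hi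
  have ne := l.ne cb hb hN hi
  exact ⟨fun v hv t ht => m'.mem.comm_central m.mem ne (l.walk.V_le_Q cb (by omega) (by omega)
      (by omega) (by omega) (by omega)) hv ht,
    fun v hv t ht => m.mem.comm_central m'.mem ne.symm (l.walk.V_le_Q cb (by omega) (by omega)
      (by omega) (by omega) (by omega)) hv ht⟩

variable {c : ℕ}

/-- The commutator across a window lies in the product of the inner `V`'s. -/
theorem Line.mem_seg (l : Line p S X (c + 2) (2 * c + 4) H T) (cb : CB p S X (c + 1)) {n y : Γ}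
    (hn : n ∈ Vo p (H c)) (hy : y ∈ Vo p (H (2 * c + 3))) :
    ⁅n, y⁆ ∈ seg p H (c + 1) (c + 1) := by
  have w := l.walk
  have cb' : CB p S X (c + 2 - 1) := cb
  have hnT : n ∈ T (c + 1) := w.V_le_T' cb (by omega) (by omega) (by omega) hn
  have hyT : y ∈ T (c + 1) := w.V_le_T cb (i := c + 1) (by omega) (by omega) (by omega) hy
  obtain ⟨m0, -⟩ := w (c + 1) (by omega)
  obtain ⟨hP, -, -⟩ := w.seg_lg cb (by omega) (c + 1) (c + 1) le_rfl (by omega) _ m0
  rw [← (m0.mem.base.lg_cent hP).2]
  refine mem_inf.2 ⟨mul_mem (mul_mem (mul_mem hnT hyT) (inv_mem hnT)) (inv_mem hyT),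
    mem_centralizer_iff.2 fun t ht => ?_⟩
  obtain ⟨htT, htP⟩ := mem_inf.1 ht
  have hcom : ∀ j, c + 1 ≤ j → j ≤ 2 * c + 2 → ∀ v ∈ Vo p (H j), Commute v t := fun j h1 h2 v hv =>
    mem_centralizer_iff.1 htP v (le_seg (c + 1) (c + 1) j h1 (by omega) hv)
  have htQ : ∀ j, j ≤ c + 1 → t ∈ Qo p (H (c + 1 + j)) := by
    intro j
    induction j with
    | zero => exact fun _ => m0.mem.mem_Q htT (hcom (c + 1) le_rfl (by omega))
    | succ j ih =>
      intro hj
      obtain ⟨m, m'⟩ := w (c + 1 + j) (by omega)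
      exact m'.mem.mem_Q (m.mem.good.Q_le (ih (by omega))) (hcom _ (by omega) (by omega))
  obtain ⟨mp, mp'⟩ := w c (by omega)
  obtain ⟨mb, mb'⟩ := w (2 * c + 2) (by omega)
  have htQb : t ∈ Qo p (H (2 * c + 2)) := by
    have := htQ (c + 1) le_rfl
    rwa [show c + 1 + (c + 1) = 2 * c + 2 by omega] at this
  have htb : t ∈ T (2 * c + 2) := mb.mem.good.Q_le htQb
  have htp : t ∈ T c := mp'.mem.good.Q_le (htQ 0 (by omega))
  have hnb : n ∈ H (2 * c + 2) := by
    obtain ⟨-, m⟩ := w (2 * c + 1) (by omega)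
    exact m.mem.good.le (w.V_le_T' cb (i := 2 * c + 1) (by omega) (by omega) (by omega) hn)
  obtain ⟨c₁, hc₁⟩ : ∃ c₁, c₁ = ⁅t, n⁆ := ⟨_, rfl⟩
  obtain ⟨r, hr⟩ : ∃ r, r = ⁅t, y⁆ := ⟨_, rfl⟩
  have hcy : Commute y c₁ := commute_of_cent
    (hc₁ ▸ (l.central cb' (by omega) (by omega) (i := c) (by omega)).1 n hn t htp)
    (m0.mem.good.le hyT)
  have hrn : Commute n r := commute_of_cent
    (hr ▸ (l.central cb' (by omega) (by omega) (i := 2 * c + 2) (by omega)).2 y hy t htb) hnb
  have hyb : y ∈ T (2 * c + 2) := mb'.mem.V_le hy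
  have hry : Commute y r := commute_of_cent (hr ▸ mb'.mem.facts.quad y hy t htb).2 hyb
  have hnp : n ∈ T c := mp.mem.V_le hn
  have hcn : Commute n c₁ := commute_of_cent (hc₁ ▸ mp.mem.facts.quad n hn t htp).2 hnp
  -- both `n` and `y` translate `t`
  have hn' : n * t * n⁻¹ = c₁⁻¹ * t := by rw [hc₁]; simp only [commutatorElement_def]; group
  have hy' : y * t * y⁻¹ = r⁻¹ * t := by rw [hr]; simp only [commutatorElement_def]; group
  have hn'' : n⁻¹ * t * n = c₁ * t := by
    refine mul_left_cancel (a := n) (mul_right_cancel (b := n⁻¹) ?_)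
    calc n * (n⁻¹ * t * n) * n⁻¹ = t := by group
      _ = c₁ * (c₁⁻¹ * t) := by group
      _ = c₁ * (n * t * n⁻¹) := by rw [hn']
      _ = (c₁ * n) * t * n⁻¹ := by group
      _ = (n * c₁) * t * n⁻¹ := by rw [hcn.symm.eq]
      _ = _ := by group
  have hy'' : y⁻¹ * t * y = r * t := by
    refine mul_left_cancel (a := y) (mul_right_cancel (b := y⁻¹) ?_)
    calc y * (y⁻¹ * t * y) * y⁻¹ = t := by group
      _ = r * (r⁻¹ * t) := by group
      _ = r * (y * t * y⁻¹) := by rw [hy']
      _ = (r * y) * t * y⁻¹ := by group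
      _ = (y * r) * t * y⁻¹ := by rw [hry.symm.eq]
      _ = _ := by group
  have key : ⁅n, y⁆ * t * ⁅n, y⁆⁻¹ = t := by
    calc ⁅n, y⁆ * t * ⁅n, y⁆⁻¹ = n * (y * (n⁻¹ * (y⁻¹ * t * y) * n) * y⁻¹) * n⁻¹ := by
          simp only [commutatorElement_def]; group
      _ = n * (y * ((n⁻¹ * r) * t * n) * y⁻¹) * n⁻¹ := by rw [hy'']; group
      _ = n * (y * (r * (n⁻¹ * t * n)) * y⁻¹) * n⁻¹ := by rw [hrn.inv_left.eq]; group
      _ = n * ((y * r) * (c₁ * t) * y⁻¹) * n⁻¹ := by rw [hn'']; group
      _ = n * ((r * y) * (c₁ * t) * y⁻¹) * n⁻¹ := by rw [hry.eq]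
      _ = n * (r * (y * c₁) * t * y⁻¹) * n⁻¹ := by group
      _ = n * (r * (c₁ * y) * t * y⁻¹) * n⁻¹ := by rw [hcy.eq]
      _ = n * (r * c₁ * (y * t * y⁻¹)) * n⁻¹ := by group
      _ = n * (r * (c₁ * r⁻¹) * t) * n⁻¹ := by rw [hy']; group
      _ = (n * r) * c₁ * r⁻¹ * t * n⁻¹ := by group
      _ = r * (n * c₁) * r⁻¹ * t * n⁻¹ := by rw [hrn.eq]; group
      _ = r * c₁ * (n * r⁻¹) * t * n⁻¹ := by rw [hcn.eq]; group
      _ = r * c₁ * r⁻¹ * (n * t * n⁻¹) := by rw [hrn.inv_right.eq]; group
      _ = r * c₁ * r⁻¹ * c₁⁻¹ * t := by rw [hn']; group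
      _ = _ := by
        have hrc : Commute r c₁ := by
          refine (commute_of_cent (hc₁ ▸
            (l.central cb' (by omega) (by omega) (i := c) (by omega)).1 n hn t htp) ?_)
          exact m0.mem.good.le (hr ▸ mul_mem (mul_mem (mul_mem htT hyT) (inv_mem htT)) (inv_mem hyT))
        rw [hrc.eq]
        group
  calc t * ⁅n, y⁆ = (⁅n, y⁆ * t * ⁅n, y⁆⁻¹) * ⁅n, y⁆ := by rw [key]
    _ = _ := by group

/-- For `b ≥ 3` there is no long line. -/
theorem Line.false_of_three (l : Line p S X (c + 2) (2 * c + 4) H T) (cb : CB p S X (c + 1))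
    (hc : 1 ≤ c) : False := by
  have w := l.walk
  have cb' : CB p S X (c + 2 - 1) := cb
  obtain ⟨n, hn, y, hy, hny⟩ := l.moved c (by omega)
  rw [show c + 1 + (c + 2) = 2 * c + 3 by omega] at hy
  refine hny ?_
  have hyT : y ∈ T (c + 1) := w.V_le_T cb (i := c + 1) (by omega) (by omega) (by omega) hy
  obtain ⟨mp, mp'⟩ := w c (by omega)
  obtain ⟨m0, m0'⟩ := w (c + 1) (by omega)
  have hyH : y ∈ H (c + 1) := m0.mem.good.le hyT
  haveI := mp.mem.good.fin
  have mY : MemX p S X (cj y (T c)) (cj y (H c)) := mp.conj y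
  have mY' : MemX p S X (cj y (T c)) (H (c + 1)) := mp'.edge hyH
  have hyn : y * n * y⁻¹ ∈ Vo p (cj y (H c)) := by rw [Vo_cj]; exact conj_mem_cj hn
  have hconn : ∀ j ≤ c, Conn p S X (c + 1 - j + 1) (H j) (cj y (H c)) := by
    intro j hj
    have h1 := w.conn (c + 1 - j) j (by omega) (by omega)
    rw [show j + (c + 1 - j) = c + 1 by omega] at h1
    exact h1.trans (Conn.one mY' mY)
  have hY : ∀ j ≤ c, Com p (H j) (cj y (H c)) := by
    intro j hj
    rcases Nat.eq_zero_or_pos j with rfl | hpos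
    · by_contra hcom
      obtain ⟨f, hf⟩ : ∃ f : ℕ → Subgroup Γ, f = fun i => if i ≤ c + 1 then H i else cj y (H c) :=
        ⟨_, rfl⟩
      obtain ⟨g, hg⟩ : ∃ g : ℕ → Subgroup Γ, g = fun i => if i ≤ c then T i else cj y (T c) :=
        ⟨_, rfl⟩
      have hf1 : ∀ i, i ≤ c + 1 → f i = H i := fun i hi => by simp [hf, hi]
      have hg1 : ∀ i, i ≤ c → g i = T i := fun i hi => by simp [hg, hi]
      have hf2 : f (c + 2) = cj y (H c) := by simp [hf]
      have hg2 : g (c + 1) = cj y (T c) := by simp [hg]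
      have wY : Walk p S X f g (c + 2) := by
        intro i hi
        by_cases h : i ≤ c
        · rw [hf1 i (by omega), hf1 (i + 1) (by omega), hg1 i h]
          exact w i (by omega)
        · obtain rfl : i = c + 1 := by omega
          rw [hf1 (c + 1) le_rfl, hf2, hg2]
          exact ⟨mY', mY⟩
      have e1 := wY.R_eq cb' (by omega) (by rwa [hf1 0 (by omega), hf2])
      rw [hf1 0 (by omega), hg1 0 (by omega), hf2, show c + 2 - 1 = c + 1 by omega, hg2, Vo_cj,
        ← cj_commutator] at e1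
      have hRc : ⁅Vo p (H c), T c⁆ ≤ centralizer (H (c + 1) : Set Γ) := by
        refine commutator_le.2 fun v hv t ht => ?_
        rw [← commutatorElement_inv]
        exact inv_mem ((l.central cb' (by omega) (by omega) (i := c) (by omega)).1 v hv t ht)
      have hfix : cj y ⁅Vo p (H c), T c⁆ = ⁅Vo p (H c), T c⁆ :=
        CfsgLib.PushUp.cj_eq_of_mem_normalizer
          ((Subgroup.centralizer_le_normalizer _) (le_centralizer_iff.1 hRc hyH))
      rw [hfix] at e1
      have w2 : Walk p S X H T (c + 2) := fun i hi => w i (by omega)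
      have e2 := w2.R_eq cb' (by omega) (by simpa using l.crit 0 (by omega))
      rw [show c + 2 - 1 = c + 1 by omega] at e2
      have e3 := (w.sub (o := c) (b := c + 2) (by omega)).R_eq cb' (by omega)
        (by simpa using l.crit c (by omega))
      simp only [Nat.add_zero, show c + 2 - 1 = c + 1 by omega,
        show c + (c + 2) = 2 * c + 2 by omega, show c + (c + 1) = 2 * c + 1 by omega] at e3
      obtain ⟨-, mr⟩ := w (2 * c + 1) (by omega)
      have hR1 : ⁅Vo p (H (c + 2)), T (c + 1)⁆ ≤ centralizer (H (c + 2) : Set Γ) := by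
        have hjoint : T (c + 1) ⊔ T (c + 2) = H (c + 2) := l.joint (c + 1) (by omega)
        conv_rhs => rw [← hjoint]
        rw [CfsgLib.CDLat.centralizer_sup]
        refine le_inf ?_ ?_
        · rw [← e2, e1]
          exact hRc.trans (centralizer_le m0.mem.good.le)
        · obtain ⟨-, -, hprod, -⟩ := (w.sub (o := c + 2) (b := c + 2) (by omega)).crit cb' (by omega)
            (by simpa using l.crit (c + 2) (by omega))
          simp only [Nat.add_zero, show c + 2 + (c + 2) = 2 * c + 4 by omega] at hprod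
          rw [le_centralizer_iff]
          intro t ht
          obtain ⟨a, ha, q, hq, rfl⟩ := hprod t ht
          refine mul_mem ?_ ?_
          · have hle : ⁅Vo p (H (c + 2)), T (c + 1)⁆ ≤ Vo p (H (2 * c + 2)) := by
              rw [← e2, e1, e3]
              exact (Mem.R_le mr.mem).trans mr.mem.facts.zle
            exact centralizer_le (SetLike.coe_subset_coe.2 hle)
              ((w.com_le cb (i := 2 * c + 2) (j := 2 * c + 4) (by omega) (by omega) (by omega)
                (by omega)).le_cent ha)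
          · exact (le_centralizer_iff.1 ((Mem.R_le m0'.mem).trans inf_le_right))
              (m0'.mem.good.Q_le hq)
      obtain ⟨t, ht, htQ⟩ := SetLike.not_le_iff_exists.1 m0'.mem.good.not_le_Q
      refine htQ (m0'.mem.mem_Q ht fun v hv => ?_)
      have h1 : ⁅t, v⁆ ∈ centralizer (H (c + 1 + 1) : Set Γ) := by
        rw [← commutatorElement_inv]
        exact inv_mem (hR1 (commutator_mem_commutator hv ht))
      exact (commutatorElement_eq_one_iff_commute.1 (m0'.mem.single hv ht h1)).symm
    · exact cb _ _ _ (by omega) (hconn j hj)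
  have key : ∀ j, j ≤ c + 1 → ⁅n, y⁆ ∈ seg p H (c + 1) (c + 1 - j) := by
    intro j
    induction j with
    | zero => exact fun _ => l.mem_seg cb hn hy
    | succ j ih =>
      intro hj
      have hm := ih (by omega)
      obtain ⟨k, hk⟩ : ∃ k, c + 1 - j = k + 1 := ⟨c - j, by omega⟩
      rw [hk] at hm
      rw [show c + 1 - (j + 1) = k by omega]
      have hle : seg p H (c + 1) (k + 1) ≤ seg p H (c + 1) k ⊔ Vo p (H (k + (c + 2))) := by
        refine seg_le _ _ fun i h1 h2 => ?_
        rcases Nat.lt_or_ge i (k + (c + 2)) with h | h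
        · exact (le_seg k (c + 1) i h1 (by omega)).trans le_sup_left
        · obtain rfl : i = k + (c + 2) := by omega
          exact le_sup_right
      have hnorm : seg p H (c + 1) k ≤ normalizer (Vo p (H (k + (c + 2))) : Set Γ) :=
        (seg_le (Y := centralizer (Vo p (H (k + (c + 2))) : Set Γ)) _ _ fun i h1 h2 =>
          (w.com cb (i := k + (c + 2)) (j := i) (by omega) (by omega) (by omega) (by omega)
            (by omega)).le_cent).trans (Subgroup.centralizer_le_normalizer _)
      have hm' := hle hm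
      rw [← SetLike.mem_coe, coe_mul_of_left_le_normalizer_right _ _ hnorm] at hm'
      obtain ⟨u, hu, z, hz, e⟩ := hm'
      obtain ⟨-, mk⟩ := w (k + c + 1) (by omega)
      have hzQ : z ∈ ctr (T (k + c + 1)) := by
        obtain ⟨hVT, hnQ, -, -⟩ := ((w.sub (o := k) (b := c + 2) (by omega)).rev).crit cb' (by omega)
          (by
            intro hcom
            refine l.crit k (by omega) ?_
            simpa using hcom.symm)
        simp only [Nat.sub_self, Nat.sub_zero, Nat.add_zero,
          show k + (c + 2 - 1) = k + c + 1 by omega, show k + (c + 2) = k + c + 2 by omega] at hVT hnQ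
        obtain ⟨a, ha, haQ⟩ := SetLike.not_le_iff_exists.1 hnQ
        refine mk.mem.facts.fix z ?_ a (hVT ha) haQ ?_
        · rwa [show k + c + 1 + 1 = k + (c + 2) by omega]
        · have hau : Commute a u := by
            refine (commute_of_cent ?_ hu).symm
            exact seg_le (Y := centralizer (Vo p (H k) : Set Γ)) _ _ (fun i h1 h2 =>
              (w.com cb (i := k) (j := i) (by omega) (by omega) (by omega) (by omega)
                (by omega)).le_cent) |> le_centralizer_iff.1 <| ha
          have han : Commute a n :=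
            w.com cb (i := k) (j := c) (by omega) (by omega) (by omega) (by omega) (by omega) a ha n hn
          have ham : Commute a (u * z) := by
            rw [show u * z = n * (y * n * y⁻¹)⁻¹ from e.trans (by
              simp only [commutatorElement_def]; group)]
            exact han.mul_right (hY k (by omega) a ha _ hyn).inv_right
          have := hau.inv_right.mul_right ham
          rwa [inv_mul_cancel_left] at this
      rw [← e]
      refine mul_mem hu (le_seg k (c + 1) (k + c + 1) (by omega) (by omega) ?_)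
      obtain ⟨mk', -⟩ := w (k + c + 1) (by omega)
      exact mk'.mem.facts.zle hzQ
  simpa [seg] using key (c + 1) le_rfl

end CfsgLib.PushAmalgam
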